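import Mathlib

set_option autoImplicit false

namespace Groth.Agent.H36

open IsLocalRing TensorProduct

theorem add_pow_sub_mem {K T : Type*} [Field K] [CommRing T] (q : ℕ) [hq : ExpChar K q]
    (J : Ideal T) (hqJ : CharP K q → (q : T) ∈ J) (x y : T) (N : ℕ) :
    (x + y) ^ q ^ N - x ^ q ^ N - y ^ q ^ N ∈ J := by
  cases hq with
  | zero =>
    rw [one_pow, pow_one, pow_one, pow_one]
    have : x + y - x - y = 0 := by ring
    rw [this]
    exact J.zero_mem
  | prime hprime =>
    have hqT := hqJ inferInstance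
    rw [add_pow_prime_pow_eq hprime x y N]
    have : ∀ s : T, x ^ q ^ N + y ^ q ^ N + (q : T) * x * y * s - x ^ q ^ N - y ^ q ^ N =
        (q : T) * (x * y * s) := by
      intro s; ring
    rw [this]
    exact Ideal.mul_mem_right _ _ hqT

/-- Abstract key lemma: if `T` is additively generated by products `f b * g c`, and the residue field
of `C` is purely inseparable over that of `A`, then every element of `T` has a `q^k`-th power
congruent to an element of the image of `f` modulo the extension of the maximal ideal of `C`. -/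
theorem key {A B C T : Type*} [CommRing A] [CommRing B] [CommRing C] [CommRing T]
    [IsLocalRing A] [IsLocalRing C] [Algebra A C] [IsLocalHom (algebraMap A C)] [Algebra A B]
    [IsPurelyInseparable (ResidueField A) (ResidueField C)]
    (f : B →+* T) (g : C →+* T) (hfg : ∀ a : A, f (algebraMap A B a) = g (algebraMap A C a))
    (hind : ∀ (P : T → Prop), P 0 → (∀ b c, P (f b * g c)) →
      (∀ x y, P x → P y → P (x + y)) → ∀ x, P x) :
    ∀ x : T, ∃ (k : ℕ) (b : B),
      x ^ (ringExpChar (ResidueField A)) ^ k - f b ∈ Ideal.map g (maximalIdeal C) := by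
  classical
  set q := ringExpChar (ResidueField A) with hq
  haveI : ExpChar (ResidueField A) q := ringExpChar.expChar _
  set J := Ideal.map g (maximalIdeal C) with hJ
  have hgJ : ∀ m ∈ maximalIdeal C, g m ∈ J := fun m hm => Ideal.mem_map_of_mem g hm
  have hadd : ∀ (x y : T) (N : ℕ), (x + y) ^ q ^ N - x ^ q ^ N - y ^ q ^ N ∈ J := by
    intro x y N
    refine add_pow_sub_mem (K := ResidueField A) q J ?_ x y N
    intro hchar
    have hqC : (q : C) ∈ maximalIdeal C := by
      rw [← IsLocalRing.residue_eq_zero_iff, map_natCast]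
      have h1 : ((q : ResidueField A)) = 0 := CharP.cast_eq_zero _ q
      have h2 := congrArg (algebraMap (ResidueField A) (ResidueField C)) h1
      rwa [map_natCast, map_zero] at h2
    have := hgJ _ hqC
    rwa [map_natCast] at this
  have hpow : ∀ (u v : T) (m : ℕ), u - v ∈ J → u ^ m - v ^ m ∈ J := fun u v m huv =>
    Ideal.mem_of_dvd _ (sub_dvd_pow_sub_pow u v m) huv
  refine hind _ ?_ ?_ ?_
  · refine ⟨0, 0, ?_⟩
    rw [pow_zero, pow_one, map_zero, sub_zero]
    exact J.zero_mem
  · intro b c
    obtain ⟨k, abar, habar⟩ := IsPurelyInseparable.pow_mem (ResidueField A) q (residue C c)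
    obtain ⟨a, rfl⟩ := IsLocalRing.residue_surjective abar
    rw [IsLocalRing.ResidueField.algebraMap_residue, ← map_pow, eq_comm, ← sub_eq_zero, ← map_sub,
      IsLocalRing.residue_eq_zero_iff] at habar
    refine ⟨k, b ^ q ^ k * algebraMap A B a, ?_⟩
    have : (f b * g c) ^ q ^ k - f (b ^ q ^ k * algebraMap A B a) =
        f (b ^ q ^ k) * g (c ^ q ^ k - algebraMap A C a) := by
      rw [map_mul, hfg, map_sub, map_pow, map_pow, mul_pow]
      ring
    rw [this]
    exact Ideal.mul_mem_left _ _ (hgJ _ habar)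
  · rintro x y ⟨k1, b1, h1⟩ ⟨k2, b2, h2⟩
    refine ⟨k1 + k2, b1 ^ q ^ k2 + b2 ^ q ^ k1, ?_⟩
    have e1 : x ^ q ^ (k1 + k2) - f (b1 ^ q ^ k2) ∈ J := by
      rw [pow_add, pow_mul, map_pow]
      exact hpow _ _ _ h1
    have e2 : y ^ q ^ (k1 + k2) - f (b2 ^ q ^ k1) ∈ J := by
      rw [add_comm k1 k2, pow_add, pow_mul, map_pow]
      exact hpow _ _ _ h2
    have : (x + y) ^ q ^ (k1 + k2) - f (b1 ^ q ^ k2 + b2 ^ q ^ k1) =
        ((x + y) ^ q ^ (k1 + k2) - x ^ q ^ (k1 + k2) - y ^ q ^ (k1 + k2)) +
        (x ^ q ^ (k1 + k2) - f (b1 ^ q ^ k2)) + (y ^ q ^ (k1 + k2) - f (b2 ^ q ^ k1)) := by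
      rw [map_add]; ring
    rw [this]
    exact J.add_mem (J.add_mem (hadd x y _) e1) e2

section

variable (A B C : Type*) [CommRing A] [CommRing B] [CommRing C]
  [IsLocalRing A] [IsLocalRing B] [IsLocalRing C] [Algebra A B] [Algebra A C]
  [IsLocalHom (algebraMap A B)] [IsLocalHom (algebraMap A C)]

/-- the tensor product of local rings along local homomorphisms is nontrivial -/
theorem nontrivial_tensor : Nontrivial (B ⊗[A] C) := by
  let X := ResidueField B ⊗[ResidueField A] ResidueField C
  haveI : Nontrivial X :=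
    Algebra.TensorProduct.nontrivial_of_algebraMap_injective_of_flat_left (ResidueField A)
      (ResidueField B) (ResidueField C) (algebraMap (ResidueField A) (ResidueField C)).injective
  let f1 : B →ₐ[A] X :=
    { toRingHom := (Algebra.TensorProduct.includeLeftRingHom :
        ResidueField B →+* X).comp (residue B)
      commutes' := fun a => by
        rw [Algebra.TensorProduct.algebraMap_apply]
        rfl }
  let f2 : C →ₐ[A] X :=
    { toRingHom := (Algebra.TensorProduct.includeRight :
        ResidueField C →ₐ[ResidueField A] X).toRingHom.comp (residue C)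
      commutes' := fun a => by
        rw [Algebra.TensorProduct.algebraMap_apply]
        change (1 : ResidueField B) ⊗ₜ[ResidueField A] (residue C (algebraMap A C a)) =
          (residue B (algebraMap A B a)) ⊗ₜ[ResidueField A] (1 : ResidueField C)
        rw [← IsLocalRing.ResidueField.algebraMap_residue, ← IsLocalRing.ResidueField.algebraMap_residue,
          Algebra.algebraMap_eq_smul_one, Algebra.algebraMap_eq_smul_one (A := ResidueField B),
          TensorProduct.tmul_smul, TensorProduct.smul_tmul'] }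
  let φ : B ⊗[A] C →ₐ[A] X := Algebra.TensorProduct.lift f1 f2 (fun _ _ => Commute.all _ _)
  exact φ.toRingHom.domain_nontrivial

variable [Algebra.IsIntegral A C]

/-- contraction of a maximal ideal of the tensor product to both factors -/
theorem comap_max (n : Ideal (B ⊗[A] C)) [hn : n.IsMaximal] :
    n.comap (Algebra.TensorProduct.includeLeft : B →ₐ[A] B ⊗[A] C).toRingHom = maximalIdeal B ∧
    n.comap (Algebra.TensorProduct.includeRight : C →ₐ[A] B ⊗[A] C).toRingHom =
      maximalIdeal C := by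
  have h1 : n.comap (Algebra.TensorProduct.includeLeft : B →ₐ[A] B ⊗[A] C).toRingHom =
      maximalIdeal B := by
    have : (n.comap (algebraMap B (B ⊗[A] C))).IsMaximal :=
      Ideal.isMaximal_comap_of_isIntegral_of_isMaximal n
    exact IsLocalRing.eq_maximalIdeal this
  refine ⟨h1, ?_⟩
  set q' := n.comap (Algebra.TensorProduct.includeRight : C →ₐ[A] B ⊗[A] C).toRingHom with hq'
  haveI : q'.IsPrime := Ideal.comap_isPrime _ n
  have h2 : q'.comap (algebraMap A C) = maximalIdeal A := by
    have e1 : q'.comap (algebraMap A C) =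
        (n.comap (Algebra.TensorProduct.includeLeft : B →ₐ[A] B ⊗[A] C).toRingHom).comap
          (algebraMap A B) := by
      rw [hq', Ideal.comap_comap, Ideal.comap_comap]
      congr 1
      ext a
      simp
    rw [e1, h1]
    exact ((Ideal.LiesOver.over (p := maximalIdeal A) (P := maximalIdeal B))).symm
  have h3 : q'.IsMaximal := by
    apply Ideal.isMaximal_of_isIntegral_of_isMaximal_comap (R := A) q'
    rw [h2]
    exact IsLocalRing.maximalIdeal.isMaximal A
  exact IsLocalRing.eq_maximalIdeal h3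

/-- locality from a "power in the image" property -/
theorem local_of_pow {B' T : Type*} [CommRing B'] [CommRing T] [Nontrivial T] (f : B' →+* T)
    (J : Ideal T) (m : Ideal B')
    (hJ : ∀ n : Ideal T, n.IsMaximal → J ≤ n) (hm : ∀ n : Ideal T, n.IsMaximal → n.comap f = m)
    (hpow : ∀ x : T, ∃ k : ℕ, 0 < k ∧ ∃ b : B', x ^ k - f b ∈ J) :
    ∃! n : Ideal T, n.IsMaximal := by
  obtain ⟨n0, hn0⟩ := Ideal.exists_maximal T
  refine ⟨n0, hn0, fun n hn => ?_⟩
  have hle : ∀ n1 n2 : Ideal T, n1.IsMaximal → n2.IsMaximal → n1 ≤ n2 := by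
    intro n1 n2 h1 h2 x hx
    obtain ⟨k, hk, b, hb⟩ := hpow x
    have hx1 : f b ∈ n1 := by
      have : f b = x ^ k - (x ^ k - f b) := by ring
      rw [this]
      exact n1.sub_mem (n1.pow_mem_of_mem hx k hk) (hJ n1 h1 hb)
    have hb1 : b ∈ n1.comap f := hx1
    rw [hm n1 h1, ← hm n2 h2] at hb1
    have hx2 : x ^ k ∈ n2 := by
      have : x ^ k = (x ^ k - f b) + f b := by ring
      rw [this]
      exact n2.add_mem (hJ n2 h2 hb) hb1
    exact h2.isPrime.mem_of_pow_mem k hx2
  exact (hn.eq_of_le hn0.ne_top (hle n n0 hn hn0))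

end

section main

variable (A B C : Type*) [CommRing A] [CommRing B] [CommRing C]
  [IsLocalRing A] [IsLocalRing B] [IsLocalRing C] [Algebra A B] [Algebra A C]
  [IsLocalHom (algebraMap A B)] [IsLocalHom (algebraMap A C)] [Algebra.IsIntegral A C]

theorem incl_comm (a : A) :
    (Algebra.TensorProduct.includeLeft : B →ₐ[A] B ⊗[A] C).toRingHom (algebraMap A B a) =
      (Algebra.TensorProduct.includeRight : C →ₐ[A] B ⊗[A] C).toRingHom (algebraMap A C a) := by
  change (algebraMap A B a) ⊗ₜ[A] (1 : C) = (1 : B) ⊗ₜ[A] (algebraMap A C a)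
  rw [Algebra.algebraMap_eq_smul_one, Algebra.algebraMap_eq_smul_one, TensorProduct.smul_tmul]

theorem localHoms_of_unique (hloc : IsLocalRing (B ⊗[A] C)) :
    IsLocalHom (Algebra.TensorProduct.includeLeft : B →ₐ[A] B ⊗[A] C).toRingHom ∧
      IsLocalHom (Algebra.TensorProduct.includeRight : C →ₐ[A] B ⊗[A] C).toRingHom := by
  have hcm := comap_max A B C (maximalIdeal (B ⊗[A] C))
  refine ⟨⟨fun b hb => ?_⟩, ⟨fun c hc => ?_⟩⟩
  · by_contra hnu
    have hbm : b ∈ maximalIdeal B := (IsLocalRing.mem_maximalIdeal b).mpr hnu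
    rw [← hcm.1] at hbm
    exact ((IsLocalRing.mem_maximalIdeal _).mp hbm) hb
  · by_contra hnu
    have hcm' : c ∈ maximalIdeal C := (IsLocalRing.mem_maximalIdeal c).mpr hnu
    rw [← hcm.2] at hcm'
    exact ((IsLocalRing.mem_maximalIdeal _).mp hcm') hc

/-- residue field of the right factor purely inseparable -/
theorem tensor_local_right [IsPurelyInseparable (ResidueField A) (ResidueField C)] :
    ∃ _ : IsLocalRing (B ⊗[A] C),
      IsLocalHom (Algebra.TensorProduct.includeLeft : B →ₐ[A] B ⊗[A] C).toRingHom ∧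
      IsLocalHom (Algebra.TensorProduct.includeRight : C →ₐ[A] B ⊗[A] C).toRingHom ∧
      ∀ x : B ⊗[A] C, ∃ (k : ℕ) (b : B),
        x ^ (ringExpChar (ResidueField A)) ^ k - b ⊗ₜ[A] (1 : C) ∈ maximalIdeal (B ⊗[A] C) := by
  classical
  haveI : Nontrivial (B ⊗[A] C) := nontrivial_tensor A B C
  set fL : B →+* B ⊗[A] C :=
    (Algebra.TensorProduct.includeLeft : B →ₐ[A] B ⊗[A] C).toRingHom with hfL
  set fR : C →+* B ⊗[A] C :=
    (Algebra.TensorProduct.includeRight : C →ₐ[A] B ⊗[A] C).toRingHom with hfR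
  have hcm : ∀ n : Ideal (B ⊗[A] C), n.IsMaximal →
      n.comap fL = maximalIdeal B ∧ n.comap fR = maximalIdeal C := fun n hn => by
    haveI := hn
    exact comap_max A B C n
  have hk := key (A := A) (B := B) (C := C) fL fR (incl_comm A B C) (by
    intro P h0 hm ha x
    induction x using TensorProduct.induction_on with
    | zero => exact h0
    | tmul b c =>
      have := hm b c
      have e : fL b * fR c = b ⊗ₜ[A] c := by
        change (b ⊗ₜ[A] (1 : C)) * ((1 : B) ⊗ₜ[A] c) = _
        rw [Algebra.TensorProduct.tmul_mul_tmul, mul_one, one_mul]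
      rwa [e] at this
    | add x y hx hy => exact ha x y hx hy)
  have hJ : ∀ n : Ideal (B ⊗[A] C), n.IsMaximal → Ideal.map fR (maximalIdeal C) ≤ n := by
    intro n hn
    rw [Ideal.map_le_iff_le_comap, (hcm n hn).2]
  have huniq : ∃! n : Ideal (B ⊗[A] C), n.IsMaximal := by
    refine local_of_pow fL (Ideal.map fR (maximalIdeal C)) (maximalIdeal B) hJ
      (fun n hn => (hcm n hn).1) ?_
    intro x
    obtain ⟨k, b, hb⟩ := hk x
    exact ⟨_, expChar_pow_pos (ResidueField A) _ k, b, hb⟩
  have hloc : IsLocalRing (B ⊗[A] C) := IsLocalRing.of_unique_max_ideal huniq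
  refine ⟨hloc, (localHoms_of_unique A B C hloc).1, (localHoms_of_unique A B C hloc).2, ?_⟩
  intro x
  obtain ⟨k, b, hb⟩ := hk x
  exact ⟨k, b, hJ _ (IsLocalRing.maximalIdeal.isMaximal _) hb⟩

/-- residue field of the left factor purely inseparable (right factor integral) -/
theorem tensor_local_left [IsPurelyInseparable (ResidueField A) (ResidueField B)] :
    ∃ _ : IsLocalRing (B ⊗[A] C),
      IsLocalHom (Algebra.TensorProduct.includeLeft : B →ₐ[A] B ⊗[A] C).toRingHom ∧
      IsLocalHom (Algebra.TensorProduct.includeRight : C →ₐ[A] B ⊗[A] C).toRingHom ∧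
      ∀ x : B ⊗[A] C, ∃ (k : ℕ) (c : C),
        x ^ (ringExpChar (ResidueField A)) ^ k - (1 : B) ⊗ₜ[A] c ∈ maximalIdeal (B ⊗[A] C) := by
  classical
  haveI : Nontrivial (B ⊗[A] C) := nontrivial_tensor A B C
  set fL : B →+* B ⊗[A] C :=
    (Algebra.TensorProduct.includeLeft : B →ₐ[A] B ⊗[A] C).toRingHom with hfL
  set fR : C →+* B ⊗[A] C :=
    (Algebra.TensorProduct.includeRight : C →ₐ[A] B ⊗[A] C).toRingHom with hfR
  have hcm : ∀ n : Ideal (B ⊗[A] C), n.IsMaximal →
      n.comap fL = maximalIdeal B ∧ n.comap fR = maximalIdeal C := fun n hn => by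
    haveI := hn
    exact comap_max A B C n
  have hk := key (A := A) (B := C) (C := B) fR fL (fun a => (incl_comm A B C a).symm) (by
    intro P h0 hm ha x
    induction x using TensorProduct.induction_on with
    | zero => exact h0
    | tmul b c =>
      have := hm c b
      have e : fR c * fL b = b ⊗ₜ[A] c := by
        change ((1 : B) ⊗ₜ[A] c) * (b ⊗ₜ[A] (1 : C)) = _
        rw [Algebra.TensorProduct.tmul_mul_tmul, mul_one, one_mul]
      rwa [e] at this
    | add x y hx hy => exact ha x y hx hy)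
  have hJ : ∀ n : Ideal (B ⊗[A] C), n.IsMaximal → Ideal.map fL (maximalIdeal B) ≤ n := by
    intro n hn
    rw [Ideal.map_le_iff_le_comap, (hcm n hn).1]
  have huniq : ∃! n : Ideal (B ⊗[A] C), n.IsMaximal := by
    refine local_of_pow fR (Ideal.map fL (maximalIdeal B)) (maximalIdeal C) hJ
      (fun n hn => (hcm n hn).2) ?_
    intro x
    obtain ⟨k, b, hb⟩ := hk x
    exact ⟨_, expChar_pow_pos (ResidueField A) _ k, b, hb⟩
  have hloc : IsLocalRing (B ⊗[A] C) := IsLocalRing.of_unique_max_ideal huniq
  refine ⟨hloc, (localHoms_of_unique A B C hloc).1, (localHoms_of_unique A B C hloc).2, ?_⟩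
  intro x
  obtain ⟨k, c, hc⟩ := hk x
  exact ⟨k, c, hJ _ (IsLocalRing.maximalIdeal.isMaximal _) hc⟩

end main

end Groth.Agent.H36
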