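import Groth.Agent.H36.FreeEpiRestrict
import Groth.Agent.H8.FreeMod
import Groth.Agent.H8.StalkLocal

/-!
# Sections freely generating the restriction of a module to an open

If sections `σ i` of `N` over `U` generate `N` locally on `U` and are linearly independent over
every open of `U`, then `N|_U ≅ O_U^k`.
-/

set_option autoImplicit false
universe u

namespace Groth.Agent.H36.FreeIsoRestrict

open CategoryTheory AlgebraicGeometry Opposite TopologicalSpace Limits
open Groth.Agent.H18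

variable {X : Scheme.{u}}

/-- the map `O_U^k ⟶ N|_U` defined by sections `σ i` of `N` over `U`. -/
noncomputable def secMap (N : X.Modules) (U : X.Opens) (k : ℕ) (σ : Fin k → Γ(N, U)) :
    FlatMod.freeMod (↑U) k ⟶ N.restrict U.ι :=
  Sigma.desc fun i =>
    (SheafOfModules.unitHomEquiv (R := (↑U : Scheme.{u}).ringCatSheaf) (N.restrict U.ι)).symm
      (RestrictUnit.restrictSections U N (σ i))

set_option backward.isDefEq.respectTransparency false in
lemma secMap_app_ι (N : X.Modules) (U : X.Opens) (k : ℕ) (σ : Fin k → Γ(N, U)) (i : Fin k)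
    (V : (↑U : Scheme.{u}).Opens) (r : Γ((↑U : Scheme.{u}), V)) :
    Scheme.Modules.Hom.app (secMap N U k σ) V
        (Scheme.Modules.Hom.app (Groth.Agent.H8.freeι (↑U) k i) V r) =
      (show Γ(N.restrict U.ι, V) from
        ((U.ι.appIso V).inv r • N.presheaf.map (homOfLE (U.ι_image_le V)).op (σ i) :
          Γ(N, U.ι ''ᵁ V))) := by
  let φ : ∀ _ : Fin k, (SheafOfModules.unit (↑U : Scheme.{u}).ringCatSheaf :
      (↑U : Scheme.{u}).Modules) ⟶ N.restrict U.ι := fun i =>
    (SheafOfModules.unitHomEquiv (R := (↑U : Scheme.{u}).ringCatSheaf) (N.restrict U.ι)).symm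
      (RestrictUnit.restrictSections U N (σ i))
  have h1 : Groth.Agent.H8.freeι (↑U) k i ≫ secMap N U k σ = φ i := Sigma.ι_desc _ _
  have h2 := congrArg (fun f : (SheafOfModules.unit (↑U : Scheme.{u}).ringCatSheaf :
      (↑U : Scheme.{u}).Modules) ⟶ N.restrict U.ι => Scheme.Modules.Hom.app f V r) h1
  refine h2.trans ?_
  exact FreeEpi.unitHomEquiv_symm_app_apply (N.restrict U.ι)
    (RestrictUnit.restrictSections U N (σ i)) V r

set_option backward.isDefEq.respectTransparency false in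
/-- `secMap` on a general section. -/
lemma secMap_app (N : X.Modules) (U : X.Opens) (k : ℕ) (σ : Fin k → Γ(N, U))
    (V : (↑U : Scheme.{u}).Opens) (x : Γ(FlatMod.freeMod (↑U) k, V)) :
    Scheme.Modules.Hom.app (secMap N U k σ) V x =
      (show Γ(N.restrict U.ι, V) from
        (∑ i, (U.ι.appIso V).inv (Scheme.Modules.Hom.app (Groth.Agent.H8.freeπ (↑U) k i) V x) •
          N.presheaf.map (homOfLE (U.ι_image_le V)).op (σ i) : Γ(N, U.ι ''ᵁ V))) := by
  have hx : x = ∑ i, Scheme.Modules.Hom.app (Groth.Agent.H8.freeι (↑U) k i) V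
      (Scheme.Modules.Hom.app (Groth.Agent.H8.freeπ (↑U) k i) V x) :=
    ((Groth.Agent.H8.sectionsFreeEquiv (↑U) k V).left_inv x).symm
  conv_lhs => rw [hx]
  rw [map_sum]
  refine (Finset.sum_congr rfl fun i _ => secMap_app_ι N U k σ i V _).trans ?_
  rfl

set_option backward.isDefEq.respectTransparency false in
theorem epi_secMap (N : X.Modules) (U : X.Opens) (k : ℕ) (σ : Fin k → Γ(N, U))
    (h : ∀ (W : X.Opens) (hW : W ≤ U) (t : Γ(N, W)) (x : X), x ∈ W →
      ∃ (W' : X.Opens) (hW' : W' ≤ W), x ∈ W' ∧ ∃ c : Fin k → Γ(X, W'),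
        N.presheaf.map (homOfLE hW').op t =
          ∑ i, c i • N.presheaf.map (homOfLE (hW'.trans hW)).op (σ i)) :
    Epi (secMap N U k σ) := by
  let Y : Scheme.{u} := ↑U
  apply GlobGen.epi_of_locally
  intro V t y hy
  obtain ⟨W', hW', hxW', c, hc⟩ := h (U.ι ''ᵁ V) (U.ι_image_le V) t (U.ι y) ⟨y, hy, rfl⟩
  let V' : Y.Opens := U.ι ⁻¹ᵁ W'
  have hV'V : V' ≤ V := by
    intro z hz
    have hz' : U.ι z ∈ U.ι ''ᵁ V := hW' hz
    obtain ⟨v, hv, hvz⟩ := hz'
    have hvz' : v = z := U.ι.isOpenEmbedding.injective hvz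
    exact hvz' ▸ hv
  have hyV' : y ∈ V' := hxW'
  have hle : U.ι ''ᵁ V' ≤ W' := U.ι.image_preimage_le W'
  refine ⟨V', hV'V, hyV', ?_⟩
  let r : Fin k → Γ(Y, V') := fun i =>
    (U.ι.appIso V').hom (X.presheaf.map (homOfLE hle).op (c i))
  refine ⟨∑ i, Scheme.Modules.Hom.app (Groth.Agent.H8.freeι (↑U) k i) V' (r i), ?_⟩
  rw [map_sum]
  have h2 : ∀ i, Scheme.Modules.Hom.app (secMap N U k σ) V'
      (Scheme.Modules.Hom.app (Groth.Agent.H8.freeι (↑U) k i) V' (r i)) =
      (show Γ(N.restrict U.ι, V') from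
      (X.presheaf.map (homOfLE hle).op (c i) •
        N.presheaf.map (homOfLE (U.ι_image_le V')).op (σ i) : Γ(N, U.ι ''ᵁ V'))) := by
    intro i
    rw [secMap_app_ι]
    have h : (U.ι.appIso V').inv (r i) = X.presheaf.map (homOfLE hle).op (c i) := by
      show (U.ι.appIso V').inv ((U.ι.appIso V').hom _) = _
      rw [← CommRingCat.comp_apply, Iso.hom_inv_id]
      rfl
    rw [h]
  have h3 := congrArg (fun z => N.presheaf.map (homOfLE hle).op z) hc
  simp only [map_sum, Groth.Agent.H8.res_res, Groth.Agent.H8.res_smul] at h3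
  refine (Finset.sum_congr rfl fun i _ => h2 i).trans ?_
  exact h3.symm

set_option backward.isDefEq.respectTransparency false in
theorem mono_secMap (N : X.Modules) (U : X.Opens) (k : ℕ) (σ : Fin k → Γ(N, U))
    (hinj : ∀ (W : X.Opens) (hW : W ≤ U) (c : Fin k → Γ(X, W)),
      ∑ i, c i • N.presheaf.map (homOfLE hW).op (σ i) = 0 → c = 0) :
    Mono (secMap N U k σ) := by
  apply Groth.Agent.H8.mono_of_app_injective
  intro V
  rw [injective_iff_map_eq_zero]
  intro x hx
  rw [secMap_app] at hx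
  have hc := hinj (U.ι ''ᵁ V) (U.ι_image_le V)
    (fun i => (U.ι.appIso V).inv
      (Scheme.Modules.Hom.app (Groth.Agent.H8.freeπ (↑U) k i) V x)) hx
  have hc' : ∀ i, Scheme.Modules.Hom.app (Groth.Agent.H8.freeπ (↑U) k i) V x = 0 := by
    intro i
    have h1 := congrFun hc i
    have h2 : (U.ι.appIso V).hom ((U.ι.appIso V).inv
        (Scheme.Modules.Hom.app (Groth.Agent.H8.freeπ (↑U) k i) V x)) =
        (U.ι.appIso V).hom 0 := congrArg _ h1
    rw [← CommRingCat.comp_apply, Iso.inv_hom_id, map_zero] at h2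
    exact h2
  have hx' : x = ∑ i, Scheme.Modules.Hom.app (Groth.Agent.H8.freeι (↑U) k i) V
      (Scheme.Modules.Hom.app (Groth.Agent.H8.freeπ (↑U) k i) V x) :=
    ((Groth.Agent.H8.sectionsFreeEquiv (↑U) k V).left_inv x).symm
  rw [hx']
  refine Finset.sum_eq_zero fun i _ => ?_
  rw [hc' i, map_zero]

/-- Sections `σ i` of `N` over `U` which generate `N` locally on `U` and are linearly
independent over every open of `U` trivialise `N|_U`. -/
theorem nonempty_restrict_iso_freeMod_of_sections {X : Scheme.{u}} (N : X.Modules) (U : X.Opens)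
    (k : ℕ) (σ : Fin k → Γ(N, U))
    (hsurj : ∀ (W : X.Opens) (hW : W ≤ U) (t : Γ(N, W)) (x : X), x ∈ W →
      ∃ (W' : X.Opens) (hW' : W' ≤ W), x ∈ W' ∧ ∃ c : Fin k → Γ(X, W'),
        N.presheaf.map (homOfLE hW').op t =
          ∑ i, c i • N.presheaf.map (homOfLE (hW'.trans hW)).op (σ i))
    (hinj : ∀ (W : X.Opens) (hW : W ≤ U) (c : Fin k → Γ(X, W)),
      ∑ i, c i • N.presheaf.map (homOfLE hW).op (σ i) = 0 → c = 0) :
    Nonempty (N.restrict U.ι ≅ FlatMod.freeMod (↑U) k) := by
  have h1 : Epi (secMap N U k σ) := epi_secMap N U k σ hsurj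
  have h2 : Mono (secMap N U k σ) := mono_secMap N U k σ hinj
  have h3 : IsIso (secMap N U k σ) := isIso_of_mono_of_epi _
  exact ⟨(asIso (secMap N U k σ)).symm⟩

end Groth.Agent.H36.FreeIsoRestrict
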