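import Groth.Agent.H36.IdealMulAffine
import Groth.Agent.H21.EpiPush
import Groth.Agent.H8.CohKerCoker

/-!
# Lifting `I^m G ⟶ G` through a morphism that is an isomorphism off `V(I)` (helper36)

`exists_lift_idealMul_pow` (Stacks 01Y9): on a Noetherian scheme, if `α : G' ⟶ G` is a morphism of
coherent modules which is an isomorphism over the complement of `V(I)`, then for some `m` the
inclusion `I^m G ⟶ G` factors through `α`.  The proof uses the Artin–Rees lemma on a finite affine
cover.

Also: `exists_lift_of_sections` (a morphism from a quasi-coherent module factors through a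
monomorphism as soon as it does so on sections over an affine cover).
-/

set_option autoImplicit false
set_option linter.style.haveILetI false
universe u
open CategoryTheory CategoryTheory.Limits AlgebraicGeometry TopologicalSpace Opposite

namespace Groth.Agent.H36.DeligneLift

open Groth.Agent.H36.IdealMul

variable {X : Scheme.{u}}

/-- A morphism `a` from a quasi-coherent module factors through a monomorphism `b` as soon as, over
the members of an affine open cover, every section in the image of `a` is in the image of `b`. -/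
theorem exists_lift_of_sections {A B F : X.Modules} [A.IsQuasicoherent] (a : A ⟶ F) (b : B ⟶ F)
    [Mono b] (s : Set X.affineOpens) (hs : ∀ x : X, ∃ W ∈ s, x ∈ W.1)
    (h : ∀ W ∈ s, ∀ t : Γ(A, W.1), ∃ t' : Γ(B, W.1),
      Scheme.Modules.Hom.app b W.1 t' = Scheme.Modules.Hom.app a W.1 t) :
    ∃ g : A ⟶ B, g ≫ b = a := by
  have h0 : a ≫ cokernel.π b = 0 := by
    apply hom_eq_zero_of_affine_cover _ s hs
    intro W hW t
    obtain ⟨t', ht'⟩ := h W hW t
    show Scheme.Modules.Hom.app (cokernel.π b) W.1 (Scheme.Modules.Hom.app a W.1 t) = 0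
    rw [← ht']
    have h1 : Scheme.Modules.Hom.app (b ≫ cokernel.π b) W.1 t' = 0 := by
      rw [cokernel.condition]; rfl
    exact h1
  exact ⟨Abelian.monoLift b a h0, Abelian.monoLift_comp b a h0⟩

/-- The commutative algebra behind `exists_lift_idealMul_pow` (Artin–Rees). -/
theorem algebra_core {R : Type u} [CommRing R] [IsNoetherianRing R] (J : Ideal R)
    {M' M : Type u} [AddCommGroup M'] [Module R M'] [AddCommGroup M] [Module R M]
    [Module.Finite R M'] (f : M' →ₗ[R] M) (a : ℕ)
    (h1 : ∀ r ∈ J ^ a, ∀ g : M, r • g ∈ LinearMap.range f)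
    (h2 : ∀ r ∈ J ^ a, ∀ x ∈ LinearMap.ker f, r • x = 0) :
    ∃ c : ℕ, (∀ e ≥ c + a, (J ^ e • (⊤ : Submodule R M')) ⊓ LinearMap.ker f = ⊥) ∧
      ∀ e a' : ℕ, a ≤ a' →
        (J ^ (e + a') • (⊤ : Submodule R M)) ≤ Submodule.map f (J ^ e • ⊤) := by
  obtain ⟨c, hc⟩ := Ideal.exists_pow_inf_eq_pow_smul J (LinearMap.ker f)
  refine ⟨c, ?_, ?_⟩
  · intro e he
    rw [eq_bot_iff]
    have hle : J ^ e • (⊤ : Submodule R M') ≤ J ^ (c + a) • ⊤ :=
      Submodule.smul_mono_left (Ideal.pow_le_pow_right he)
    calc (J ^ e • (⊤ : Submodule R M')) ⊓ LinearMap.ker f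
        ≤ (J ^ (c + a) • ⊤) ⊓ LinearMap.ker f := inf_le_inf_right _ hle
      _ = J ^ (c + a - c) • (J ^ c • ⊤ ⊓ LinearMap.ker f) := hc (c + a) (Nat.le_add_right c a)
      _ = J ^ a • (J ^ c • ⊤ ⊓ LinearMap.ker f) := by rw [Nat.add_sub_cancel_left]
      _ ≤ ⊥ := by
        rw [Submodule.smul_le]
        intro r hr n hn
        rw [Submodule.mem_bot]
        exact h2 r hr n hn.2
  · intro e a' ha'
    have hle : J ^ a' • (⊤ : Submodule R M) ≤ LinearMap.range f := by
      rw [Submodule.smul_le]
      intro r hr g _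
      exact h1 r (Ideal.pow_le_pow_right ha' hr) g
    calc J ^ (e + a') • (⊤ : Submodule R M)
        = J ^ e • (J ^ a' • (⊤ : Submodule R M)) := by rw [pow_add, Submodule.mul_smul]
      _ ≤ J ^ e • LinearMap.range f := Submodule.smul_mono le_rfl hle
      _ = Submodule.map f (J ^ e • ⊤) := by
        rw [LinearMap.range_eq_map, Submodule.map_smul'']

/-- **Stacks 01Y9.** On a Noetherian scheme, let `α : G' ⟶ G` be a morphism of coherent modules
which is an isomorphism over the complement `U` of `V(I)`.  Then for some `m` the inclusion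
`I^m G ⟶ G` factors through `α`. -/
theorem exists_lift_idealMul_pow (X : Scheme.{u}) [IsNoetherian X] (G' G : X.Modules)
    (hG' : Coh.IsCoh G') (hG : Coh.IsCoh G) (I : X.IdealSheafData) (U : X.Opens)
    (hU : (U : Set X) = (I.support : Set X)ᶜ) (α : G' ⟶ G)
    (hα : IsIso ((Scheme.Modules.restrictFunctor U.ι).map α)) :
    ∃ (m : ℕ) (β : (Dual3.idealMul (I ^ m)).obj G ⟶ G'),
      β ≫ α = Dual3.idealMulι (I ^ m) G := by
  haveI : G'.IsQuasicoherent := hG'.1
  haveI : G.IsQuasicoherent := hG.1
  haveI hTq : (kernel α).IsQuasicoherent :=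
    Groth.Agent.H22.QCohLimits.isQuasicoherent_kernel α
  haveI hCq : (cokernel α).IsQuasicoherent := Groth.Agent.H8.isQuasicoherent_cokernel α
  haveI hImq : (kernel (cokernel.π α)).IsQuasicoherent :=
    Groth.Agent.H22.QCohLimits.isQuasicoherent_kernel (cokernel.π α)
  haveI hImq' : (Abelian.image α).IsQuasicoherent := hImq
  have hπU : (Scheme.Modules.restrictFunctor U.ι).map (cokernel.π α) = 0 := by
    have h : (Scheme.Modules.restrictFunctor U.ι).map α ≫
        (Scheme.Modules.restrictFunctor U.ι).map (cokernel.π α) = 0 := by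
      rw [← Functor.map_comp, cokernel.condition, Functor.map_zero]
    exact (cancel_epi ((Scheme.Modules.restrictFunctor U.ι).map α)).mp (h.trans comp_zero.symm)
  have hτU : (Scheme.Modules.restrictFunctor U.ι).map (kernel.ι α) = 0 := by
    have h : (Scheme.Modules.restrictFunctor U.ι).map (kernel.ι α) ≫
        (Scheme.Modules.restrictFunctor U.ι).map α = 0 := by
      rw [← Functor.map_comp, kernel.condition, Functor.map_zero]
    exact (cancel_mono ((Scheme.Modules.restrictFunctor U.ι).map α)).mp (h.trans zero_comp.symm)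
  obtain ⟨s, hs⟩ := exists_finite_affine_cover X
  -- the two exact sequences used on sections
  let Simg : ShortComplex X.Modules :=
    ShortComplex.mk (kernel.ι (cokernel.π α)) (cokernel.π α) (kernel.condition _)
  have hSimg : Simg.Exact := ShortComplex.exact_of_f_is_kernel Simg (kernelIsKernel _)
  haveI : Mono Simg.f := inferInstanceAs (Mono (kernel.ι (cokernel.π α)))
  let Sker : ShortComplex X.Modules := ShortComplex.mk (kernel.ι α) α (kernel.condition _)
  have hSker : Sker.Exact := ShortComplex.exact_of_f_is_kernel Sker (kernelIsKernel _)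
  haveI : Mono Sker.f := inferInstanceAs (Mono (kernel.ι α))
  have hW : ∀ W : X.affineOpens, ∃ a : ℕ,
      (∀ r ∈ (I.ideal W) ^ a, ∀ g : Γ(G, W.1),
        r • Scheme.Modules.Hom.app (cokernel.π α) W.1 g = 0) ∧
      (∀ r ∈ (I.ideal W) ^ a, ∀ t : Γ(kernel α, W.1),
        r • Scheme.Modules.Hom.app (kernel.ι α) W.1 t = 0) := by
    intro W
    haveI : IsNoetherianRing Γ(X, W.1) := IsLocallyNoetherian.component_noetherian W
    haveI hfG : Module.Finite Γ(X, W.1) Γ(G, W.1) :=
      Groth.Agent.H8.finite_sections_of_isCoh G hG W.2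
    haveI hfG' : Module.Finite Γ(X, W.1) Γ(G', W.1) :=
      Groth.Agent.H8.finite_sections_of_isCoh G' hG' W.2
    have hfinT : Module.Finite Γ(X, W.1) Γ(kernel α, W.1) :=
      Module.Finite.of_injective (Groth.Agent.H8.appₗ (kernel.ι α) W.1)
        (Groth.Agent.H8.appₗ_injective_of_mono _ _)
    obtain ⟨a₁, h₁⟩ := exists_pow_smul_eq_zero I U hU (cokernel.π α) hπU W hfG
      (IsNoetherian.noetherian _)
    obtain ⟨a₂, h₂⟩ := exists_pow_smul_eq_zero I U hU (kernel.ι α) hτU W hfinT
      (IsNoetherian.noetherian _)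
    exact ⟨max a₁ a₂,
      fun r hr g => h₁ r (Ideal.pow_le_pow_right (le_max_left _ _) hr) g,
      fun r hr t => h₂ r (Ideal.pow_le_pow_right (le_max_right _ _) hr) t⟩
  choose a ha₁ ha₂ using hW
  have hAlg : ∀ W : X.affineOpens, ∃ c : ℕ,
      (∀ e ≥ c + a W, ((I.ideal W) ^ e • (⊤ : Submodule Γ(X, W.1) Γ(G', W.1))) ⊓
        LinearMap.ker (Groth.Agent.H8.appₗ α W.1) = ⊥) ∧
      ∀ e a' : ℕ, a W ≤ a' →
        ((I.ideal W) ^ (e + a') • (⊤ : Submodule Γ(X, W.1) Γ(G, W.1))) ≤
          Submodule.map (Groth.Agent.H8.appₗ α W.1) ((I.ideal W) ^ e • ⊤) := by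
    intro W
    haveI : IsNoetherianRing Γ(X, W.1) := IsLocallyNoetherian.component_noetherian W
    haveI hfG' : Module.Finite Γ(X, W.1) Γ(G', W.1) :=
      Groth.Agent.H8.finite_sections_of_isCoh G' hG' W.2
    refine algebra_core (I.ideal W) (Groth.Agent.H8.appₗ α W.1) (a W) ?_ ?_
    · intro r hr g
      have hz : Scheme.Modules.Hom.app (cokernel.π α) W.1 (r • g) = 0 := by
        rw [Scheme.Modules.Hom.app_smul]; exact ha₁ W r hr g
      obtain ⟨y, hy⟩ := Groth.Agent.H8.exists_app_eq_of_exact Simg hSimg W.1 (r • g) hz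
      obtain ⟨t, ht⟩ := Groth.Agent.H21.EpiPush.app_surjective_of_epi
        (Abelian.factorThruImage α) W.2 y
      refine ⟨t, ?_⟩
      show Scheme.Modules.Hom.app α W.1 t = r • g
      calc Scheme.Modules.Hom.app α W.1 t
          = Scheme.Modules.Hom.app (Abelian.factorThruImage α ≫ Abelian.image.ι α) W.1 t := by
            rw [Abelian.image.fac]
        _ = Scheme.Modules.Hom.app (Abelian.image.ι α) W.1
              (Scheme.Modules.Hom.app (Abelian.factorThruImage α) W.1 t) := rfl
        _ = Scheme.Modules.Hom.app (kernel.ι (cokernel.π α)) W.1 y := by rw [ht]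
        _ = r • g := hy
    · intro r hr x hx
      have hx0 : Scheme.Modules.Hom.app α W.1 x = 0 := hx
      obtain ⟨t, ht⟩ := Groth.Agent.H8.exists_app_eq_of_exact Sker hSker W.1 x hx0
      have ht' : Scheme.Modules.Hom.app (kernel.ι α) W.1 t = x := ht
      rw [← ht']
      exact ha₂ W r hr t
  choose c hc₁ hc₂ using hAlg
  have hpow : ∀ (k : ℕ) (W : X.affineOpens), (I ^ k).ideal W = (I.ideal W) ^ k := fun _ _ => rfl
  refine ⟨s.sup (fun W => c W + a W) + s.sup a, ?_⟩
  haveI hAq : ((Dual3.idealMul (I ^ (s.sup (fun W => c W + a W)))).obj G').IsQuasicoherent :=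
    isQuasicoherent_idealMul _ _
  haveI hBq : ((Dual3.idealMul (I ^ (s.sup (fun W => c W + a W) + s.sup a))).obj
      G).IsQuasicoherent := isQuasicoherent_idealMul _ _
  let γ : (Dual3.idealMul (I ^ (s.sup (fun W => c W + a W)))).obj G' ⟶ G :=
    Dual3.idealMulι (I ^ (s.sup (fun W => c W + a W))) G' ≫ α
  haveI hγ : Mono γ := by
    haveI : (kernel γ).IsQuasicoherent := Groth.Agent.H22.QCohLimits.isQuasicoherent_kernel γ
    apply Preadditive.mono_of_kernel_zero
    apply hom_eq_zero_of_affine_cover _ (↑s : Set X.affineOpens) hs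
    intro W hW t
    have hx : Scheme.Modules.Hom.app γ W.1 (Scheme.Modules.Hom.app (kernel.ι γ) W.1 t) = 0 := by
      have h1 : Scheme.Modules.Hom.app (kernel.ι γ ≫ γ) W.1 t = 0 := by
        rw [kernel.condition]; rfl
      exact h1
    have hmem := idealMulι_app_mem (I ^ (s.sup (fun W => c W + a W))) G' W
      (Scheme.Modules.Hom.app (kernel.ι γ) W.1 t)
    rw [hpow] at hmem
    have h1 : Scheme.Modules.Hom.app (Dual3.idealMulι (I ^ (s.sup (fun W => c W + a W))) G') W.1
        (Scheme.Modules.Hom.app (kernel.ι γ) W.1 t) ∈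
        ((I.ideal W) ^ (s.sup (fun W => c W + a W)) •
          (⊤ : Submodule Γ(X, W.1) Γ(G', W.1))) ⊓
        LinearMap.ker (Groth.Agent.H8.appₗ α W.1) := ⟨hmem, hx⟩
    rw [hc₁ W _ (Finset.le_sup (f := fun W => c W + a W) (Finset.mem_coe.mp hW))] at h1
    have h2 := (Submodule.mem_bot _).mp h1
    exact idealMulι_app_injective _ G' W.1 (h2.trans (map_zero _).symm)
  obtain ⟨g, hg⟩ := exists_lift_of_sections
    (Dual3.idealMulι (I ^ (s.sup (fun W => c W + a W) + s.sup a)) G) γ
    (↑s : Set X.affineOpens) hs (by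
      intro W hW t
      have h1 := idealMulι_app_mem (I ^ (s.sup (fun W => c W + a W) + s.sup a)) G W t
      rw [hpow] at h1
      obtain ⟨y, hy, hy'⟩ := hc₂ W (s.sup (fun W => c W + a W)) (s.sup a)
        (Finset.le_sup (Finset.mem_coe.mp hW)) h1
      obtain ⟨tA, htA⟩ := (exists_idealMulι_app_eq_iff
        (I ^ (s.sup (fun W => c W + a W))) G' W y).mpr (by rw [hpow]; exact hy)
      refine ⟨tA, ?_⟩
      show Scheme.Modules.Hom.app α W.1 (Scheme.Modules.Hom.app
        (Dual3.idealMulι (I ^ (s.sup (fun W => c W + a W))) G') W.1 tA) = _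
      rw [htA]
      exact hy')
  exact ⟨g ≫ Dual3.idealMulι (I ^ (s.sup (fun W => c W + a W))) G', by
    rw [Category.assoc]; exact hg⟩

end Groth.Agent.H36.DeligneLift
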