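import Groth.Prelude.Def_Dual3
import Groth.Agent.H8.ClosedImmUnit
import Groth.Agent.H8.HomBasis
import Groth.Agent.H8.Coh
import Groth.Agent.H8.SuppClosed
import Groth.Agent.H22.QCohLimits

/-!
# Affine-local description of the submodule sheaf `I · M` (`Dual3.idealMul I M`) (helper36)

For a quasi-coherent module `M`, an ideal sheaf `J` and an affine open `W`, the sections of
`J · M = ker (M ⟶ i_* i^* M)` over `W` are the submodule `J(W) · Γ(M, W)` of `Γ(M, W)`.

* `unit_app_eq_zero_iff`: a section `s` of `M` over affine `W` dies in `i_* i^* M` iff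
  `s ∈ J(W) • ⊤`.
* `exists_idealMulι_app_eq_iff`: `s` comes from `Γ(J·M, W)` iff `s ∈ J(W) • ⊤`.
* `isQuasicoherent_idealMul`: `J · M` is quasi-coherent.
* `app_eq_zero_of_restrict_eq_zero`: a morphism restricting to zero on `U` is zero on sections over
  opens contained in `U`.
* `hom_eq_zero_of_affine_cover`: a morphism out of a quasi-coherent module is zero as soon as it is
  zero on sections over the members of an affine open cover.
* `exists_pow_smul_eq_zero`: if `ψ : P ⟶ F` restricts to zero on the complement of `V(I)`, then over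
  an affine `W` with `Γ(P, W)` finite and `I(W)` finitely generated, a power of `I(W)` kills
  `ψ(Γ(P, W))`.
-/

set_option autoImplicit false
set_option linter.style.haveILetI false
universe u
open CategoryTheory CategoryTheory.Limits AlgebraicGeometry TopologicalSpace Opposite
open scoped TensorProduct

namespace Groth.Agent.H36.IdealMul

variable {X : Scheme.{u}}

/-- The unit `M ⟶ i_* i^* M` for the closed subscheme cut out by `J`. -/
noncomputable abbrev unitJ (J : X.IdealSheafData) (M : X.Modules) :=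
  (Scheme.Modules.pullbackPushforwardAdjunction J.subschemeι).unit.app M

/-- Over an affine open `W`, a section of a quasi-coherent `M` is killed by the unit
`M ⟶ i_* i^* M` iff it lies in `J(W) • Γ(M, W)`. -/
theorem unit_app_eq_zero_iff (J : X.IdealSheafData) (M : X.Modules) [M.IsQuasicoherent]
    (W : X.affineOpens) (s : Γ(M, W.1)) :
    Scheme.Modules.Hom.app (unitJ J M) W.1 s = 0 ↔
      s ∈ (J.ideal W) • (⊤ : Submodule Γ(X, W.1) Γ(M, W.1)) := by
  letI := (J.subschemeι.appLE W.1 (J.subschemeι ⁻¹ᵁ W.1) le_rfl).hom.toAlgebra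
  obtain ⟨E, hE⟩ := Groth.Agent.H8.exists_unit_app_equiv J.subschemeι M W
  have hker : RingHom.ker (algebraMap Γ(X, W.1) Γ(J.subscheme, J.subschemeι ⁻¹ᵁ W.1)) =
      J.ideal W := by
    rw [Groth.Agent.H8.ker_algebraMap_of_isClosedImmersion J.subschemeι W,
      Scheme.IdealSheafData.ker_subschemeι]
  constructor
  · intro h
    have h1 : (1 : Γ(J.subscheme, J.subschemeι ⁻¹ᵁ W.1)) ⊗ₜ[Γ(X, W.1)] s = 0 := by
      rw [← hE s]
      exact (congrArg E h).trans (map_zero E)
    have h2 := Groth.Agent.H8.mem_ker_smul_top_of_one_tmul_eq_zero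
      (Groth.Agent.H8.algebraMap_surjective_of_isClosedImmersion J.subschemeι W) Γ(M, W.1) s h1
    rwa [hker] at h2
  · intro h
    apply E.injective
    refine (hE s).trans (Eq.trans ?_ (map_zero E).symm)
    rw [← hker] at h
    refine Submodule.smul_induction_on h ?_ ?_
    · intro a ha m _
      have ha' : algebraMap Γ(X, W.1) Γ(J.subscheme, J.subschemeι ⁻¹ᵁ W.1) a = 0 :=
        RingHom.mem_ker.mp ha
      rw [TensorProduct.tmul_smul, TensorProduct.smul_tmul', Algebra.smul_def, mul_one, ha',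
        TensorProduct.zero_tmul]
    · intro x y hx hy
      rw [TensorProduct.tmul_add, hx, hy, add_zero]

theorem idealMulι_app_injective (J : X.IdealSheafData) (M : X.Modules) (W : X.Opens) :
    Function.Injective (Scheme.Modules.Hom.app (Dual3.idealMulι J M) W) :=
  Groth.Agent.H8.app_injective_of_mono (Dual3.idealMulι J M) W

theorem idealMulι_comp_unit (J : X.IdealSheafData) (M : X.Modules) :
    Dual3.idealMulι J M ≫ unitJ J M = 0 :=
  kernel.condition _

theorem unit_idealMulι_app (J : X.IdealSheafData) (M : X.Modules) (W : X.Opens)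
    (t : Γ((Dual3.idealMul J).obj M, W)) :
    Scheme.Modules.Hom.app (unitJ J M) W (Scheme.Modules.Hom.app (Dual3.idealMulι J M) W t) = 0 := by
  have h := idealMulι_comp_unit J M
  have h2 : Scheme.Modules.Hom.app (Dual3.idealMulι J M ≫ unitJ J M) W t = 0 := by
    rw [h]; rfl
  exact h2

theorem exists_idealMulι_app_eq (J : X.IdealSheafData) (M : X.Modules) (W : X.Opens)
    (s : Γ(M, W)) (hs : Scheme.Modules.Hom.app (unitJ J M) W s = 0) :
    ∃ t : Γ((Dual3.idealMul J).obj M, W), Scheme.Modules.Hom.app (Dual3.idealMulι J M) W t = s := by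
  let S : ShortComplex X.Modules :=
    ShortComplex.mk (Dual3.idealMulι J M) (unitJ J M) (idealMulι_comp_unit J M)
  have hS : S.Exact := ShortComplex.exact_of_f_is_kernel S (kernelIsKernel _)
  haveI : Mono S.f := inferInstanceAs (Mono (Dual3.idealMulι J M))
  exact Groth.Agent.H8.exists_app_eq_of_exact S hS W s hs

/-- Sections of `J · M` over an affine open `W` are exactly `J(W) • Γ(M, W)`. -/
theorem exists_idealMulι_app_eq_iff (J : X.IdealSheafData) (M : X.Modules) [M.IsQuasicoherent]
    (W : X.affineOpens) (s : Γ(M, W.1)) :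
    (∃ t : Γ((Dual3.idealMul J).obj M, W.1),
        Scheme.Modules.Hom.app (Dual3.idealMulι J M) W.1 t = s) ↔
      s ∈ (J.ideal W) • (⊤ : Submodule Γ(X, W.1) Γ(M, W.1)) := by
  rw [← unit_app_eq_zero_iff]
  constructor
  · rintro ⟨t, rfl⟩
    exact unit_idealMulι_app J M W.1 t
  · exact exists_idealMulι_app_eq J M W.1 s

theorem idealMulι_app_mem (J : X.IdealSheafData) (M : X.Modules) [M.IsQuasicoherent]
    (W : X.affineOpens) (t : Γ((Dual3.idealMul J).obj M, W.1)) :
    Scheme.Modules.Hom.app (Dual3.idealMulι J M) W.1 t ∈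
      (J.ideal W) • (⊤ : Submodule Γ(X, W.1) Γ(M, W.1)) :=
  (exists_idealMulι_app_eq_iff J M W _).mp ⟨t, rfl⟩

/-- `J · M` is quasi-coherent when `M` is. -/
theorem isQuasicoherent_idealMul (J : X.IdealSheafData) (M : X.Modules) [M.IsQuasicoherent] :
    ((Dual3.idealMul J).obj M).IsQuasicoherent := by
  haveI h1 : ((Scheme.Modules.pullback J.subschemeι).obj M).IsQuasicoherent :=
    Groth.Agent.H8.isQuasicoherent_pullback J.subschemeι M
  haveI h2 : ((Scheme.Modules.pushforward J.subschemeι).obj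
      ((Scheme.Modules.pullback J.subschemeι).obj M)).IsQuasicoherent :=
    Groth.Agent.H8.isQuasicoherent_pushforward J.subschemeι _
  exact @Groth.Agent.H22.QCohLimits.isQuasicoherent_kernel X M
    ((Scheme.Modules.pushforward J.subschemeι).obj ((Scheme.Modules.pullback J.subschemeι).obj M))
    inferInstance h2 (unitJ J M)

/-- Sections of `J · M` over an affine open form a finite module when `M` is coherent and the
scheme is locally Noetherian. -/
theorem finite_sections_idealMul [IsLocallyNoetherian X] (J : X.IdealSheafData) (M : X.Modules)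
    (hM : Coh.IsCoh M) (W : X.affineOpens) :
    Module.Finite Γ(X, W.1) Γ((Dual3.idealMul J).obj M, W.1) := by
  haveI : IsNoetherianRing Γ(X, W.1) := IsLocallyNoetherian.component_noetherian W
  haveI : Module.Finite Γ(X, W.1) Γ(M, W.1) := Groth.Agent.H8.finite_sections_of_isCoh M hM W.2
  exact Module.Finite.of_injective (Groth.Agent.H8.appₗ (Dual3.idealMulι J M) W.1)
    (Groth.Agent.H8.appₗ_injective_of_mono _ _)

set_option backward.isDefEq.respectTransparency false in
/-- A morphism whose restriction to an open `U` is zero is zero on sections over opens `V ≤ U`. -/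
theorem app_eq_zero_of_restrict_eq_zero {P F : X.Modules} (ψ : P ⟶ F) (U : X.Opens)
    (hψ : (Scheme.Modules.restrictFunctor U.ι).map ψ = 0) (V : X.Opens) (hV : V ≤ U)
    (t : Γ(P, V)) : Scheme.Modules.Hom.app ψ V t = 0 := by
  have e : U.ι ''ᵁ (U.ι ⁻¹ᵁ V) = V := by
    rw [Scheme.Hom.image_preimage_eq_opensRange_inf, Scheme.Opens.opensRange_ι]
    exact inf_eq_right.mpr hV
  apply Groth.Agent.H8.res_injective_of_eq F e.le e
  rw [map_zero, ← Groth.Agent.H22.QCohLimits.app_res]
  have h1 : ∀ x : Γ(P, U.ι ''ᵁ (U.ι ⁻¹ᵁ V)),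
      Scheme.Modules.Hom.app ψ (U.ι ''ᵁ (U.ι ⁻¹ᵁ V)) x =
        Scheme.Modules.Hom.app ((Scheme.Modules.restrictFunctor U.ι).map ψ) (U.ι ⁻¹ᵁ V) x :=
    fun x => rfl
  rw [h1, hψ]
  rfl

/-- A morphism out of a quasi-coherent module vanishes as soon as it vanishes on sections over
the members of an affine open cover. -/
theorem hom_eq_zero_of_affine_cover {A B : X.Modules} [A.IsQuasicoherent] (φ : A ⟶ B)
    (s : Set X.affineOpens) (hs : ∀ x : X, ∃ W ∈ s, x ∈ W.1)
    (h : ∀ W ∈ s, ∀ t : Γ(A, W.1), Scheme.Modules.Hom.app φ W.1 t = 0) : φ = 0 := by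
  let ι := Σ W : s, Γ(X, W.1.1)
  let Bs : ι → X.Opens := fun i => X.basicOpen i.2
  have hB : Opens.IsBasis (Set.range Bs) := by
    rw [Opens.isBasis_iff_nbhd]
    intro V x hxV
    obtain ⟨W, hWs, hxW⟩ := hs x
    obtain ⟨g, hgV, hxg⟩ := W.2.exists_basicOpen_le ⟨x, hxV⟩ hxW
    exact ⟨X.basicOpen g, ⟨⟨⟨W, hWs⟩, g⟩, rfl⟩, hxg, hgV⟩
  refine Groth.Agent.H8.HomBasis.hom_ext_of_basis A B hB φ 0 ?_
  rintro ⟨⟨W, hWs⟩, g⟩ m
  show Scheme.Modules.Hom.app φ (X.basicOpen g) m = 0
  obtain ⟨n, m', hm'⟩ := Groth.Agent.H8.exists_smul_eq_res W.2 A g m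
  have hu : IsUnit ((X.presheaf.map (homOfLE (X.basicOpen_le g)).op g) ^ n) :=
    (X.toRingedSpace.isUnit_res_basicOpen g).pow n
  have h0 : (X.presheaf.map (homOfLE (X.basicOpen_le g)).op g) ^ n •
      Scheme.Modules.Hom.app φ (X.basicOpen g) m = 0 := by
    rw [← Scheme.Modules.Hom.app_smul, hm', Groth.Agent.H22.QCohLimits.app_res, h W hWs m',
      map_zero]
  exact (hu.smul_eq_zero).mp h0

theorem exists_finite_affine_cover (X : Scheme.{u}) [CompactSpace X] :
    ∃ s : Finset X.affineOpens, ∀ x : X, ∃ W ∈ s, x ∈ W.1 := by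
  obtain ⟨s, hs⟩ := isCompact_univ.elim_finite_subcover
    (fun W : X.affineOpens => (W.1 : Set X)) (fun W => W.1.2) (by
      intro x _
      obtain ⟨W, hW, hxW, -⟩ :=
        exists_isAffineOpen_mem_and_subset (x := x) (U := (⊤ : X.Opens)) trivial
      exact Set.mem_iUnion.2 ⟨⟨W, hW⟩, hxW⟩)
  refine ⟨s, fun x => ?_⟩
  have hx := hs (Set.mem_univ x)
  simp only [Set.mem_iUnion] at hx
  obtain ⟨W, hW, hxW⟩ := hx
  exact ⟨W, hW, hxW⟩

theorem exists_affine_mem (X : Scheme.{u}) (x : X) : ∃ W ∈ (Set.univ : Set X.affineOpens), x ∈ W.1 := by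
  obtain ⟨W, hW, hxW, -⟩ :=
    exists_isAffineOpen_mem_and_subset (x := x) (U := (⊤ : X.Opens)) trivial
  exact ⟨⟨W, hW⟩, Set.mem_univ _, hxW⟩

/-- The basic open of a section of the ideal `I(W)` lies in the complement of `V(I)`. -/
theorem basicOpen_le_of_mem_ideal (I : X.IdealSheafData) (U : X.Opens)
    (hU : (U : Set X) = (I.support : Set X)ᶜ) (W : X.affineOpens) (a : Γ(X, W.1))
    (ha : a ∈ I.ideal W) : X.basicOpen a ≤ U := by
  intro x hx
  have hxW : x ∈ W.1 := X.basicOpen_le a hx
  change x ∈ (U : Set X)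
  rw [hU]
  intro hxs
  have h1 := (Scheme.IdealSheafData.mem_support_iff_of_mem (I := I) (U := W) hxW).mp hxs
  rw [Scheme.mem_zeroLocus_iff] at h1
  exact h1 a ha hx

/-- If `ψ : P ⟶ F` restricts to zero on the complement `U` of `V(I)`, then over an affine open `W`
with `Γ(P, W)` finite and `I(W)` finitely generated, some power of `I(W)` kills `ψ(Γ(P, W))`. -/
theorem exists_pow_smul_eq_zero (I : X.IdealSheafData) (U : X.Opens)
    (hU : (U : Set X) = (I.support : Set X)ᶜ) {P F : X.Modules} [F.IsQuasicoherent] (ψ : P ⟶ F)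
    (hψ : (Scheme.Modules.restrictFunctor U.ι).map ψ = 0) (W : X.affineOpens)
    (hfin : Module.Finite Γ(X, W.1) Γ(P, W.1)) (hI : (I.ideal W).FG) :
    ∃ m : ℕ, ∀ a ∈ (I.ideal W) ^ m, ∀ t : Γ(P, W.1),
      a • Scheme.Modules.Hom.app ψ W.1 t = 0 := by
  let Ann : Ideal Γ(X, W.1) :=
    { carrier := {a | ∀ t : Γ(P, W.1), a • Scheme.Modules.Hom.app ψ W.1 t = 0}
      add_mem' := by
        intro a b ha hb t
        rw [add_smul, ha t, hb t, add_zero]
      zero_mem' := by
        intro t
        rw [zero_smul]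
      smul_mem' := by
        intro c a ha t
        rw [smul_eq_mul, mul_smul, ha t, smul_zero] }
  have hrad : I.ideal W ≤ Ann.radical := by
    intro a ha
    have hle : X.basicOpen a ≤ U := basicOpen_le_of_mem_ideal I U hU W a ha
    have hres : ∀ t : Γ(P, W.1), F.presheaf.map (homOfLE (X.basicOpen_le a)).op
        (Scheme.Modules.Hom.app ψ W.1 t) = 0 := by
      intro t
      rw [← Groth.Agent.H22.QCohLimits.app_res]
      exact app_eq_zero_of_restrict_eq_zero ψ U hψ _ hle _
    have hk : ∀ t : Γ(P, W.1), ∃ k : ℕ, a ^ k • Scheme.Modules.Hom.app ψ W.1 t = 0 :=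
      fun t => Groth.Agent.H8.exists_smul_eq_zero W.2 F a _ (hres t)
    choose k hk using hk
    obtain ⟨S, hS⟩ := hfin.fg_top
    refine ⟨S.sup k, ?_⟩
    intro t
    have ht : t ∈ Submodule.span Γ(X, W.1) (S : Set Γ(P, W.1)) := by rw [hS]; trivial
    induction ht using Submodule.span_induction with
    | mem t ht =>
      have hle : k t ≤ S.sup k := Finset.le_sup ht
      rw [← Nat.sub_add_cancel hle, pow_add, mul_smul, hk t, smul_zero]
    | zero => rw [map_zero, smul_zero]
    | add x y _ _ hx hy => rw [map_add, smul_add, hx, hy, add_zero]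
    | smul c x _ hx => rw [Scheme.Modules.Hom.app_smul, smul_comm, hx, smul_zero]
  obtain ⟨m, hm⟩ := Ideal.exists_pow_le_of_le_radical_of_fg hrad hI
  exact ⟨m, fun a ha t => hm ha t⟩

end Groth.Agent.H36.IdealMul
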