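import Groth.Agent.H36.DeligneLift

/-!
# Sections of an intersection of two subobjects of a module (helper36)

* `exists_inf_arrow_app_eq`, `exists_of_inf_arrow_app`: a section of `F` over an open comes from
  `Subobject.mk a ⊓ Subobject.mk b` iff it comes from both `a` and `b`.
* `isQuasicoherent_inf`: the intersection of two quasi-coherent subobjects of a quasi-coherent module
  is quasi-coherent.
* `artinRees_uniform`: the Artin–Rees equality holds for every `c` above the Artin–Rees constant.
-/

set_option autoImplicit false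
set_option linter.style.haveILetI false
universe u
open CategoryTheory CategoryTheory.Limits AlgebraicGeometry TopologicalSpace Opposite

namespace Groth.Agent.H36.SubSec

variable {X : Scheme.{u}}

section Inf

variable {A B F : X.Modules} (a : A ⟶ F) (b : B ⟶ F) [Mono a] [Mono b]

/-- The auxiliary kernel `{t ∈ A | a t ∈ B}`. -/
noncomputable abbrev auxK : X.Modules := kernel (a ≫ cokernel.π b)

/-- Its inclusion into `F`. -/
noncomputable abbrev auxι : auxK a b ⟶ F := kernel.ι (a ≫ cokernel.π b) ≫ a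

instance : Mono (auxι a b) := mono_comp _ _

theorem mk_auxι_le_inf : Subobject.mk (auxι a b) ≤ Subobject.mk a ⊓ Subobject.mk b := by
  refine le_inf ?_ ?_
  · exact Subobject.mk_le_mk_of_comm (kernel.ι (a ≫ cokernel.π b)) rfl
  · have h0 : auxι a b ≫ cokernel.π b = 0 := by
      rw [Category.assoc, kernel.condition]
    exact Subobject.mk_le_mk_of_comm (Abelian.monoLift b (auxι a b) h0)
      (Abelian.monoLift_comp b (auxι a b) h0)

theorem inf_le_mk_auxι : Subobject.mk a ⊓ Subobject.mk b ≤ Subobject.mk (auxι a b) := by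
  let S := Subobject.mk a ⊓ Subobject.mk b
  let u : (S : X.Modules) ⟶ A := Subobject.ofLEMk S a inf_le_left
  let v : (S : X.Modules) ⟶ B := Subobject.ofLEMk S b inf_le_right
  have hu : u ≫ a = S.arrow := Subobject.ofLEMk_comp _
  have hv : v ≫ b = S.arrow := Subobject.ofLEMk_comp _
  have h0 : u ≫ (a ≫ cokernel.π b) = 0 := by
    rw [← Category.assoc, hu, ← hv, Category.assoc, cokernel.condition, comp_zero]
  refine Subobject.le_mk_of_comm (kernel.lift _ u h0) ?_
  rw [← Category.assoc, kernel.lift_ι, hu]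

theorem inf_eq_mk_auxι : Subobject.mk a ⊓ Subobject.mk b = Subobject.mk (auxι a b) :=
  le_antisymm (inf_le_mk_auxι a b) (mk_auxι_le_inf a b)

/-- A section of `F` coming from both `a` and `b` comes from `mk a ⊓ mk b`. -/
theorem exists_inf_arrow_app_eq (W : X.Opens) (x : Γ(F, W)) (ta : Γ(A, W))
    (hta : Scheme.Modules.Hom.app a W ta = x) (tb : Γ(B, W))
    (htb : Scheme.Modules.Hom.app b W tb = x) :
    ∃ t : Γ(((Subobject.mk a ⊓ Subobject.mk b : Subobject F) : X.Modules), W),
      Scheme.Modules.Hom.app (Subobject.mk a ⊓ Subobject.mk b).arrow W t = x := by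
  let S : ShortComplex X.Modules :=
    ShortComplex.mk (kernel.ι (a ≫ cokernel.π b)) (a ≫ cokernel.π b) (kernel.condition _)
  have hS : S.Exact := ShortComplex.exact_of_f_is_kernel S (kernelIsKernel _)
  haveI : Mono S.f := inferInstanceAs (Mono (kernel.ι (a ≫ cokernel.π b)))
  have h0 : Scheme.Modules.Hom.app (a ≫ cokernel.π b) W ta = 0 := by
    show Scheme.Modules.Hom.app (cokernel.π b) W (Scheme.Modules.Hom.app a W ta) = 0
    rw [hta, ← htb]
    have h1 : Scheme.Modules.Hom.app (b ≫ cokernel.π b) W tb = 0 := by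
      rw [cokernel.condition]; rfl
    exact h1
  obtain ⟨t₀, ht₀⟩ := Groth.Agent.H8.exists_app_eq_of_exact S hS W ta h0
  have ht₀' : Scheme.Modules.Hom.app (kernel.ι (a ≫ cokernel.π b)) W t₀ = ta := ht₀
  refine ⟨Scheme.Modules.Hom.app (Subobject.ofMkLE (auxι a b) _ (mk_auxι_le_inf a b)) W t₀, ?_⟩
  have h2 : Subobject.ofMkLE (auxι a b) _ (mk_auxι_le_inf a b) ≫
      (Subobject.mk a ⊓ Subobject.mk b).arrow = auxι a b := Subobject.ofMkLE_arrow _
  calc Scheme.Modules.Hom.app (Subobject.mk a ⊓ Subobject.mk b).arrow W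
        (Scheme.Modules.Hom.app (Subobject.ofMkLE (auxι a b) _ (mk_auxι_le_inf a b)) W t₀)
      = Scheme.Modules.Hom.app (Subobject.ofMkLE (auxι a b) _ (mk_auxι_le_inf a b) ≫
          (Subobject.mk a ⊓ Subobject.mk b).arrow) W t₀ := rfl
    _ = Scheme.Modules.Hom.app (auxι a b) W t₀ := by rw [h2]
    _ = Scheme.Modules.Hom.app a W (Scheme.Modules.Hom.app (kernel.ι (a ≫ cokernel.π b)) W t₀) :=
        rfl
    _ = x := by rw [ht₀', hta]

/-- A section coming from `mk a ⊓ mk b` comes from both `a` and `b`. -/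
theorem exists_of_inf_arrow_app (W : X.Opens)
    (t : Γ(((Subobject.mk a ⊓ Subobject.mk b : Subobject F) : X.Modules), W)) :
    (∃ ta : Γ(A, W), Scheme.Modules.Hom.app a W ta =
        Scheme.Modules.Hom.app (Subobject.mk a ⊓ Subobject.mk b).arrow W t) ∧
      (∃ tb : Γ(B, W), Scheme.Modules.Hom.app b W tb =
        Scheme.Modules.Hom.app (Subobject.mk a ⊓ Subobject.mk b).arrow W t) := by
  constructor
  · refine ⟨Scheme.Modules.Hom.app (Subobject.ofLEMk _ a inf_le_left) W t, ?_⟩
    have h : Subobject.ofLEMk (Subobject.mk a ⊓ Subobject.mk b) a inf_le_left ≫ a =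
        (Subobject.mk a ⊓ Subobject.mk b).arrow := Subobject.ofLEMk_comp _
    rw [← h]; rfl
  · refine ⟨Scheme.Modules.Hom.app (Subobject.ofLEMk _ b inf_le_right) W t, ?_⟩
    have h : Subobject.ofLEMk (Subobject.mk a ⊓ Subobject.mk b) b inf_le_right ≫ b =
        (Subobject.mk a ⊓ Subobject.mk b).arrow := Subobject.ofLEMk_comp _
    rw [← h]; rfl

/-- The intersection of two quasi-coherent subobjects of a quasi-coherent module is
quasi-coherent. -/
theorem isQuasicoherent_inf [A.IsQuasicoherent] [B.IsQuasicoherent] [F.IsQuasicoherent] :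
    ((Subobject.mk a ⊓ Subobject.mk b : Subobject F) : X.Modules).IsQuasicoherent := by
  haveI : (cokernel b).IsQuasicoherent := Groth.Agent.H8.isQuasicoherent_cokernel b
  haveI : (auxK a b).IsQuasicoherent :=
    Groth.Agent.H22.QCohLimits.isQuasicoherent_kernel (a ≫ cokernel.π b)
  exact Groth.Agent.H22.QCohLimits.isQuasicoherent_of_iso
    (Subobject.isoOfEqMk _ (auxι a b) (inf_eq_mk_auxι a b)).symm

end Inf

/-- The Artin–Rees equality for every `c` above the Artin–Rees constant. -/
theorem artinRees_uniform {R : Type u} [CommRing R] [IsNoetherianRing R] (J : Ideal R)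
    {M : Type u} [AddCommGroup M] [Module R M] [Module.Finite R M] (N : Submodule R M) :
    ∃ k : ℕ, ∀ c ≥ k, ∀ n ≥ c,
      J ^ (n - c) • (J ^ c • (⊤ : Submodule R M) ⊓ N) = J ^ n • (⊤ : Submodule R M) ⊓ N := by
  obtain ⟨k, hk⟩ := Ideal.exists_pow_inf_eq_pow_smul J N
  refine ⟨k, fun c hc n hn => ?_⟩
  rw [hk c hc, hk n (hc.trans hn), ← Submodule.mul_smul, ← pow_add]
  congr 2
  omega

end Groth.Agent.H36.SubSec
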