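import Groth.Agent.H18.FreeEpi
import Groth.Agent.H18.GlobGen

/-!
# Epimorphisms from a free module onto the restriction of a module to an open

If sections `σ i` of `N` over `U` generate `N` locally on `U`, then they define an epimorphism
`O_U^k ⟶ N|_U`.
-/

set_option autoImplicit false
universe u

namespace Groth.Agent.H36.FreeEpiRestrict

open CategoryTheory AlgebraicGeometry Opposite TopologicalSpace Limits
open Groth.Agent.H18

variable {X : Scheme.{u}}

set_option backward.isDefEq.respectTransparency false in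
/-- scalar multiplication on `N.restrict U.ι` is scalar multiplication on `N` through
`appIso`. -/
lemma smul_restrict (U : X.Opens) (N : X.Modules) (V : (↑U : Scheme.{u}).Opens)
    (a : Γ(X, U.ι ''ᵁ V)) (z : Γ(N, U.ι ''ᵁ V)) :
    (((U.ι.appIso V).hom a • (show Γ(N.restrict U.ι, V) from z) : Γ(N.restrict U.ι, V)) :
      Γ(N, U.ι ''ᵁ V)) = a • z := by
  have h : (U.ι.appIso V).inv ((U.ι.appIso V).hom a) = a := by
    rw [← CommRingCat.comp_apply, Iso.hom_inv_id]
    rfl
  conv_rhs => rw [← h]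
  rfl

set_option backward.isDefEq.respectTransparency false in
/-- Sections `σ i` of `N` over `U` which generate `N` locally on `U` define an epimorphism
`O_U^k ⟶ N|_U`. -/
theorem exists_epi_freeMod_restrict {X : Scheme.{u}} (N : X.Modules) (U : X.Opens) (k : ℕ)
    (σ : Fin k → Γ(N, U))
    (h : ∀ (W : X.Opens) (hW : W ≤ U) (t : Γ(N, W)) (x : X), x ∈ W →
      ∃ (W' : X.Opens) (hW' : W' ≤ W), x ∈ W' ∧ ∃ c : Fin k → Γ(X, W'),
        N.presheaf.map (homOfLE hW').op t =
          ∑ i, c i • N.presheaf.map (homOfLE (hW'.trans hW)).op (σ i)) :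
    ∃ q : FlatMod.freeMod (↑U) k ⟶ N.restrict U.ι, Epi q := by
  let Y : Scheme.{u} := ↑U
  let M : Y.Modules := N.restrict U.ι
  let φ : ∀ _ : Fin k, (SheafOfModules.unit Y.ringCatSheaf : Y.Modules) ⟶ M := fun i =>
    (SheafOfModules.unitHomEquiv (R := Y.ringCatSheaf) M).symm
      (RestrictUnit.restrictSections U N (σ i))
  have hφ : ∀ (i : Fin k) (V : Y.Opens) (r : Γ(Y, V)), Scheme.Modules.Hom.app (φ i) V r =
      r • (show Γ(M, V) from N.presheaf.map (homOfLE (U.ι_image_le V)).op (σ i)) :=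
    fun i V r =>
      FreeEpi.unitHomEquiv_symm_app_apply M (RestrictUnit.restrictSections U N (σ i)) V r
  refine ⟨Sigma.desc φ, ?_⟩
  apply GlobGen.epi_of_locally
  intro V t y hy
  obtain ⟨W', hW', hxW', c, hc⟩ := h (U.ι ''ᵁ V) (U.ι_image_le V) t (U.ι y) ⟨y, hy, rfl⟩
  let V' : Y.Opens := U.ι ⁻¹ᵁ W'
  have hV'V : V' ≤ V := by
    intro z hz
    have hz' : U.ι z ∈ U.ι ''ᵁ V := hW' hz
    obtain ⟨v, hv, hvz⟩ := hz'
    have hvz' : v = z := U.ι.isOpenEmbedding.injective hvz
    exact hvz' ▸ hv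
  have hyV' : y ∈ V' := hxW'
  have hle : U.ι ''ᵁ V' ≤ W' := U.ι.image_preimage_le W'
  refine ⟨V', hV'V, hyV', ?_⟩
  let r : Fin k → Γ(Y, V') := fun i =>
    (U.ι.appIso V').hom (X.presheaf.map (homOfLE hle).op (c i))
  refine ⟨∑ i, Scheme.Modules.Hom.app (Sigma.ι (fun _ : Fin k =>
    (SheafOfModules.unit Y.ringCatSheaf : Y.Modules)) i) V' (r i), ?_⟩
  rw [map_sum]
  have h1 : ∀ i, Scheme.Modules.Hom.app (Sigma.desc φ) V' (Scheme.Modules.Hom.app (Sigma.ι
      (fun _ : Fin k => (SheafOfModules.unit Y.ringCatSheaf : Y.Modules)) i) V' (r i)) =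
      Scheme.Modules.Hom.app (φ i) V' (r i) := by
    intro i
    have h1 : Sigma.ι (fun _ : Fin k => (SheafOfModules.unit Y.ringCatSheaf : Y.Modules)) i ≫
        Sigma.desc φ = φ i := Sigma.ι_desc _ _
    exact congrArg (fun f : (SheafOfModules.unit Y.ringCatSheaf : Y.Modules) ⟶ M =>
      Scheme.Modules.Hom.app f V' (r i)) h1
  have h2 : ∀ i, Scheme.Modules.Hom.app (φ i) V' (r i) = (show Γ(M, V') from
      (X.presheaf.map (homOfLE hle).op (c i) •
        N.presheaf.map (homOfLE (U.ι_image_le V')).op (σ i) : Γ(N, U.ι ''ᵁ V'))) := by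
    intro i
    rw [hφ]
    exact smul_restrict U N V' _ _
  have h3 := congrArg (fun z => N.presheaf.map (homOfLE hle).op z) hc
  simp only [map_sum, Groth.Agent.H8.res_res, Groth.Agent.H8.res_smul] at h3
  refine (Finset.sum_congr rfl fun i _ => (h1 i).trans (h2 i)).trans ?_
  exact h3.symm

end Groth.Agent.H36.FreeEpiRestrict
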