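import Groth.Agent.H36.LocalSpanUnit

/-!
# (CB) for helper34's S1931 mini-squad #8
-/

set_option autoImplicit false
universe u

namespace Groth.Agent.H36.CMP_CB

/-- (CB) Mathlib-only: in a local ring, two generators of the same principal ideal differ by a
unit. -/
theorem exists_isUnit_mul_of_span_eq {R : Type*} [CommRing R] [IsLocalRing R] (a b : R)
    (h : Ideal.span {a} = Ideal.span {b}) : ∃ w : R, IsUnit w ∧ a = w * b := by
  obtain ⟨u, hu⟩ := Groth.Agent.H36.LocalSpanUnit.exists_unit_mul_of_span_singleton_eq h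
  exact ⟨u, u.isUnit, hu⟩

end Groth.Agent.H36.CMP_CB
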