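import Groth.Agent.H36.SecRestr
import Groth.Agent.H32.RepStack
import Groth.Agent.H95.FibSetLib
import Mathlib.CategoryTheory.Limits.Shapes.Pullback.Categorical.Basic

/-!
# The 2-fibre product `A ×_D F` of a functor `q : A ⥤ D` and a category `p : F ⥤ D` fibred in
groupoids, as a category fibred in groupoids over `A`; sections (helper36)

* `isFibGrpd_π₁`: `CategoricalPullback.π₁ q p` is fibred in groupoids if `p` is.
* `strictify`: replacing a functor over `D` up to isomorphism by one strictly over `D`.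
* `Om r q p`: the functor from functors `A' ⥤ F` over `D` (along `r ⋙ q`) to functors
  `A' ⥤ A ×_D F` over `A` (along `r`); it is an equivalence (`om_isEquivalence`).
* `restr_bf_isEquivalence`: restriction of functors over `D` into `F` along a functor
  `φ : A' ⥤ A` with contractible comma categories is an equivalence.
* `hcn_of_weakProd`: a category with an object `a₀` and weak products `a × a₀` has contractible
  nerve.
-/

set_option autoImplicit false
universe w₁ w₂ v₁ v₂ v₃ v₄ u₁ u₂ u₃ u₄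
open CategoryTheory CategoryTheory.Limits

namespace Groth.Agent.H36.CatPb

open Groth.Agent.H95.FibSet Groth.Agent.H36.SecRestr
open W4c2modmodulilect (HasContractibleNerve)

section fib

variable {A : Type u₂} [Category.{v₂} A] {D : Type u₃} [Category.{v₃} D] {F : Type u₄}
  [Category.{v₄} F] (q : A ⥤ D) (p : F ⥤ D)

theorem sc_π₁ (hp : FibCat.IsFibGrpd p) {a' a : CategoricalPullback q p} (m : a' ⟶ a) :
    (CategoricalPullback.π₁ q p).IsStronglyCartesian ((CategoricalPullback.π₁ q p).map m) m := by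
  rw [sc_iff_eqn]
  intro a'' k n hn
  change a''.fst ⟶ a'.fst at k
  have hn1 : n.fst = k ≫ m.fst := hn
  have UP := (sc_iff_eqn p m.snd).mp (hp.isStronglyCartesian m.snd)
  have hk : p.map n.snd = (a''.iso.inv ≫ q.map k ≫ a'.iso.hom) ≫ p.map m.snd := by
    have wn : q.map n.fst ≫ a.iso.hom = a''.iso.hom ≫ p.map n.snd := n.w
    have wm : q.map m.fst ≫ a.iso.hom = a'.iso.hom ≫ p.map m.snd := m.w
    calc p.map n.snd = a''.iso.inv ≫ (a''.iso.hom ≫ p.map n.snd) := by simp
      _ = a''.iso.inv ≫ (q.map n.fst ≫ a.iso.hom) := by rw [wn]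
      _ = a''.iso.inv ≫ (q.map (k ≫ m.fst) ≫ a.iso.hom) := by rw [hn1]
      _ = a''.iso.inv ≫ (q.map k ≫ (q.map m.fst ≫ a.iso.hom)) := by
        rw [q.map_comp, Category.assoc]
      _ = a''.iso.inv ≫ (q.map k ≫ (a'.iso.hom ≫ p.map m.snd)) := by rw [wm]
      _ = (a''.iso.inv ≫ q.map k ≫ a'.iso.hom) ≫ p.map m.snd := by simp only [Category.assoc]
  obtain ⟨χ₂, ⟨hχ1, hχ2⟩, hχu⟩ := UP a''.snd (a''.iso.inv ≫ q.map k ≫ a'.iso.hom) n.snd hk
  have wχ : q.map k ≫ a'.iso.hom = a''.iso.hom ≫ p.map χ₂ := by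
    rw [hχ1]; simp
  refine ⟨⟨k, χ₂, wχ⟩, ⟨rfl, ?_⟩, ?_⟩
  · exact CategoricalPullback.hom_ext hn1.symm hχ2
  · rintro n' ⟨hn1', hn2'⟩
    have h1 : n'.fst = k := hn1'
    have h2 : n'.snd ≫ m.snd = n.snd := congrArg (fun t => t.snd) hn2'
    have h3 : p.map n'.snd = a''.iso.inv ≫ q.map k ≫ a'.iso.hom := by
      have wn : q.map n'.fst ≫ a'.iso.hom = a''.iso.hom ≫ p.map n'.snd := n'.w
      rw [h1] at wn
      rw [Iso.eq_inv_comp]; exact wn.symm
    apply CategoricalPullback.hom_ext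
    · exact h1
    · exact hχu n'.snd ⟨h3, h2⟩

theorem isFibGrpd_π₁ (hp : FibCat.IsFibGrpd p) :
    FibCat.IsFibGrpd (CategoricalPullback.π₁ q p) where
  exists_lift := by
    intro a R f
    change R ⟶ a.fst at f
    obtain ⟨y', φ, hφ⟩ := hp.exists_lift (x := a.snd) (q.map f ≫ a.iso.hom)
    have hd : p.obj y' = q.obj R := IsHomLift.domain_eq p (q.map f ≫ a.iso.hom) φ
    obtain ⟨e, he⟩ : ∃ e : q.obj R ≅ p.obj y', q.map f ≫ a.iso.hom = e.hom ≫ p.map φ := by
      refine ⟨eqToIso hd.symm, ?_⟩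
      have := IsHomLift.fac p (q.map f ≫ a.iso.hom) φ
      simpa using this
    exact ⟨⟨R, y', e⟩, ⟨f, φ, he⟩, (isHomLift_iff_map_eq _ _ _).mpr rfl⟩
  isStronglyCartesian := fun m => sc_π₁ q p hp m

/-- replacing a functor over `D` up to isomorphism by one strictly over `D`. -/
theorem strictify [FibCat.IsFibGrpd p] {𝒟 : Type u₁} [Category.{v₁} 𝒟] (Φ : 𝒟 ⥤ D)
    (H₀ : 𝒟 ⥤ F) (σ : ∀ d, Φ.obj d ⟶ p.obj (H₀.obj d))
    (hσ : ∀ {d d' : 𝒟} (k : d ⟶ d'), Φ.map k ≫ σ d' = σ d ≫ p.map (H₀.map k)) :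
    ∃ (H' : 𝒟 ⥤ F) (_ : H' ⋙ p = Φ) (θ : ∀ d, H'.obj d ⟶ H₀.obj d),
      (∀ d, p.IsHomLift (σ d) (θ d)) ∧
        ∀ {d d' : 𝒟} (k : d ⟶ d'), H'.map k ≫ θ d' = θ d ≫ H₀.map k := by
  have hE : ∀ d, ∃ (y : F) (m : y ⟶ H₀.obj d), p.IsHomLift (σ d) m := fun d =>
    exists_lift_over p rfl (σ d)
  choose ob θ hθ using hE
  have hM : ∀ (d d' : 𝒟) (k : d ⟶ d'), ∃ m : ob d ⟶ ob d',
      p.IsHomLift (Φ.map k) m ∧ m ≫ θ d' = θ d ≫ H₀.map k := by
    intro d d' k
    have l : p.IsHomLift (Φ.map k ≫ σ d') (θ d ≫ H₀.map k) := by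
      rw [hσ k]
      exact lift_comp p (hθ d) (IsHomLift.map p (H₀.map k))
    exact exists_lift_of p (hθ d') (Φ.map k) l
  choose M hM1 hM2 using hM
  have hd : ∀ d, p.obj (ob d) = Φ.obj d := fun d => by
    have := hθ d
    exact IsHomLift.domain_eq p (σ d) (θ d)
  have hid : ∀ d, M d d (𝟙 d) = 𝟙 (ob d) := by
    intro d
    have l1 : p.IsHomLift (Φ.map (𝟙 d)) (𝟙 (ob d)) := by
      rw [Φ.map_id]
      exact IsHomLift.id (hd d)
    refine lift_unique p (hθ d) (hM1 d d (𝟙 d)) l1 ?_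
    rw [hM2, H₀.map_id, Category.comp_id, Category.id_comp]
  have hcomp : ∀ {d d' d'' : 𝒟} (k : d ⟶ d') (k' : d' ⟶ d''),
      M d d'' (k ≫ k') = M d d' k ≫ M d' d'' k' := by
    intro d d' d'' k k'
    have l1 : p.IsHomLift (Φ.map (k ≫ k')) (M d d' k ≫ M d' d'' k') := by
      rw [Φ.map_comp]
      exact lift_comp p (hM1 d d' k) (hM1 d' d'' k')
    refine lift_unique p (hθ d'') (hM1 d d'' (k ≫ k')) l1 ?_
    rw [hM2, Category.assoc, hM2, ← Category.assoc, hM2, Category.assoc, H₀.map_comp]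
  let H' : 𝒟 ⥤ F :=
    { obj := ob
      map := fun {d d'} k => M d d' k
      map_id := hid
      map_comp := fun k k' => hcomp k k' }
  refine ⟨H', ?_, θ, hθ, fun {d d'} k => hM2 d d' k⟩
  refine CategoryTheory.Functor.ext (fun d => hd d) ?_
  intro d d' k
  have := hM1 d d' k
  exact IsHomLift.fac' p (Φ.map k) (M d d' k)

end fib

section hcn

variable {A : Type u₁} [Category.{v₁} A]

/-- a category with an object `a₀` such that every object has a weak product with `a₀` has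
contractible nerve. -/
theorem hcn_of_weakProd (a₀ : A)
    (h : ∀ a : A, ∃ (c : A) (p₁ : c ⟶ a) (p₂ : c ⟶ a₀), ∀ (c' : A) (f₁ : c' ⟶ a) (f₂ : c' ⟶ a₀),
      ∃ m : c' ⟶ c, m ≫ p₁ = f₁ ∧ m ≫ p₂ = f₂) :
    HasContractibleNerve.{w₁, w₂} A := by
  refine ⟨⟨a₀⟩, fun G _ => ?_⟩
  choose c p₁ p₂ hc using h
  refine { faithful := ⟨fun {x y} f g hfg => ?_⟩, full := ⟨fun {x y} γ => ?_⟩,
           essSurj := ⟨fun T => ?_⟩ }
  · exact congrArg (fun t => t.app a₀) hfg
  · refine ⟨γ.app a₀, ?_⟩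
    ext a
    have n1 : γ.app a = γ.app (c a) := by
      have := γ.naturality (p₁ a)
      simp only [Functor.const_obj_obj, Functor.const_obj_map, Category.id_comp,
        Category.comp_id] at this
      exact this
    have n2 : γ.app a₀ = γ.app (c a) := by
      have := γ.naturality (p₂ a)
      simp only [Functor.const_obj_obj, Functor.const_obj_map, Category.id_comp,
        Category.comp_id] at this
      exact this
    exact n2.trans n1.symm
  · refine ⟨T.obj a₀, ⟨NatIso.ofComponents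
      (fun a => asIso (inv (T.map (p₂ a)) ≫ T.map (p₁ a))) ?_⟩⟩
    intro a b k
    obtain ⟨m, hm1, hm2⟩ := hc b (c a) (p₁ a ≫ k) (p₂ a)
    have e1 : T.map m ≫ T.map (p₁ b) = T.map (p₁ a) ≫ T.map k := by
      rw [← T.map_comp, ← T.map_comp, hm1]
    have e2 : T.map m ≫ T.map (p₂ b) = T.map (p₂ a) := by
      rw [← T.map_comp, hm2]
    have e3 : inv (T.map (p₂ b)) = inv (T.map (p₂ a)) ≫ T.map m := by
      rw [IsIso.eq_inv_comp, IsIso.comp_inv_eq, e2]
    show 𝟙 _ ≫ (inv (T.map (p₂ b)) ≫ T.map (p₁ b)) =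
      (inv (T.map (p₂ a)) ≫ T.map (p₁ a)) ≫ T.map k
    rw [Category.id_comp, Category.assoc, ← e1, e3, Category.assoc]

/-- a category with a weakly terminal object to which any two parallel maps agree has
contractible nerve. -/
theorem hcn_of_terminal (a₀ : A) (t : ∀ a : A, a ⟶ a₀) (huniq : ∀ (a : A) (f g : a ⟶ a₀), f = g) :
    HasContractibleNerve.{w₁, w₂} A :=
  hcn_of_weakProd a₀ (fun a => ⟨a, 𝟙 a, t a, fun c' f₁ f₂ =>
    ⟨f₁, Category.comp_id _, huniq _ _ _⟩⟩)

end hcn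


section om

variable {A' : Type u₁} [Category.{v₁} A'] {A : Type u₂} [Category.{v₂} A] {D : Type u₃}
  [Category.{v₃} D] {F : Type u₄} [Category.{v₄} F] (r : A' ⥤ A) (q : A ⥤ D) (p : F ⥤ D)

theorem comm_of_lift {x y : D} {a b : F} {f : x ⟶ y} {m : a ⟶ b} (h : p.IsHomLift f m)
    (hx : x = p.obj a) (hy : y = p.obj b) : f ≫ eqToHom hy = eqToHom hx ≫ p.map m := by
  rw [IsHomLift.fac' p f m]; simp

theorem lift_of_comm {x y : D} {a b : F} {f : x ⟶ y} {m : a ⟶ b} (hx : x = p.obj a)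
    (hy : y = p.obj b) (h : f ≫ eqToHom hy = eqToHom hx ≫ p.map m) : p.IsHomLift f m := by
  apply IsHomLift.of_fac' p f m hx.symm hy.symm
  subst hx hy
  simpa using h.symm

theorem comm_of_lift_id {x : D} {a b : F} {m : a ⟶ b} (h : p.IsHomLift (𝟙 x) m) {x' : A}
    (hxx : q.obj x' = x) (hx : q.obj x' = p.obj a) (hy : q.obj x' = p.obj b) :
    q.map (𝟙 x') ≫ eqToHom hy = eqToHom hx ≫ p.map m := by
  subst hxx
  rw [q.map_id]
  exact comm_of_lift p h hx hy

theorem lift_id_of_comm {x' : A} {a b : F} {m : a ⟶ b} {f : x' ⟶ x'} (hf : f = 𝟙 x')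
    (hx : q.obj x' = p.obj a) (hy : q.obj x' = p.obj b)
    (h : q.map f ≫ eqToHom hy = eqToHom hx ≫ p.map m) : p.IsHomLift (𝟙 (q.obj x')) m := by
  subst hf
  rw [q.map_id] at h
  exact lift_of_comm p hx hy h

theorem sigma_nat {x x' y y' : A} (hx : x = y) (hx' : x' = y') (m : x ⟶ x') (n : y ⟶ y')
    (hm : m = eqToHom hx ≫ n ≫ eqToHom hx'.symm) {z z' : D} (i : q.obj x ⟶ z)
    (i' : q.obj x' ⟶ z') (t : z ⟶ z') (w : q.map m ≫ i' = i ≫ t) :
    q.map n ≫ (eqToHom (congrArg q.obj hx'.symm) ≫ i') =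
      (eqToHom (congrArg q.obj hx.symm) ≫ i) ≫ t := by
  subst hx hx'
  simp only [eqToHom_refl, Category.id_comp, Category.comp_id] at hm
  subst hm
  simpa using w

theorem bf_lift {q' : A' ⥤ D} (s : BasedCategory.ofFunctor q' ⥤ᵇ BasedCategory.ofFunctor p)
    {X X' : A'} (g : X ⟶ X') : p.IsHomLift (q'.map g) ((s.toFunctor : A' ⥤ F).map g) := by
  have h0 : (BasedCategory.ofFunctor q').p.IsHomLift (q'.map g) g := IsHomLift.map q' g
  exact BasedFunctor.preserves_isHomLift s (q'.map g) g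

/-- the underlying functor of `Om s`. -/
def omFun (s : BasedCategory.ofFunctor (r ⋙ q) ⥤ᵇ BasedCategory.ofFunctor p) :
    A' ⥤ CategoricalPullback q p where
  obj a' := ⟨r.obj a', s.toFunctor.obj a', eqToIso (s.w_obj a').symm⟩
  map {a' b'} k := ⟨r.map k, s.toFunctor.map k, comm_of_lift p (bf_lift p s k) (s.w_obj a').symm (s.w_obj b').symm⟩
  map_id a' := CategoricalPullback.hom_ext (r.map_id a') (s.toFunctor.map_id a')
  map_comp k k' := CategoricalPullback.hom_ext (r.map_comp k k') (s.toFunctor.map_comp k k')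

/-- the object part of `Om`. -/
def omObj (s : BasedCategory.ofFunctor (r ⋙ q) ⥤ᵇ BasedCategory.ofFunctor p) :
    BasedCategory.ofFunctor r ⥤ᵇ BasedCategory.ofFunctor (CategoricalPullback.π₁ q p) where
  toFunctor := omFun r q p s
  w := rfl

/-- components of `Om α`. -/
def omApp {s s' : BasedCategory.ofFunctor (r ⋙ q) ⥤ᵇ BasedCategory.ofFunctor p}
    (α : BasedNatTrans s s') (a' : A') : (omFun r q p s).obj a' ⟶ (omFun r q p s').obj a' :=
  ⟨𝟙 (r.obj a'), α.toNatTrans.app a',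
    comm_of_lift_id q p (α.isHomLift' a') rfl (s.w_obj a').symm (s'.w_obj a').symm⟩

/-- the morphism part of `Om`. -/
def omMap {s s' : BasedCategory.ofFunctor (r ⋙ q) ⥤ᵇ BasedCategory.ofFunctor p}
    (α : BasedNatTrans s s') : BasedNatTrans (omObj r q p s) (omObj r q p s') where
  toNatTrans :=
    { app := fun a' => omApp r q p α a'
      naturality := fun {_ _} k => CategoricalPullback.hom_ext
        ((Category.comp_id _).trans (Category.id_comp _).symm) (α.toNatTrans.naturality k) }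
  isHomLift' := fun a' =>
    (isHomLift_iff_map_eq (CategoricalPullback.π₁ q p) (a := (omFun r q p s).obj a')
      (b := (omFun r q p s').obj a') (𝟙 (r.obj a')) (omApp r q p α a')).mpr rfl

/-- functors `A' ⥤ F` over `D` are the same as functors `A' ⥤ A ×_D F` over `A`. -/
def Om : (BasedCategory.ofFunctor (r ⋙ q) ⥤ᵇ BasedCategory.ofFunctor p) ⥤
    (BasedCategory.ofFunctor r ⥤ᵇ BasedCategory.ofFunctor (CategoricalPullback.π₁ q p)) where
  obj s := omObj r q p s
  map α := omMap r q p α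
  map_id s := by
    apply BasedNatTrans.homCategory.ext
    ext a'
    exact CategoricalPullback.hom_ext rfl rfl
  map_comp α β := by
    apply BasedNatTrans.homCategory.ext
    ext a'
    exact CategoricalPullback.hom_ext (Category.comp_id _).symm rfl

theorem om_faithful : (Om r q p).Faithful := ⟨fun {s s'} α β h => by
  apply BasedNatTrans.homCategory.ext
  ext a'
  exact congrArg (fun δ : omObj r q p s ⟶ omObj r q p s' =>
    CategoricalPullback.Hom.snd (δ.toNatTrans.app a')) h⟩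

theorem om_full : (Om r q p).Full := ⟨fun {s s'} γ => by
  have hfst : ∀ a', CategoricalPullback.Hom.fst (γ.toNatTrans.app a') = 𝟙 (r.obj a') := fun a' =>
    (isHomLift_iff_map_eq (CategoricalPullback.π₁ q p) (a := (omFun r q p s).obj a')
      (b := (omFun r q p s').obj a') (𝟙 (r.obj a')) (γ.toNatTrans.app a')).mp (γ.isHomLift' a')
  refine ⟨{ toNatTrans :=
              { app := fun a' => CategoricalPullback.Hom.snd (γ.toNatTrans.app a')
                naturality := fun {a' b'} k =>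
                  congrArg CategoricalPullback.Hom.snd (γ.toNatTrans.naturality k) }
            isHomLift' := fun a' => ?_ }, ?_⟩
  · exact lift_id_of_comm q p (hfst a') (s.w_obj a').symm (s'.w_obj a').symm
      (CategoricalPullback.Hom.w (γ.toNatTrans.app a'))
  · apply BasedNatTrans.homCategory.ext
    ext a'
    exact CategoricalPullback.hom_ext (hfst a').symm rfl⟩

theorem om_ess_aux [FibCat.IsFibGrpd p] (G' : A' ⥤ CategoricalPullback q p)
    (hG : G' ⋙ CategoricalPullback.π₁ q p = r) :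
    ∃ (H' : A' ⥤ F) (hH : H' ⋙ p = r ⋙ q)
      (ε : ∀ a', (omFun r q p ⟨H', hH⟩).obj a' ⟶ G'.obj a'),
      (∀ a', (CategoricalPullback.π₁ q p).IsHomLift (𝟙 (r.obj a')) (ε a')) ∧
        ∀ {a' b' : A'} (k : a' ⟶ b'), (omFun r q p ⟨H', hH⟩).map k ≫ ε b' = ε a' ≫ G'.map k := by
  have hx : ∀ a', (G'.obj a').fst = r.obj a' := fun a' => Functor.congr_obj hG a'
  have hσ : ∀ {d d' : A'} (k : d ⟶ d'),
      (r ⋙ q).map k ≫ (eqToHom (congrArg q.obj (hx d').symm) ≫ (G'.obj d').iso.hom) =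
        (eqToHom (congrArg q.obj (hx d).symm) ≫ (G'.obj d).iso.hom) ≫
          p.map ((G' ⋙ CategoricalPullback.π₂ q p).map k) := fun {d d'} k =>
    sigma_nat q (hx d) (hx d') (G'.map k).fst (r.map k) (Functor.congr_hom hG k) _ _ _ (G'.map k).w
  obtain ⟨H', hH, θ, hθ, hnat⟩ := strictify p (r ⋙ q) (G' ⋙ CategoricalPullback.π₂ q p)
    (fun a' => eqToHom (congrArg q.obj (hx a').symm) ≫ (G'.obj a').iso.hom) hσ
  refine ⟨H', hH, fun a' => ⟨eqToHom (hx a').symm, θ a', ?_⟩, fun a' => ?_, fun {a' b'} k => ?_⟩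
  · have h1 := comm_of_lift p (hθ a') (Functor.congr_obj hH a').symm rfl
    rw [eqToHom_refl, Category.comp_id] at h1
    exact (congrArg (· ≫ (G'.obj a').iso.hom) (eqToHom_map q (hx a').symm)).trans h1
  · refine IsHomLift.of_fac' (CategoricalPullback.π₁ q p) (𝟙 (r.obj a')) _ rfl (hx a') ?_
    show eqToHom (hx a').symm = eqToHom rfl ≫ 𝟙 (r.obj a') ≫ eqToHom (hx a').symm
    simp
  · refine CategoricalPullback.hom_ext ?_ (hnat k)
    have e' : (G'.map k).fst = eqToHom (hx a') ≫ r.map k ≫ eqToHom (hx b').symm :=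
      Functor.congr_hom hG k
    show r.map k ≫ eqToHom (hx b').symm = eqToHom (hx a').symm ≫ (G'.map k).fst
    rw [e']; simp

theorem om_essSurj (hp : FibCat.IsFibGrpd p) : (Om r q p).EssSurj := ⟨fun G => by
  have := hp
  obtain ⟨H', hH, ε, hε, hnat⟩ := om_ess_aux r q p G.toFunctor G.w
  let s : BasedCategory.ofFunctor (r ⋙ q) ⥤ᵇ BasedCategory.ofFunctor p := ⟨H', hH⟩
  let εb : (Om r q p).obj s ⟶ G :=
    { toNatTrans := { app := ε, naturality := fun {a' b'} k => hnat k }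
      isHomLift' := hε }
  have : IsIso εb := Groth.Agent.H32.RepStack.isIso_natTrans (isFibGrpd_π₁ q p hp) εb
  exact ⟨s, ⟨asIso εb⟩⟩⟩

theorem om_isEquivalence (hp : FibCat.IsFibGrpd p) : (Om r q p).IsEquivalence :=
  { faithful := om_faithful r q p, full := om_full r q p, essSurj := om_essSurj r q p hp }

/-- a functor `φ : A' ⥤ A` as a functor over `D`. -/
def bf (φ : A' ⥤ A) (q : A ⥤ D) (q' : A' ⥤ D) (h : φ ⋙ q = q') :
    BasedCategory.ofFunctor q' ⥤ᵇ BasedCategory.ofFunctor q where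
  toFunctor := φ
  w := h

/-- restriction of functors over `D` into a category fibred in groupoids along a functor with
contractible comma categories is an equivalence. -/
theorem restr_bf_isEquivalence (φ : A' ⥤ A) (q : A ⥤ D) (q' : A' ⥤ D) (h : φ ⋙ q = q')
    (hp : FibCat.IsFibGrpd p)
    (hφ : ∀ Y : A, HasContractibleNerve.{max u₁ u₂ u₄ v₁ v₂ v₃ v₄, max u₁ u₂ u₄ v₁ v₂ v₃ v₄}
      (StructuredArrow Y φ)) :
    (Stk.restr (bf φ q q' h) (BasedCategory.ofFunctor p)).IsEquivalence := by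
  subst h
  have : FibCat.IsFibGrpd (CategoricalPullback.π₁ q p) := isFibGrpd_π₁ q p hp
  have h1 := main φ (CategoricalPullback.π₁ q p) hφ
  have h2 := om_isEquivalence φ q p hp
  let Om0 : (BasedCategory.ofFunctor q ⥤ᵇ BasedCategory.ofFunctor p) ⥤
      (FibCat.selfOver A ⥤ᵇ BasedCategory.ofFunctor (CategoricalPullback.π₁ q p)) :=
    Om (𝟭 A) q p
  have h3 : Om0.IsEquivalence := om_isEquivalence (𝟭 A) q p hp
  have sq : Stk.restr (bf φ q _ rfl) (BasedCategory.ofFunctor p) ⋙ Om φ q p =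
      Om0 ⋙ Stk.restr (FibCat.toSelf (BasedCategory.ofFunctor φ))
        (BasedCategory.ofFunctor (CategoricalPullback.π₁ q p)) := rfl
  have : (Stk.restr (bf φ q _ rfl) (BasedCategory.ofFunctor p) ⋙ Om φ q p).IsEquivalence := by
    rw [sq]; infer_instance
  exact Functor.isEquivalence_of_comp_right _ (Om φ q p)

end om

end Groth.Agent.H36.CatPb
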