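import Groth.Agent.H36.CatPb
import Mathlib.CategoryTheory.Sites.CoverPreserving
import Mathlib.CategoryTheory.Limits.Preserves.Shapes.Pullbacks

/-!
# The 2-fibre product `C ×_D 𝒮` of a stack along a cover-preserving functor is a stack (helper36)
-/

set_option autoImplicit false
universe w₁ w₂ v₁ v₂ v₃ u₁ u₂ u₃
open CategoryTheory CategoryTheory.Limits

namespace Groth.Agent.H36.CatPb

open W4c2modmodulilect (HasContractibleNerve)

section post

variable {C : Type u₁} [Category.{v₁} C] {D : Type u₂} [Category.{v₂} D] (u : C ⥤ D)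

theorem hcn_post (U : C) (Y : Over (u.obj U)) :
    HasContractibleNerve.{w₁, w₂} (StructuredArrow Y (Over.post (X := U) u)) := by
  refine hcn_of_terminal
    (StructuredArrow.mk (Y := Over.mk (𝟙 U)) (Over.homMk Y.hom
      ((congrArg (Y.hom ≫ ·) (u.map_id U)).trans (Category.comp_id _))))
    (fun a => StructuredArrow.homMk (Over.homMk a.right.hom (by simp)) ?_) ?_
  · apply Over.OverMorphism.ext
    show a.hom.left ≫ u.map a.right.hom = Y.hom
    exact Over.w a.hom
  · intro a f g
    apply StructuredArrow.ext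
    apply Over.OverMorphism.ext
    have hf := Over.w f.right
    have hg := Over.w g.right
    simp only [StructuredArrow.mk_right, Over.mk_hom] at hf hg
    exact ((Category.comp_id _).symm.trans hf).trans ((Category.comp_id _).symm.trans hg).symm

theorem exists_lift_u {X Y Z : C} (f : X ⟶ Z) (g : Y ⟶ Z) [HasPullback f g]
    [PreservesLimit (cospan f g) u] {T : D} (a : T ⟶ u.obj X) (b : T ⟶ u.obj Y)
    (h : a ≫ u.map f = b ≫ u.map g) :
    ∃ l : T ⟶ u.obj (pullback f g),
      l ≫ u.map (pullback.fst f g) = a ∧ l ≫ u.map (pullback.snd f g) = b :=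
  ⟨PullbackCone.IsLimit.lift (isLimitOfHasPullbackOfPreservesLimit u f g) a b h,
    PullbackCone.IsLimit.lift_fst _ _ _ _, PullbackCone.IsLimit.lift_snd _ _ _ _⟩

theorem hom_ext_u {X Y Z : C} (f : X ⟶ Z) (g : Y ⟶ Z) [HasPullback f g]
    [PreservesLimit (cospan f g) u] {T : D} (l l' : T ⟶ u.obj (pullback f g))
    (h1 : l ≫ u.map (pullback.fst f g) = l' ≫ u.map (pullback.fst f g))
    (h2 : l ≫ u.map (pullback.snd f g) = l' ≫ u.map (pullback.snd f g)) : l = l' :=
  PullbackCone.IsLimit.hom_ext (isLimitOfHasPullbackOfPreservesLimit u f g) h1 h2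

theorem aux_hc {X P V : C} {T : D} (l : T ⟶ u.obj P) (π : P ⟶ V) (fV : V ⟶ X)
    (fa : T ⟶ u.obj V) (y : T ⟶ u.obj X) (hl1 : l ≫ u.map π = fa) (hfa : fa ≫ u.map fV = y) :
    l ≫ u.map (π ≫ fV) = y := by
  rw [u.map_comp, ← Category.assoc, hl1, hfa]

theorem aux_m {V Z X : C} (fV : V ⟶ X) (g : Z ⟶ X) [HasPullback fV g]
    [PreservesLimit (cospan fV g) u] {T : D} {W' : C} (t : T ⟶ u.obj W') (m₁ : W' ⟶ V)
    (m₂ : W' ⟶ Z) (w : m₁ ≫ fV = m₂ ≫ g) (l : T ⟶ u.obj (pullback fV g)) (fa : T ⟶ u.obj V)
    (h : T ⟶ u.obj Z) (hl1 : l ≫ u.map (pullback.fst fV g) = fa)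
    (hl2 : l ≫ u.map (pullback.snd fV g) = h) (e1 : t ≫ u.map m₁ = fa)
    (e2 : t ≫ u.map m₂ = h) : t ≫ u.map (pullback.lift m₁ m₂ w) = l := by
  apply hom_ext_u u fV g
  · rw [Category.assoc, ← u.map_comp, pullback.lift_fst, hl1]
    exact e1
  · rw [Category.assoc, ← u.map_comp, pullback.lift_snd, hl2]
    exact e2

theorem aux_hmm {V Z X W' : C} (fV : V ⟶ X) (g : Z ⟶ X) [HasPullback fV g] (m₁ : W' ⟶ V)
    (m₂ : W' ⟶ Z) (w : m₁ ≫ fV = m₂ ≫ g) (y : W' ⟶ X) (w1 : m₁ ≫ fV = y) :
    pullback.lift m₁ m₂ w ≫ (pullback.fst fV g ≫ fV) = y := by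
  rw [← Category.assoc, pullback.lift_fst, w1]

end post

section sieve

variable {C : Type u₁} [Category.{v₁} C] {D : Type u₂} [Category.{v₂} D] (u : C ⥤ D)
  {U : C} (R : Sieve U)

/-- the functor from `R` to its pushforward sieve. -/
def phiR : R.arrows.category ⥤ (R.functorPushforward u).arrows.category :=
  ObjectProperty.lift _ (ObjectProperty.ι _ ⋙ Over.post u)
    (fun W => Sieve.image_mem_functorPushforward u R W.property)

theorem hcn_phiR [HasPullbacks C] [PreservesLimitsOfShape WalkingCospan u]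
    (Y : (R.functorPushforward u).arrows.category) :
    HasContractibleNerve.{w₁, w₂} (StructuredArrow Y (phiR u R)) := by
  obtain ⟨Z, g, h, hg, hY⟩ := Y.property
  let W₀ : R.arrows.category := ⟨Over.mk g, hg⟩
  let a₀ : StructuredArrow Y (phiR u R) :=
    StructuredArrow.mk (Y := W₀) (ObjectProperty.homMk (Over.homMk h hY.symm))
  refine hcn_of_weakProd a₀ (fun a => ?_)
  have hfa : a.hom.hom.left ≫ u.map a.right.obj.hom = Y.obj.hom := Over.w a.hom.hom
  obtain ⟨l, hl1, hl2⟩ := exists_lift_u u a.right.obj.hom g a.hom.hom.left h (hfa.trans hY)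
  let Wc : R.arrows.category :=
    ⟨Over.mk (pullback.fst a.right.obj.hom g ≫ a.right.obj.hom),
      R.downward_closed a.right.property _⟩
  have hc : l ≫ u.map (pullback.fst a.right.obj.hom g ≫ a.right.obj.hom) = Y.obj.hom :=
    aux_hc u l _ _ _ _ hl1 hfa
  let c : StructuredArrow Y (phiR u R) :=
    StructuredArrow.mk (Y := Wc) (ObjectProperty.homMk (Over.homMk l hc))
  let p₁ : c ⟶ a := StructuredArrow.homMk
    (ObjectProperty.homMk (Over.homMk (pullback.fst a.right.obj.hom g) rfl)) (by
      apply ObjectProperty.hom_ext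
      apply Over.OverMorphism.ext
      exact hl1)
  let p₂ : c ⟶ a₀ := StructuredArrow.homMk
    (ObjectProperty.homMk (Over.homMk (pullback.snd a.right.obj.hom g) pullback.condition.symm)) (by
      apply ObjectProperty.hom_ext
      apply Over.OverMorphism.ext
      exact hl2)
  refine ⟨c, p₁, p₂, fun c' f₁ f₂ => ?_⟩
  have w1 : f₁.right.hom.left ≫ a.right.obj.hom = c'.right.obj.hom := Over.w f₁.right.hom
  have w2 : f₂.right.hom.left ≫ g = c'.right.obj.hom := Over.w f₂.right.hom
  have e1 : c'.hom.hom.left ≫ u.map f₁.right.hom.left = a.hom.hom.left :=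
    congrArg (fun t => t.hom.left) (StructuredArrow.w f₁)
  have e2 : c'.hom.hom.left ≫ u.map f₂.right.hom.left = h :=
    congrArg (fun t => t.hom.left) (StructuredArrow.w f₂)
  have hmm : pullback.lift f₁.right.hom.left f₂.right.hom.left (w1.trans w2.symm) ≫
      (pullback.fst a.right.obj.hom g ≫ a.right.obj.hom) = c'.right.obj.hom :=
    aux_hmm _ _ _ _ _ _ w1
  let m : c' ⟶ c := StructuredArrow.homMk
    (ObjectProperty.homMk (Over.homMk
      (pullback.lift f₁.right.hom.left f₂.right.hom.left (w1.trans w2.symm)) hmm)) (by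
      apply ObjectProperty.hom_ext
      apply Over.OverMorphism.ext
      show c'.hom.hom.left ≫ u.map (pullback.lift f₁.right.hom.left f₂.right.hom.left
        (w1.trans w2.symm)) = l
      exact aux_m u a.right.obj.hom g _ _ _ _ l _ h hl1 hl2 e1 e2)
  refine ⟨m, ?_, ?_⟩
  · apply StructuredArrow.ext
    apply ObjectProperty.hom_ext
    apply Over.OverMorphism.ext
    exact pullback.lift_fst _ _ _
  · apply StructuredArrow.ext
    apply ObjectProperty.hom_ext
    apply Over.OverMorphism.ext
    exact pullback.lift_snd _ _ _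

end sieve

section main

variable {C : Type u₁} [Category.{v₁} C] {D : Type u₂} [Category.{v₂} D] [HasPullbacks C]

/-- the 2-fibre product `C ×_D F` of a stack in groupoids `p : F ⥤ D` along a pullback-preserving
cover-preserving functor `u : C ⥤ D` is a stack in groupoids over `C`. -/
theorem isStack_π₁ (J : GrothendieckTopology C) (K : GrothendieckTopology D) (u : C ⥤ D)
    [PreservesLimitsOfShape WalkingCospan u] (hu : CoverPreserving J K u) {F : Type u₃}
    [Category.{v₃} F] (p : F ⥤ D) (hp : Stk.IsStack K (BasedCategory.ofFunctor p)) :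
    Stk.IsStack J (BasedCategory.ofFunctor (CategoricalPullback.π₁ u p)) := by
  refine ⟨isFibGrpd_π₁ u p hp.1, fun U R hR => ?_⟩
  have hS : R.functorPushforward u ∈ K (u.obj U) := hu.cover_preserve hR
  have hE : (Stk.restr (Stk.sieveIncl (R.functorPushforward u))
      (BasedCategory.ofFunctor p)).IsEquivalence := hp.2 (R.functorPushforward u) hS
  have hP1 := restr_bf_isEquivalence p (Over.post (X := U) u) (Over.forget (u.obj U))
    (Over.forget U ⋙ u) rfl hp.1 (fun Y => hcn_post u U Y)
  have hP2 := restr_bf_isEquivalence p (phiR u R) (R.functorPushforward u).arrows.diagram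
    (R.arrows.diagram ⋙ u) rfl hp.1 (fun Y => hcn_phiR u R Y)
  let ιR : R.arrows.category ⥤ Over U := ObjectProperty.ι _
  let E₁ := Stk.restr (bf ιR (Over.forget U ⋙ u) (R.arrows.diagram ⋙ u) rfl)
    (BasedCategory.ofFunctor p)
  have sq1 : Stk.restr (bf (Over.post (X := U) u) (Over.forget (u.obj U)) (Over.forget U ⋙ u) rfl)
        (BasedCategory.ofFunctor p) ⋙ E₁ =
      Stk.restr (Stk.sieveIncl (R.functorPushforward u)) (BasedCategory.ofFunctor p) ⋙
        Stk.restr (bf (phiR u R) (R.functorPushforward u).arrows.diagram (R.arrows.diagram ⋙ u) rfl)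
          (BasedCategory.ofFunctor p) := rfl
  have hE₁ : E₁.IsEquivalence := by
    have : (Stk.restr (bf (Over.post (X := U) u) (Over.forget (u.obj U)) (Over.forget U ⋙ u) rfl)
        (BasedCategory.ofFunctor p) ⋙ E₁).IsEquivalence := by
      rw [sq1]; infer_instance
    exact Functor.isEquivalence_of_comp_left
      (Stk.restr (bf (Over.post (X := U) u) (Over.forget (u.obj U)) (Over.forget U ⋙ u) rfl)
        (BasedCategory.ofFunctor p)) E₁
  have hO1 := om_isEquivalence (Over.forget U) u p hp.1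
  have hO2 := om_isEquivalence R.arrows.diagram u p hp.1
  have sq2 : E₁ ⋙ Om R.arrows.diagram u p =
      Om (Over.forget U) u p ⋙
        Stk.restr (Stk.sieveIncl R) (BasedCategory.ofFunctor (CategoricalPullback.π₁ u p)) := rfl
  have : (Om (Over.forget U) u p ⋙
      Stk.restr (Stk.sieveIncl R)
        (BasedCategory.ofFunctor (CategoricalPullback.π₁ u p))).IsEquivalence := by
    rw [← sq2]; infer_instance
  exact Functor.isEquivalence_of_comp_left (Om (Over.forget U) u p)
    (Stk.restr (Stk.sieveIncl R) (BasedCategory.ofFunctor (CategoricalPullback.π₁ u p)))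

end main

end Groth.Agent.H36.CatPb
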