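import Groth.Statements.S13536
import Groth.Agent.S9514
import Groth.Agent.S0988
import Groth.Agent.H22.SerreH1
import Groth.Agent.H21.EpiPush

/-!
# Cohomology vanishing for coherent modules supported on a closed subset (helper36, piece (V2)
for S13536): filtration by powers of the ideal.
-/

set_option autoImplicit false
set_option linter.style.haveILetI false
universe u
open CategoryTheory CategoryTheory.Limits AlgebraicGeometry Abelian

namespace Groth.Agent.H36.CdIsoFilt

open Groth.Agent.H22.SerreH1 (toAbF constZ)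
open Groth.Agent.H36.IdealMul

variable {X : Scheme.{u}}

lemma subsingleton_HH_of_shortExact (S : ShortComplex X.Modules) (hS : S.ShortExact) (i : ℕ)
    (h₁ : Subsingleton (Coh.HH X S.X₁ i)) (h₃ : Subsingleton (Coh.HH X S.X₃ i)) :
    Subsingleton (Coh.HH X S.X₂ i) := by
  have hS' : (S.map (toAbF X)).ShortExact := hS.map_of_exact _
  have key : ∀ x : Abelian.Ext (constZ X) (S.map (toAbF X)).X₂ i, x = 0 := by
    intro x
    haveI : Subsingleton (Abelian.Ext (constZ X) (S.map (toAbF X)).X₃ i) := h₃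
    haveI : Subsingleton (Abelian.Ext (constZ X) (S.map (toAbF X)).X₁ i) := h₁
    obtain ⟨x₁, hx₁⟩ := Ext.covariant_sequence_exact₂ (constZ X) hS' x (Subsingleton.elim _ _)
    rw [← hx₁, Subsingleton.elim x₁ 0, Ext.zero_comp]
  exact ⟨fun a b => (key a).trans (key b).symm⟩

/-- `J^m` kills the sections of `K` over affine opens. -/
def Kills (J : X.IdealSheafData) (m : ℕ) (K : X.Modules) : Prop :=
  ∀ (W : X.affineOpens), ∀ a ∈ (J.ideal W) ^ m, ∀ t : Γ(K, W.1), a • t = 0

lemma sections_zero_of_affine (K : X.Modules)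
    (h : ∀ (W : X.affineOpens) (t : Γ(K, W.1)), t = 0) (V : X.Opens) (s : Γ(K, V)) : s = 0 := by
  apply Groth.Agent.H8.section_eq_of_cover K s 0
  intro x hx
  obtain ⟨W, hW, hxW, hWV⟩ := exists_isAffineOpen_mem_and_subset (x := x) (U := V) hx
  refine ⟨W, hWV, hxW, ?_⟩
  rw [map_zero]
  exact h ⟨W, hW⟩ _

lemma idealMul_sections_zero (J : X.IdealSheafData) (K : X.Modules) [K.IsQuasicoherent]
    (h : ∀ (W : X.affineOpens), ∀ a ∈ J.ideal W, ∀ t : Γ(K, W.1), a • t = 0)
    (V : X.Opens) (s : Γ((Dual3.idealMul J).obj K, V)) : s = 0 := by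
  refine sections_zero_of_affine _ (fun W s => ?_) V s
  apply idealMulι_app_injective J K W.1
  rw [map_zero]
  have hm := idealMulι_app_mem J K W s
  exact Submodule.smul_induction_on (p := fun y => y = 0) hm (fun a ha t _ => h W a ha t)
    (fun x y hx hy => by rw [hx, hy, add_zero])

theorem induct [IsNoetherian X] (J : X.IdealSheafData) (k : ℕ)
    (hV1 : ∀ K : X.Modules, Coh.IsCoh K →
      (∀ (W : X.Opens) (s : Γ((Dual3.idealMul J).obj K, W)), s = 0) →
      ∀ i : ℕ, k + 1 ≤ i → Subsingleton (Coh.HH X K i)) (i : ℕ) (hi : k + 1 ≤ i) :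
    ∀ (m : ℕ) (K : X.Modules), Coh.IsCoh K → Kills J m K → Subsingleton (Coh.HH X K i)
  | 0, K, hK, hN => by
    haveI : K.IsQuasicoherent := hK.1
    refine hV1 K hK (idealMul_sections_zero J K (fun W a _ t => ?_)) i hi
    have h1 : t = 0 := by
      have h2 := hN W 1 (by rw [pow_zero, Ideal.one_eq_top]; exact Submodule.mem_top) t
      rwa [one_smul] at h2
    rw [h1, smul_zero]
  | m + 1, K, hK, hN => by
    haveI : K.IsQuasicoherent := hK.1
    have hK'q := isQuasicoherent_idealMul J K
    have hK' : Coh.IsCoh ((Dual3.idealMul J).obj K) :=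
      ⟨hK'q, @Groth.Agent.H8.isFiniteType_of_forall_affine_finite X _ hK'q
        (fun W => finite_sections_idealMul J K hK W)⟩
    have hN' : Kills J m ((Dual3.idealMul J).obj K) := by
      intro W a ha t'
      apply idealMulι_app_injective J K W.1
      rw [Scheme.Modules.Hom.app_smul, map_zero]
      have hm := idealMulι_app_mem J K W t'
      refine Submodule.smul_induction_on (p := fun y => a • y = 0) hm (fun b hb t _ => ?_)
        (fun x y hx hy => by rw [smul_add, hx, hy, add_zero])
      rw [smul_smul]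
      exact hN W (a * b) (by rw [pow_succ]; exact Ideal.mul_mem_mul ha hb) t
    have h1 := induct J k hV1 i hi m _ hK' hN'
    have hK'' := (Groth.Agent.S9514.result X hK' hK (Dual3.idealMulι J K)).2
    haveI : (cokernel (Dual3.idealMulι J K)).IsQuasicoherent := hK''.1
    have h3 : Subsingleton (Coh.HH X (cokernel (Dual3.idealMulι J K)) i) := by
      refine hV1 _ hK'' (idealMul_sections_zero J _ (fun W b hb t'' => ?_)) i hi
      obtain ⟨t, rfl⟩ := Groth.Agent.H21.EpiPush.app_surjective_of_epi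
        (cokernel.π (Dual3.idealMulι J K)) W.2 t''
      rw [← Scheme.Modules.Hom.app_smul]
      have hmem : b • t ∈ (J.ideal W) • (⊤ : Submodule Γ(X, W.1) Γ(K, W.1)) :=
        Submodule.smul_mem_smul hb Submodule.mem_top
      obtain ⟨t', ht'⟩ := (exists_idealMulι_app_eq_iff J K W (b • t)).mpr hmem
      rw [← ht']
      exact congrArg (fun ξ : (Dual3.idealMul J).obj K ⟶ cokernel (Dual3.idealMulι J K) =>
        Scheme.Modules.Hom.app ξ W.1 t') (cokernel.condition (Dual3.idealMulι J K))
    let S : ShortComplex X.Modules :=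
      ShortComplex.mk (Dual3.idealMulι J K) (cokernel.π (Dual3.idealMulι J K))
        (cokernel.condition _)
    have hS : S.ShortExact :=
      { exact := ShortComplex.exact_cokernel (Dual3.idealMulι J K)
        mono_f := inferInstanceAs (Mono (Dual3.idealMulι J K))
        epi_g := inferInstanceAs (Epi (cokernel.π (Dual3.idealMulι J K))) }
    exact subsingleton_HH_of_shortExact S hS i h1 h3

set_option backward.isDefEq.respectTransparency false in
lemma restrict_id_eq_zero (U : X.Opens) (K : X.Modules)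
    (hKU : ∀ V : X.Opens, V ≤ U → ∀ s : Γ(K, V), s = 0) :
    (Scheme.Modules.restrictFunctor U.ι).map (𝟙 K) = 0 := by
  apply Scheme.Modules.hom_ext
  intro W'
  ext t
  have h0 : ∀ z : Γ(K, U.ι ''ᵁ W'), z = 0 := hKU _ (U.ι_image_le W')
  exact (h0 _).trans (h0 _).symm

/-- (V2) -/
theorem subsingleton_HH_of_supported (X : Scheme.{u}) [IsNoetherian X] (J : X.IdealSheafData)
    (U : X.Opens) (hU : (U : Set X) = (J.support : Set X)ᶜ) (k : ℕ)
    (hV1 : ∀ K : X.Modules, Coh.IsCoh K →
      (∀ (W : X.Opens) (s : Γ((Dual3.idealMul J).obj K, W)), s = 0) →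
      ∀ i : ℕ, k + 1 ≤ i → Subsingleton (Coh.HH X K i))
    (K : X.Modules) (hK : Coh.IsCoh K)
    (hKU : ∀ V : X.Opens, V ≤ U → ∀ s : Γ(K, V), s = 0)
    (i : ℕ) (hi : k + 1 ≤ i) : Subsingleton (Coh.HH X K i) := by
  classical
  haveI : K.IsQuasicoherent := hK.1
  have hψ := restrict_id_eq_zero U K hKU
  obtain ⟨s, hs⟩ := exists_finite_affine_cover X
  have hex : ∀ W : X.affineOpens, ∃ m : ℕ, ∀ a ∈ (J.ideal W) ^ m, ∀ t : Γ(K, W.1), a • t = 0 := by
    intro W
    haveI : IsNoetherianRing Γ(X, W.1) := IsLocallyNoetherian.component_noetherian W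
    obtain ⟨m, hm⟩ := exists_pow_smul_eq_zero J U hU (𝟙 K) hψ W
      (Groth.Agent.H8.finite_sections_of_isCoh K hK W.2) (IsNoetherian.noetherian (J.ideal W))
    exact ⟨m, fun a ha t => hm a ha t⟩
  choose mW hmW using hex
  obtain ⟨m, hm⟩ : ∃ m : ℕ, ∀ W ∈ s, mW W ≤ m := ⟨s.sup mW, fun W hW => Finset.le_sup hW⟩
  -- `J^m K` has no sections
  have hKmq := isQuasicoherent_idealMul (J ^ m) K
  have hzero : 𝟙 ((Dual3.idealMul (J ^ m)).obj K) = 0 := by
    haveI := hKmq
    refine hom_eq_zero_of_affine_cover _ (↑s : Set X.affineOpens) hs (fun W hW t' => ?_)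
    show t' = 0
    apply idealMulι_app_injective (J ^ m) K W.1
    rw [map_zero]
    have hmem := idealMulι_app_mem (J ^ m) K W t'
    refine Submodule.smul_induction_on (p := fun y => y = 0) hmem (fun a ha t _ => ?_)
      (fun x y hx hy => by rw [hx, hy, add_zero])
    have ha' : a ∈ (J.ideal W) ^ m := ha
    exact hmW W a (Ideal.pow_le_pow_right (hm W hW) ha') t
  have hKm0 : ∀ (V : X.Opens) (t' : Γ((Dual3.idealMul (J ^ m)).obj K, V)), t' = 0 := by
    intro V t'
    have h := congrArg (fun ξ : (Dual3.idealMul (J ^ m)).obj K ⟶ (Dual3.idealMul (J ^ m)).obj K =>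
      Scheme.Modules.Hom.app ξ V t') hzero
    exact h
  have hN : Kills J m K := by
    intro W a ha t
    have hmem : a • t ∈ ((J ^ m).ideal W) • (⊤ : Submodule Γ(X, W.1) Γ(K, W.1)) :=
      Submodule.smul_mem_smul (show a ∈ (J ^ m).ideal W from ha) Submodule.mem_top
    obtain ⟨t', ht'⟩ := (exists_idealMulι_app_eq_iff (J ^ m) K W (a • t)).mpr hmem
    rw [← ht', hKm0 W.1 t', map_zero]
  exact induct J k hV1 i hi m K hK hN

end Groth.Agent.H36.CdIsoFilt
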