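import Groth.Statements.S13536
import Groth.Agent.S9514
import Groth.Agent.S0988
import Groth.Agent.H53.ModEpi

/-!
# Deligne lift with supports (helper36, piece (D) for S13536)

For coherent `F`, `F'` on a Noetherian scheme which are isomorphic over an open `U`, there are a
coherent `P` and morphisms `κ : P ⟶ F`, `ψ : P ⟶ F'` whose kernels and cokernels have no sections
over opens contained in `U`.
-/

set_option autoImplicit false
set_option linter.style.haveILetI false
universe u
open CategoryTheory CategoryTheory.Limits AlgebraicGeometry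

namespace Groth.Agent.H36.CdIsoLift

open Groth.Agent.S14989 (eq_zero_of_empty exists_ideal_support support_pow_subset)

variable {X : Scheme.{u}}

/-- If `f.app V` is injective then the kernel of `f` has no sections over `V`. -/
lemma ker_sections_zero {A B : X.Modules} (f : A ⟶ B) (V : X.Opens)
    (hinj : Function.Injective (Scheme.Modules.Hom.app f V)) (s : Γ(kernel f, V)) : s = 0 := by
  apply Groth.Agent.H8.app_injective_of_mono (kernel.ι f) V
  rw [map_zero]
  apply hinj
  rw [map_zero]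
  have h := congrArg (fun ξ : kernel f ⟶ B => Scheme.Modules.Hom.app ξ V s) (kernel.condition f)
  exact h

/-- If `f.app V'` is surjective for all `V' ≤ V` then the cokernel of `f` has no sections over
`V`. -/
lemma coker_sections_zero {A B : X.Modules} (f : A ⟶ B) (V : X.Opens)
    (hsurj : ∀ V' : X.Opens, V' ≤ V → Function.Surjective (Scheme.Modules.Hom.app f V'))
    (s : Γ(cokernel f, V)) : s = 0 := by
  apply Groth.Agent.H8.section_eq_of_cover (cokernel f) s 0
  intro x hx
  obtain ⟨V', hV', t, hxV', ht⟩ :=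
    Groth.Agent.H53.modules_epi_locally_surjective (cokernel.π f) V s x hx
  obtain ⟨t', rfl⟩ := hsurj V' hV' t
  refine ⟨V', hV', hxV', ?_⟩
  rw [← ht, map_zero]
  have h := congrArg (fun ξ : A ⟶ cokernel f => Scheme.Modules.Hom.app ξ V' t')
    (cokernel.condition f)
  exact h

set_option backward.isDefEq.respectTransparency false in
lemma restrict_map_app' {A B : X.Modules} (U : X.Opens) (ψ : A ⟶ B)
    (W' : (↑U : Scheme.{u}).Opens) (t : Γ(A, U.ι ''ᵁ W')) :
    Scheme.Modules.Hom.app ((Scheme.Modules.restrictFunctor U.ι).map ψ) W'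
      (show Γ((Scheme.Modules.restrictFunctor U.ι).obj A, W') from t) =
    Scheme.Modules.Hom.app ψ (U.ι ''ᵁ W') t := rfl

set_option backward.isDefEq.respectTransparency false in
lemma restrict_comp_app' {A B : X.Modules} (U : X.Opens) {C : (↑U : Scheme.{u}).Modules}
    (κ : A ⟶ B) (φ : (Scheme.Modules.restrictFunctor U.ι).obj B ⟶ C)
    (W' : (↑U : Scheme.{u}).Opens) (t : Γ(A, U.ι ''ᵁ W')) :
    Scheme.Modules.Hom.app ((Scheme.Modules.restrictFunctor U.ι).map κ ≫ φ) W'
      (show Γ((Scheme.Modules.restrictFunctor U.ι).obj A, W') from t) =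
    Scheme.Modules.Hom.app φ W' (show Γ((Scheme.Modules.restrictFunctor U.ι).obj B, W') from
      Scheme.Modules.Hom.app κ (U.ι ''ᵁ W') t) := rfl

set_option backward.isDefEq.respectTransparency false in
/-- If `ψ|_U = κ|_U ≫ φ` then on sections over `ι(W')`, `ψ = φ ∘ κ`. -/
lemma app_eq_of_restrict_eq {A B F : X.Modules} (U : X.Opens) (ψ : A ⟶ F) (κ : A ⟶ B)
    (φ : (Scheme.Modules.restrictFunctor U.ι).obj B ⟶ (Scheme.Modules.restrictFunctor U.ι).obj F)
    (hψ : (Scheme.Modules.restrictFunctor U.ι).map ψ =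
      (Scheme.Modules.restrictFunctor U.ι).map κ ≫ φ)
    (W' : (↑U : Scheme.{u}).Opens) (t : Γ(A, U.ι ''ᵁ W')) :
    Scheme.Modules.Hom.app ψ (U.ι ''ᵁ W') t =
      Scheme.Modules.Hom.app φ W' (show Γ((Scheme.Modules.restrictFunctor U.ι).obj B, W') from
        Scheme.Modules.Hom.app κ (U.ι ''ᵁ W') t) := by
  have h3 := congrArg (fun ξ : (Scheme.Modules.restrictFunctor U.ι).obj A ⟶
      (Scheme.Modules.restrictFunctor U.ι).obj F =>
    Scheme.Modules.Hom.app ξ W' (show Γ((Scheme.Modules.restrictFunctor U.ι).obj A, W') from t)) hψ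
  beta_reduce at h3
  have hA := restrict_map_app' U ψ W' t
  have hB := restrict_comp_app' U κ φ W' t
  exact hA.symm.trans (h3.trans hB)

lemma image_preimage_of_le (U V : X.Opens) (hV : V ≤ U) : U.ι ''ᵁ (U.ι ⁻¹ᵁ V) = V := by
  rw [Scheme.Hom.image_preimage_eq_opensRange_inf, Scheme.Opens.opensRange_ι]
  exact inf_eq_right.mpr hV

set_option backward.isDefEq.respectTransparency false in
/-- (D) -/
theorem exists_lift_with_supports (X : Scheme.{u}) [IsNoetherian X] (F F' : X.Modules)
    (hF : Coh.IsCoh F) (hF' : Coh.IsCoh F') (U : X.Opens)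
    (e : F.restrict U.ι ≅ F'.restrict U.ι) :
    ∃ (P : X.Modules) (κ : P ⟶ F) (ψ : P ⟶ F'), Coh.IsCoh P ∧
      (∀ V : X.Opens, V ≤ U → ∀ s : Γ(kernel κ, V), s = 0) ∧
      (∀ V : X.Opens, V ≤ U → ∀ s : Γ(cokernel κ, V), s = 0) ∧
      (∀ V : X.Opens, V ≤ U → ∀ s : Γ(kernel ψ, V), s = 0) ∧
      (∀ V : X.Opens, V ≤ U → ∀ s : Γ(cokernel ψ, V), s = 0) := by
  haveI : F.IsQuasicoherent := hF.1
  haveI : F'.IsQuasicoherent := hF'.1
  obtain ⟨I, hI⟩ := exists_ideal_support U
  obtain ⟨φ, hφ⟩ : ∃ φ : (Scheme.Modules.restrictFunctor U.ι).obj F ⟶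
      (Scheme.Modules.restrictFunctor U.ι).obj F', φ = e.hom := ⟨_, rfl⟩
  obtain ⟨n, ψ, hψ⟩ := Groth.Agent.S9515.result X F' F hF'.1 hF I U hI φ
  have hPq := Groth.Agent.H36.IdealMul.isQuasicoherent_idealMul (I ^ n) F
  have hP : Coh.IsCoh ((Dual3.idealMul (I ^ n)).obj F) :=
    ⟨hPq, @Groth.Agent.H8.isFiniteType_of_forall_affine_finite X _ hPq
      (fun W => Groth.Agent.H36.IdealMul.finite_sections_idealMul (I ^ n) F hF W)⟩
  -- κ on sections
  have hκinj : ∀ V : X.Opens, Function.Injective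
      (Scheme.Modules.Hom.app (Dual3.idealMulι (I ^ n) F) V) :=
    fun V => Groth.Agent.H36.IdealMul.idealMulι_app_injective (I ^ n) F V
  have hκsurj : ∀ V : X.Opens, V ≤ U → Function.Surjective
      (Scheme.Modules.Hom.app (Dual3.idealMulι (I ^ n) F) V) := by
    intro V hV g
    apply Groth.Agent.H36.IdealMul.exists_idealMulι_app_eq
    refine eq_zero_of_empty ((Scheme.Modules.pullback (I ^ n).subschemeι).obj F)
      ((I ^ n).subschemeι ⁻¹ᵁ V) (fun x hx => ?_) _
    have h6 : (I ^ n).subschemeι x ∈ (I.support : Set X) :=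
      support_pow_subset I n (Groth.Agent.H22.SerreAffine.subschemeι_mem_support (I ^ n) x)
    have h7 : (I ^ n).subschemeι x ∈ (U : Set X) := hV hx
    rw [hI] at h7
    exact h7 h6
  -- e.hom on sections
  have hφbij : ∀ W' : (↑U : Scheme.{u}).Opens, Function.Bijective
      (Scheme.Modules.Hom.app φ W') := by
    intro W'
    rw [hφ]
    refine Function.bijective_iff_has_inverse.mpr
      ⟨Scheme.Modules.Hom.app e.inv W', fun a => ?_, fun b => ?_⟩
    · exact congrArg (fun ξ : F.restrict U.ι ⟶ F.restrict U.ι =>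
        Scheme.Modules.Hom.app ξ W' a) e.hom_inv_id
    · exact congrArg (fun ξ : F'.restrict U.ι ⟶ F'.restrict U.ι =>
        Scheme.Modules.Hom.app ξ W' b) e.inv_hom_id
  -- ψ on sections over images
  have hψbij' : ∀ W' : (↑U : Scheme.{u}).Opens, Function.Bijective
      (Scheme.Modules.Hom.app ψ (U.ι ''ᵁ W')) := by
    intro W'
    have hle : U.ι ''ᵁ W' ≤ U := U.ι_image_le W'
    have heq : ∀ t, Scheme.Modules.Hom.app ψ (U.ι ''ᵁ W') t =
        Scheme.Modules.Hom.app φ W'
          (show Γ((Scheme.Modules.restrictFunctor U.ι).obj F, W') from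
            Scheme.Modules.Hom.app (Dual3.idealMulι (I ^ n) F) (U.ι ''ᵁ W') t) :=
      fun t => app_eq_of_restrict_eq U ψ (Dual3.idealMulι (I ^ n) F) φ hψ W' t
    constructor
    · intro a b hab
      rw [heq a, heq b] at hab
      exact hκinj _ ((hφbij W').1 hab)
    · intro z
      obtain ⟨g, hg⟩ := (hφbij W').2 (show Γ((Scheme.Modules.restrictFunctor U.ι).obj F', W') from z)
      obtain ⟨t, ht⟩ := hκsurj _ hle (show Γ(F, U.ι ''ᵁ W') from g)
      refine ⟨t, ?_⟩
      rw [heq t, ht]
      exact hg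
  have hψbij : ∀ V : X.Opens, V ≤ U → Function.Bijective (Scheme.Modules.Hom.app ψ V) := by
    intro V hV
    have h := hψbij' (U.ι ⁻¹ᵁ V)
    rw [image_preimage_of_le U V hV] at h
    exact h
  refine ⟨_, Dual3.idealMulι (I ^ n) F, ψ, hP, ?_, ?_, ?_, ?_⟩
  · exact fun V _ s => ker_sections_zero _ V (hκinj V) s
  · exact fun V hV s => coker_sections_zero _ V (fun V' hV' => hκsurj V' (hV'.trans hV)) s
  · exact fun V hV s => ker_sections_zero _ V (hψbij V hV).1 s
  · exact fun V hV s => coker_sections_zero _ V (fun V' hV' => (hψbij V' (hV'.trans hV)).2) s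

end Groth.Agent.H36.CdIsoLift
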