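import Mathlib

/-!
# Extension by zero for presheaves of modules over a presheaf of (not necessarily commutative) rings

Port of helper31's `Groth/Agent/H31/ExtZeroPre.lean` (+ the monomorphism part of `ExtZeroProj.lean`)
from `Sheaf J CommRingCat` to `Sheaf J RingCat` (helper36).
-/

set_option autoImplicit false
universe u
open CategoryTheory CategoryTheory.Limits Opposite

namespace Groth.Agent.H36.ExtZeroRing

section Defs

variable {C : Type u} [SmallCategory C] {J : GrothendieckTopology C}

/-- the underlying presheaf of rings -/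
abbrev R₀ (O : Sheaf J RingCat.{u}) : Cᵒᵖ ⥤ RingCat.{u} := O.obj

/-- presheaves of modules over the underlying presheaf of rings -/
abbrev PM (O : Sheaf J RingCat.{u}) : Type (u + 1) := PresheafOfModules.{u} O.obj

/-- Restriction of presheaves of modules to `C/X`. -/
noncomputable def res (O : Sheaf J RingCat.{u}) (X : C) : PM O ⥤ PM (O.over X) :=
  PresheafOfModules.pushforward (F := Over.forget X) (R := O.obj) (S := (O.over X).obj)
    (InducedCategory.Hom.hom (𝟙 (O.over X)))

end Defs

variable {C : Type u} [SmallCategory C] {J : GrothendieckTopology C} {O : Sheaf J RingCat.{u}}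
  {U : C}

/-- The component `G(f)` of a presheaf of modules on `C/U` at `f : V ⟶ U`, as an `O(V)`-module. -/
abbrev cmp (G : PM (O.over U)) {V : C} (f : V ⟶ U) : ModuleCat.{u} ((R₀ O).obj (op V)) :=
  G.obj (op (Over.mk f))

/-- The restriction map `G(f) → G(g ≫ f)` as an additive map. -/
noncomputable def rst (G : PM (O.over U)) {V W : C} (g : W ⟶ V) (f : V ⟶ U) :
    cmp G f →+ cmp G (g ≫ f) :=
  (G.map (Over.homMk g rfl : Over.mk (g ≫ f) ⟶ Over.mk f).op).hom.toAddMonoidHom

theorem rst_smul (G : PM (O.over U)) {V W : C} (g : W ⟶ V) (f : V ⟶ U)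
    (r : (R₀ O).obj (op V)) (x : cmp G f) :
    rst G g f (r • x) = ((R₀ O).map g.op).hom r • rst G g f x :=
  G.map_smul (Over.homMk g rfl : Over.mk (g ≫ f) ⟶ Over.mk f).op r x

attribute [local instance] Classical.propDecidable

/-- Sections of the extension by zero over `V`. -/
abbrev Sec (G : PM (O.over U)) (V : C) : Type u := DirectSum (V ⟶ U) (fun f => cmp G f)

/-- The restriction map on sections of the extension by zero. -/
noncomputable def secMap (G : PM (O.over U)) {V W : C} (g : W ⟶ V) : Sec G V →+ Sec G W :=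
  DirectSum.toAddMonoid (fun f =>
    (DirectSum.of (fun f' : W ⟶ U => cmp G f') (g ≫ f)).comp (rst G g f))

@[simp]
theorem secMap_of (G : PM (O.over U)) {V W : C} (g : W ⟶ V) (f : V ⟶ U) (x : cmp G f) :
    secMap G g (DirectSum.of (fun f' : V ⟶ U => cmp G f') f x) =
      DirectSum.of (fun f' : W ⟶ U => cmp G f') (g ≫ f) (rst G g f x) := by
  simp [secMap]

theorem of_map_congr (G : PM (O.over U)) {W : C} {Z : Over U} {f₁ f₂ : W ⟶ U} (h : f₁ = f₂)
    (a₁ : Over.mk f₁ ⟶ Z) (a₂ : Over.mk f₂ ⟶ Z) (ha : a₁.left = a₂.left)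
    (x : G.obj (op Z)) :
    DirectSum.of (fun f' : W ⟶ U => cmp G f') f₁ ((G.map a₁.op).hom x) =
      DirectSum.of (fun f' : W ⟶ U => cmp G f') f₂ ((G.map a₂.op).hom x) := by
  subst h
  have : a₁ = a₂ := Over.OverMorphism.ext ha
  subst this
  rfl

theorem secMap_id (G : PM (O.over U)) (V : C) : secMap G (𝟙 V) = AddMonoidHom.id _ := by
  refine DirectSum.addHom_ext (fun f x => ?_)
  rw [secMap_of]
  refine (of_map_congr G (Category.id_comp f)
    (Over.homMk (𝟙 V) rfl : Over.mk (𝟙 V ≫ f) ⟶ Over.mk f) (𝟙 _) rfl x).trans ?_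
  simp

theorem secMap_comp (G : PM (O.over U)) {V W T : C} (g : W ⟶ V) (g' : T ⟶ W) :
    secMap G (g' ≫ g) = (secMap G g').comp (secMap G g) := by
  refine DirectSum.addHom_ext (fun f x => ?_)
  rw [secMap_of, AddMonoidHom.comp_apply, secMap_of, secMap_of]
  refine (of_map_congr G (Category.assoc g' g f)
    (Over.homMk (g' ≫ g) rfl : Over.mk ((g' ≫ g) ≫ f) ⟶ Over.mk f)
    ((Over.homMk g' rfl : Over.mk (g' ≫ g ≫ f) ⟶ Over.mk (g ≫ f)) ≫
      (Over.homMk g rfl : Over.mk (g ≫ f) ⟶ Over.mk f)) rfl x).trans ?_
  simp [rst]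
  rfl

/-- The presheaf of abelian groups underlying the extension by zero. -/
noncomputable def jAb (G : PM (O.over U)) : Cᵒᵖ ⥤ Ab.{u} where
  obj X := AddCommGrpCat.of (Sec G X.unop)
  map {X Y} g := AddCommGrpCat.ofHom (secMap G g.unop)
  map_id X := by
    apply AddCommGrpCat.hom_ext
    exact secMap_id G X.unop
  map_comp g g' := by
    apply AddCommGrpCat.hom_ext
    exact secMap_comp G g.unop g'.unop

noncomputable instance (G : PM (O.over U)) (X : Cᵒᵖ) :
    Module ((R₀ O).obj X) ((jAb G).obj X) :=
  inferInstanceAs (Module ((R₀ O).obj (op X.unop)) (Sec G X.unop))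

theorem secMap_smul (G : PM (O.over U)) {V W : C} (g : W ⟶ V) (r : (R₀ O).obj (op V))
    (m : Sec G V) :
    secMap G g (r • m) = ((R₀ O).map g.op).hom r • secMap G g m := by
  induction m using DirectSum.induction_on with
  | zero => simp
  | of f x =>
    rw [← DirectSum.of_smul, secMap_of, secMap_of, rst_smul, DirectSum.of_smul]
  | add a b ha hb => rw [smul_add, map_add, map_add, smul_add, ha, hb]

theorem jAb_map_smul (G : PM (O.over U)) ⦃X Y : Cᵒᵖ⦄ (g : X ⟶ Y) (r : (R₀ O).obj X)
    (m : (jAb G).obj X) :
    (jAb G).map g (r • m) = (R₀ O).map g r • (jAb G).map g m :=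
  secMap_smul G g.unop r m

/-- The extension by zero of a presheaf of modules on `C/U`. -/
noncomputable def jObj (G : PM (O.over U)) : PM O :=
  PresheafOfModules.ofPresheaf (jAb G) (jAb_map_smul G)

theorem jObj_map_of (G : PM (O.over U)) {V W : C} (g : W ⟶ V) (f : V ⟶ U) (x : cmp G f) :
    ((jObj G).map g.op).hom (DirectSum.of (fun f' : V ⟶ U => cmp G f') f x) =
      DirectSum.of (fun f' : W ⟶ U => cmp G f') (g ≫ f) (rst G g f x) :=
  secMap_of G g f x

section Adjunction

variable (G : PM (O.over U)) (N : PM O)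

/-- Forward direction of the adjunction: the component at `a : Over U`. -/
noncomputable def fwdApp (α : jObj G ⟶ N) (a : Over U) :
    G.obj (op a) →+ N.obj (op a.left) :=
  (α.app (op a.left)).hom.toAddMonoidHom.comp
    (DirectSum.of (fun f' : a.left ⟶ U => cmp G f') a.hom)

theorem fwdApp_apply (α : jObj G ⟶ N) (a : Over U) (x : G.obj (op a)) :
    fwdApp G N α a x =
      (α.app (op a.left)).hom (DirectSum.of (fun f' : a.left ⟶ U => cmp G f') a.hom x) := rfl

theorem fwdApp_natural (α : jObj G ⟶ N) {a b : Over U} (h : b ⟶ a) (x : G.obj (op a)) :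
    fwdApp G N α b ((G.map h.op).hom x) = (N.map h.left.op).hom (fwdApp G N α a x) := by
  have h1 := PresheafOfModules.naturality_apply α h.left.op
    (DirectSum.of (fun f' : a.left ⟶ U => cmp G f') a.hom x)
  have h2 : DirectSum.of (fun f' : b.left ⟶ U => cmp G f') b.hom ((G.map h.op).hom x) =
      ((jObj G).map h.left.op).hom (DirectSum.of (fun f' : a.left ⟶ U => cmp G f') a.hom x) :=
    ((of_map_congr G (Over.w h) (Over.homMk h.left rfl : Over.mk (h.left ≫ a.hom) ⟶ a)
      h rfl x).symm).trans (jObj_map_of G h.left a.hom x).symm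
  exact (congrArg (fun z => (α.app (op b.left)).hom z) h2).trans h1

theorem fwd_smul_aux (α : jObj G ⟶ N) {V : C} (f : V ⟶ U) (r : (R₀ O).obj (op V))
    (x : cmp G f) :
    (α.app (op V)).hom (DirectSum.of (fun f' : V ⟶ U => cmp G f') f (r • x)) =
      r • (α.app (op V)).hom (DirectSum.of (fun f' : V ⟶ U => cmp G f') f x) := by
  have h1 : DirectSum.of (fun f' : V ⟶ U => cmp G f') f (r • x) =
      r • DirectSum.of (fun f' : V ⟶ U => cmp G f') f x := DirectSum.of_smul _ _ _ _
  exact (congrArg (fun z => (α.app (op V)).hom z) h1).trans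
    ((α.app (op V)).hom.map_smul r _)

/-- Forward direction of the adjunction. -/
noncomputable def fwd (α : jObj G ⟶ N) : G ⟶ (res O U).obj N :=
  PresheafOfModules.homMk
    { app := fun X => AddCommGrpCat.ofHom (fwdApp G N α X.unop)
      naturality := fun X Y h => by
        apply AddCommGrpCat.hom_ext
        apply AddMonoidHom.ext
        intro x
        exact fwdApp_natural G N α h.unop x }
    (fun X r m => fwd_smul_aux G N α X.unop.hom r m)

theorem fwd_app_apply (α : jObj G ⟶ N) (a : Over U) (x : G.obj (op a)) :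
    ((fwd G N α).app (op a)).hom x =
      (α.app (op a.left)).hom (DirectSum.of (fun f' : a.left ⟶ U => cmp G f') a.hom x) := rfl

/-- Backward direction of the adjunction, on sections. -/
noncomputable def bwdApp (β : G ⟶ (res O U).obj N) (V : C) : Sec G V →+ N.obj (op V) :=
  DirectSum.toAddMonoid (fun f : V ⟶ U => (β.app (op (Over.mk f))).hom.toAddMonoidHom)

theorem bwdApp_of (β : G ⟶ (res O U).obj N) (V : C) (f : V ⟶ U) (x : cmp G f) :
    bwdApp G N β V (DirectSum.of (fun f' : V ⟶ U => cmp G f') f x) =
      (β.app (op (Over.mk f))).hom x :=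
  DirectSum.toAddMonoid_of _ _ _

theorem bwdApp_natural (β : G ⟶ (res O U).obj N) {V W : C} (g : W ⟶ V) (m : Sec G V) :
    bwdApp G N β W (secMap G g m) = (N.map g.op).hom (bwdApp G N β V m) := by
  induction m using DirectSum.induction_on with
  | zero => simp; try rfl
  | of f x =>
    rw [secMap_of, bwdApp_of, bwdApp_of]
    exact PresheafOfModules.naturality_apply β
      (Over.homMk g rfl : Over.mk (g ≫ f) ⟶ Over.mk f).op x
  | add a b ha hb => rw [map_add, map_add, map_add, map_add, ha, hb]; try rfl

theorem bwdApp_smul (β : G ⟶ (res O U).obj N) (V : C) (r : (R₀ O).obj (op V)) (m : Sec G V) :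
    bwdApp G N β V (r • m) = r • bwdApp G N β V m := by
  induction m using DirectSum.induction_on with
  | zero => simp; try rfl
  | of f x =>
    rw [← DirectSum.of_smul, bwdApp_of, bwdApp_of]
    exact (β.app (op (Over.mk f))).hom.map_smul r x
  | add a b ha hb => rw [smul_add, map_add, map_add, smul_add, ha, hb]; try rfl

/-- Backward direction of the adjunction. -/
noncomputable def bwd (β : G ⟶ (res O U).obj N) : jObj G ⟶ N :=
  PresheafOfModules.homMk
    { app := fun X => AddCommGrpCat.ofHom (bwdApp G N β X.unop)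
      naturality := fun X Y g => by
        apply AddCommGrpCat.hom_ext
        apply AddMonoidHom.ext
        intro m
        exact bwdApp_natural G N β g.unop m }
    (fun X r m => bwdApp_smul G N β X.unop r m)

theorem bwd_app_of (β : G ⟶ (res O U).obj N) (V : C) (f : V ⟶ U) (x : cmp G f) :
    ((bwd G N β).app (op V)).hom (DirectSum.of (fun f' : V ⟶ U => cmp G f') f x) =
      (β.app (op (Over.mk f))).hom x :=
  bwdApp_of G N β V f x

variable {G N}

theorem hom_ext_sec {α α' : jObj G ⟶ N}
    (h : ∀ (V : C) (f : V ⟶ U) (x : cmp G f),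
      (α.app (op V)).hom (DirectSum.of (fun f' : V ⟶ U => cmp G f') f x) =
        (α'.app (op V)).hom (DirectSum.of (fun f' : V ⟶ U => cmp G f') f x)) : α = α' := by
  apply PresheafOfModules.hom_ext
  intro X
  apply ModuleCat.hom_ext
  apply LinearMap.ext
  intro (m : Sec G X.unop)
  induction m using DirectSum.induction_on with
  | zero => exact ((α.app X).hom.map_zero).trans ((α'.app X).hom.map_zero).symm
  | of f x => exact h X.unop f x
  | add a b ha hb =>
    exact ((α.app X).hom.map_add a b).trans
      ((congrArg₂ (· + ·) ha hb).trans ((α'.app X).hom.map_add a b).symm)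

variable (G N)

/-- The hom equivalence of the adjunction `j_! ⊣ res`. -/
noncomputable def homEquiv : (jObj G ⟶ N) ≃ (G ⟶ (res O U).obj N) where
  toFun := fwd G N
  invFun := bwd G N
  left_inv α := hom_ext_sec (fun V f x =>
    (bwd_app_of G N (fwd G N α) V f x).trans (fwd_app_apply G N α (Over.mk f) x))
  right_inv β := by
    apply PresheafOfModules.hom_ext
    intro X
    apply ModuleCat.hom_ext
    apply LinearMap.ext
    intro x
    exact (fwd_app_apply G N (bwd G N β) X.unop x).trans
      (bwd_app_of G N β X.unop.left X.unop.hom x)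

theorem homEquiv_naturality {N N' : PM O} (α : jObj G ⟶ N) (γ : N ⟶ N') :
    homEquiv G N' (α ≫ γ) = homEquiv G N α ≫ (res O U).map γ := by
  apply PresheafOfModules.hom_ext
  intro X
  apply ModuleCat.hom_ext
  apply LinearMap.ext
  intro x
  rfl

end Adjunction

/-- The explicit extension by zero functor on presheaves of modules. -/
noncomputable def jPre : PM (O.over U) ⥤ PM O :=
  Adjunction.leftAdjointOfEquiv (fun G N => homEquiv G N)
    (fun G N N' γ α => homEquiv_naturality G α γ)

/-- The adjunction `j_! ⊣ res` on presheaves of modules. -/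
noncomputable def jPreAdj : (jPre : PM (O.over U) ⥤ PM O) ⊣ res O U :=
  Adjunction.adjunctionOfEquivLeft _ _

theorem jPre_obj (G : PM (O.over U)) : (jPre : PM (O.over U) ⥤ PM O).obj G = jObj G := rfl


attribute [local instance] Classical.propDecidable

theorem jPre_map_app_of {G G' : PM (O.over U)} (φ : G ⟶ G') {V : C} (f : V ⟶ U)
    (x : cmp G f) :
    (((jPre (O := O) (U := U)).map φ).app (op V)).hom
        (DirectSum.of (fun f' : V ⟶ U => cmp G f') f x) =
      DirectSum.of (fun f' : V ⟶ U => cmp G' f') f ((φ.app (op (Over.mk f))).hom x) := by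
  have h : (jPre (O := O) (U := U)).map φ = bwd _ _ (φ ≫ fwd _ _ (𝟙 (jObj G'))) := rfl
  rw [h]
  exact (bwd_app_of _ _ _ V f x).trans rfl

theorem jPre_map_app_eq_map {G G' : PM (O.over U)} (φ : G ⟶ G') (V : C) :
    (show Sec G V →+ Sec G' V from
      (((jPre (O := O) (U := U)).map φ).app (op V)).hom.toAddMonoidHom) =
      DirectSum.map (fun f : V ⟶ U => (φ.app (op (Over.mk f))).hom.toAddMonoidHom) := by
  refine DirectSum.addHom_ext (fun f x => ?_)
  exact (jPre_map_app_of φ f x).trans
    (DirectSum.map_of (fun f : V ⟶ U => (φ.app (op (Over.mk f))).hom.toAddMonoidHom) f x).symm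

instance jPre_preservesMonomorphisms :
    (jPre (O := O) (U := U)).PreservesMonomorphisms where
  preserves {G G'} φ hφ := by
    refine PresheafOfModules.mono_of_injective (fun X => ?_)
    have h := jPre_map_app_eq_map φ X.unop
    have h2 : Function.Injective
        (DirectSum.map (fun f : X.unop ⟶ U => (φ.app (op (Over.mk f))).hom.toAddMonoidHom)) :=
      (DirectSum.map_injective _).2 (fun f => PresheafOfModules.injective_of_mono φ _)
    intro a b hab
    have hab' : (show Sec G X.unop →+ Sec G' X.unop from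
      (((jPre (O := O) (U := U)).map φ).app (op X.unop)).hom.toAddMonoidHom) a =
      (show Sec G X.unop →+ Sec G' X.unop from
      (((jPre (O := O) (U := U)).map φ).app (op X.unop)).hom.toAddMonoidHom) b := hab
    rw [h] at hab'
    exact h2 hab'


end Groth.Agent.H36.ExtZeroRing
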