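import Mathlib
import Groth.Prelude.Def_AlgSpModX
import Groth.Prelude.Def_AlgSp2
import Groth.Agent.H32.QCBC.EtSite
import Groth.Agent.H52.Topology
import Groth.Agent.H52.FQDecent

/-!
# (QCCOV) for helper32's S10747: a quasi-compact sheaf `X` has finitely many affine objects `E j`
of its small étale site such that every object `V` has a covering by affines each mapping to some
`E j`.
-/

set_option autoImplicit false
universe u
open CategoryTheory Opposite Limits AlgebraicGeometry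
open AlgSp

namespace Groth.Agent.H36.FPres_QCCOV

theorem exists_finite_affine_cover {S : Scheme.{u}} (X : AlgSp.Sp S)
    (hqc : AlgSp.IsQuasiCompactSp X) :
    ∃ (r : ℕ) (E : Fin r → AlgSp.EtOver X), (∀ j, IsAffine (E j).obj.left.left) ∧
      ∀ V : AlgSp.EtOver X, ∃ T ∈ AlgSp.etTop X V, ∀ ⦃V' : AlgSp.EtOver X⦄ (f : V' ⟶ V), T f →
        ∃ (Z : AlgSp.EtOver X) (a : V' ⟶ Z) (b : Z ⟶ V), a ≫ b = f ∧ IsAffine Z.obj.left.left ∧
          ∃ j : Fin r, Nonempty (Z ⟶ E j) := by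
  obtain ⟨U, p, hpe, hps, hc⟩ := hqc
  let E₀ : EtOver X := EtOver.mk p hpe
  haveI : CompactSpace ↥E₀.obj.left.left := hc
  -- affine opens around each point
  have key : ∀ x : ↥E₀.obj.left.left, ∃ W : E₀.obj.left.left.Opens, IsAffineOpen W ∧ x ∈ W := by
    intro x
    obtain ⟨W, hW, hxW, -⟩ := exists_isAffineOpen_mem_and_subset (X := E₀.obj.left.left)
      (x := x) (U := ⊤) trivial
    exact ⟨W, hW, hxW⟩
  choose W hW hxW using key
  obtain ⟨t, ht⟩ := isCompact_univ.elim_finite_subcover (fun x => (W x : Set ↥E₀.obj.left.left))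
    (fun x => (W x).2) (fun x _ => Set.mem_iUnion.2 ⟨x, hxW x⟩)
  let e := t.equivFin
  refine ⟨t.card, fun j => Groth.Agent.H32.QCBC.openObj E₀ (W (e.symm j).1), fun j => hW _, ?_⟩
  intro V
  let E : Fin t.card → EtOver X := fun j => Groth.Agent.H32.QCBC.openObj E₀ (W (e.symm j).1)
  let ι := Σ j : Fin t.card, {Z : (EtOver.prodObj V (E j)).obj.left.left.Opens // IsAffineOpen Z}
  let Y : ι → EtOver X := fun i => Groth.Agent.H32.QCBC.openObj (EtOver.prodObj V (E i.1)) i.2.1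
  let g : ∀ i : ι, Y i ⟶ V := fun i =>
    Groth.Agent.H32.QCBC.openObjι (EtOver.prodObj V (E i.1)) i.2.1 ≫ EtOver.prodFst V (E i.1)
  refine ⟨Sieve.ofArrows Y g, ofArrows_mem_etTop Y g ?_, ?_⟩
  · intro v
    obtain ⟨u, hu⟩ := Groth.Agent.H52.surjective_ofPt_of_surjective p hps (Points.ofPt V.obj.hom v)
    have hu' : u ∈ ⋃ x ∈ t, (W x : Set ↥E₀.obj.left.left) := ht (Set.mem_univ u)
    obtain ⟨x₀, hx₀⟩ := Set.mem_iUnion.1 hu'
    obtain ⟨hx₀t, hux₀⟩ := Set.mem_iUnion.1 hx₀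
    let j : Fin t.card := e ⟨x₀, hx₀t⟩
    have hj : (e.symm j).1 = x₀ := by simp [j]
    have huj : u ∈ W (e.symm j).1 := by rw [hj]; exact hux₀
    let u' : (E j).obj.left.left := (⟨u, huj⟩ : W (e.symm j).1)
    have hpt : Points.ofPt (E j).obj.hom u' = Points.ofPt V.obj.hom v := by
      have := Groth.Agent.H52.ofPt_yon_map_comp
        (Groth.Agent.H52.overOfHom (U := E₀.obj.left) (W (e.symm j).1).ι) p u'
      exact this.trans hu
    have hsq : IsPullback ((yon S).map ((E j).property.1.fst' V.obj.hom))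
        ((yon S).map ((E j).property.1.snd V.obj.hom)) (E j).obj.hom V.obj.hom := by
      rw [Functor.relativelyRepresentable.map_fst']
      exact (E j).property.1.isPullback V.obj.hom
    obtain ⟨w, hw1, hw2⟩ := Groth.Agent.H52.exists_of_ofPt_eq_ofPt hsq u' v hpt
    obtain ⟨Z, hZ, hwZ⟩ : ∃ Z : (EtOver.prodObj V (E j)).obj.left.left.Opens,
        IsAffineOpen Z ∧ (w : (EtOver.prodObj V (E j)).obj.left.left) ∈ Z := by
      obtain ⟨Z, hZ, hwZ, -⟩ := exists_isAffineOpen_mem_and_subset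
        (X := (EtOver.prodObj V (E j)).obj.left.left) (x := w) (U := ⊤) trivial
      exact ⟨Z, hZ, hwZ⟩
    refine ⟨⟨j, ⟨Z, hZ⟩⟩, ?_⟩
    let w' : (Y ⟨j, ⟨Z, hZ⟩⟩).obj.left.left := (⟨w, hwZ⟩ : Z)
    exact ⟨w', hw2⟩
  · intro V' f hf
    obtain ⟨i, a, rfl⟩ := (Sieve.mem_ofArrows_iff Y g f).1 hf
    refine ⟨Y i, a, g i, rfl, i.2.2, i.1, ⟨?_⟩⟩
    exact Groth.Agent.H32.QCBC.openObjι (EtOver.prodObj V (E i.1)) i.2.1 ≫
      EtOver.prodSnd V (E i.1)

end Groth.Agent.H36.FPres_QCCOV
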