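import Groth.Statements.S0820
import Groth.Agent.S0019
import Groth.Agent.H8.StructureCoh
import Groth.Agent.H8.QCohStalk

/-!
# Piece (A) for S0820 (helper36): the maximal ideal at the image of the generic point kills the
stalk of the pushforward of the structure sheaf of an integral scheme.
-/

set_option autoImplicit false
set_option linter.style.haveILetI false
universe u
open CategoryTheory AlgebraicGeometry

namespace Groth.Agent.H36.FinSuppAnn

set_option backward.isDefEq.respectTransparency false in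
/-- sections of the double pushforward are sections of `O_{Z'}` -/
def toM {X Y Z' : Scheme.{u}} (f : Y ⟶ X) (j : Z' ⟶ Y) (W : X.Opens)
    (p : Γ(Z', j ⁻¹ᵁ f ⁻¹ᵁ W)) :
    Γ((Coh.push f).obj ((Coh.push j).obj (Coh.structureModule Z')), W) := p

set_option backward.isDefEq.respectTransparency false in
/-- sections of the double pushforward are sections of `O_{Z'}` -/
def ofM {X Y Z' : Scheme.{u}} (f : Y ⟶ X) (j : Z' ⟶ Y) (W : X.Opens)
    (s : Γ((Coh.push f).obj ((Coh.push j).obj (Coh.structureModule Z')), W)) :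
    Γ(Z', j ⁻¹ᵁ f ⁻¹ᵁ W) := s

set_option backward.isDefEq.respectTransparency false in
lemma toM_zero {X Y Z' : Scheme.{u}} (f : Y ⟶ X) (j : Z' ⟶ Y) (W : X.Opens) :
    toM f j W 0 = 0 := rfl

set_option backward.isDefEq.respectTransparency false in
lemma smul_push_push {X Y Z' : Scheme.{u}} (f : Y ⟶ X) (j : Z' ⟶ Y) (W : X.Opens) (r : Γ(X, W))
    (s : Γ((Coh.push f).obj ((Coh.push j).obj (Coh.structureModule Z')), W)) :
    r • s = toM f j W ((j.app (f ⁻¹ᵁ W)).hom ((f.app W).hom r) * ofM f j W s) := rfl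

lemma app_app_eq_zero {X Y Z' : Scheme.{u}} (f : Y ⟶ X) (j : Z' ⟶ Y) [IsIntegral Z']
    (W : X.Opens) (r : Γ(X, W)) (hr : f (j (genericPoint Z')) ∉ X.basicOpen r) :
    (j.app (f ⁻¹ᵁ W)).hom ((f.app W).hom r) = 0 := by
  rw [← basicOpen_eq_bot_iff]
  by_contra hne
  have hne' : (Z'.basicOpen ((j.app (f ⁻¹ᵁ W)).hom ((f.app W).hom r)) : Set Z').Nonempty := by
    rw [Set.nonempty_iff_ne_empty]
    intro h
    apply hne
    ext z
    simp only [TopologicalSpace.Opens.coe_bot]
    rw [h]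
  have hgen : genericPoint Z' ∈ Z'.basicOpen ((j.app (f ⁻¹ᵁ W)).hom ((f.app W).hom r)) :=
    ((genericPoint_spec Z').mem_open_set_iff
      (Z'.basicOpen ((j.app (f ⁻¹ᵁ W)).hom ((f.app W).hom r))).2).mpr
      (by rwa [Set.univ_inter])
  apply hr
  have h1 : j (genericPoint Z') ∈ Y.basicOpen ((f.app W).hom r) := by
    have := Scheme.preimage_basicOpen j ((f.app W).hom r)
    have h2 : genericPoint Z' ∈ j ⁻¹ᵁ Y.basicOpen ((f.app W).hom r) := by
      rw [this]; exact hgen
    exact h2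
  have h3 := Scheme.preimage_basicOpen f r
  have h4 : j (genericPoint Z') ∈ f ⁻¹ᵁ X.basicOpen r := by
    rw [h3]; exact h1
  exact h4

/-- (A) -/
theorem smul_eq_zero_push_push {X Y Z' : Scheme.{u}} (f : Y ⟶ X) (j : Z' ⟶ Y) [IsIntegral Z']
    (x : X) (hx : x = f (j (genericPoint Z')))
    (a : X.presheaf.stalk x) (ha : a ∈ IsLocalRing.maximalIdeal (X.presheaf.stalk x))
    (m : ↑(((Coh.push f).obj ((Coh.push j).obj (Coh.structureModule Z'))).presheaf.stalk x)) :
    a • m = 0 := by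
  subst hx
  obtain ⟨V, hxV, s, rfl⟩ := TopCat.Presheaf.exists_germ_eq
    ((Coh.push f).obj ((Coh.push j).obj (Coh.structureModule Z'))).presheaf m
  obtain ⟨V₂, hxV₂, r, rfl⟩ := TopCat.Presheaf.exists_germ_eq X.presheaf a
  have hxW : f (j (genericPoint Z')) ∈ V ⊓ V₂ := ⟨hxV, hxV₂⟩
  have e1 := TopCat.Presheaf.germ_res_apply
    ((Coh.push f).obj ((Coh.push j).obj (Coh.structureModule Z'))).presheaf
    (homOfLE (inf_le_left : V ⊓ V₂ ≤ V)) _ hxW s
  have e2 := TopCat.Presheaf.germ_res_apply X.presheaf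
    (homOfLE (inf_le_right : V ⊓ V₂ ≤ V₂)) _ hxW r
  rw [← e1, ← e2, ← Groth.Agent.H8.germ_smul]
  have hr : f (j (genericPoint Z')) ∉
      X.basicOpen (X.presheaf.map (homOfLE (inf_le_right : V ⊓ V₂ ≤ V₂)).op r) := by
    intro hmem
    have hu := (Scheme.mem_basicOpen _ _ _ hxW).mp hmem
    rw [e2] at hu
    exact (IsLocalRing.mem_maximalIdeal _).mp ha hu
  rw [smul_push_push, app_app_eq_zero f j _ _ hr, zero_mul, toM_zero]
  exact map_zero _

end Groth.Agent.H36.FinSuppAnn
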