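import Groth.Prelude.Def_C1
import Groth.Prelude.Def_Cyc
import Groth.Prelude.Def_Pic
import Groth.Agent.H95.SecOrd
import Groth.Agent.H95.C1Cap
import Groth.Agent.H85.CycDivFin

/-!
# (LFS) for helper34's S6466 squad: the support of the divisor of a rational section of an
invertible module is locally finite.
-/

set_option autoImplicit false
universe u
open CategoryTheory AlgebraicGeometry TopologicalSpace Opposite
namespace Groth.Agent.H36.G6LFS
variable {X D : Scheme.{u}}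

/-- (LFS) The support of the divisor of a rational section of an invertible module is locally
finite. -/
theorem locallyFinite_secDivFun (δ : X → ℤ) (hX : Cyc.IsSetup X δ) {L : X.Modules}
    (hL : PicF.IsInvertible L) (ζ : X) (s : Cyc.secFibre L ζ) (hs : s ≠ 0) (x : X) :
    ∃ U : Set X, IsOpen U ∧ x ∈ U ∧
      {ξ : X | Cyc.secDivFun δ L ζ s ξ ≠ 0 ∧ (closure {ξ} ∩ U).Nonempty}.Finite := by
  obtain ⟨V, τ, hxV, hτ⟩ := Groth.Agent.H18.TensorGen.exists_isGen hL x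
  by_cases hζV : ζ ∈ V
  · obtain ⟨ψ, hψ⟩ := Groth.Agent.H95.SecOrd.exists_eq_smul_mk hτ ζ hζV s
    have hu : IsUnit ψ := Groth.Agent.H95.SecOrd.isUnit_of_mk_ne_zero ζ hζV s hs ψ hψ
    have hne : X.residue ζ ψ ≠ 0 := Groth.Agent.H95.SecOrd.residue_ne_zero_of_isUnit hu
    obtain ⟨V', hV'o, hxV', hfin⟩ :=
      Groth.Agent.H85.CycDivFin.divFun_support_locallyFinite δ hX ζ (X.residue ζ ψ) hne x
    refine ⟨(V : Set X) ∩ V', V.isOpen.inter hV'o, ⟨hxV, hxV'⟩, ?_⟩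
    refine hfin.subset ?_
    rintro ξ ⟨hξ0, y, hy, hyV, hyV'⟩
    have hsp : ξ ⤳ y := specializes_iff_mem_closure.mpr hy
    have hξV : ξ ∈ V := hsp.mem_open V.isOpen hyV
    have hξV' : ξ ∈ V' := hsp.mem_open hV'o hyV'
    refine ⟨hξV', ?_⟩
    unfold Cyc.secDivFun at hξ0
    unfold Cyc.divFun
    by_cases h : ζ ⤳ ξ ∧ δ ξ + 1 = δ ζ
    · rw [dif_pos h] at hξ0 ⊢
      rwa [Groth.Agent.H95.SecOrd.secOrdAt_eq_of_isGen hτ h.1 hξV hζV s ψ hψ] at hξ0
    · rw [dif_neg h] at hξ0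
      exact absurd rfl hξ0
  · refine ⟨V, V.isOpen, hxV, ?_⟩
    convert Set.finite_empty
    ext ξ
    simp only [Set.mem_setOf_eq, Set.mem_empty_iff_false, iff_false]
    rintro ⟨hξ0, y, hy, hyV⟩
    have hsp : ξ ⤳ y := specializes_iff_mem_closure.mpr hy
    have hξV : ξ ∈ V := hsp.mem_open V.isOpen hyV
    unfold Cyc.secDivFun at hξ0
    by_cases h : ζ ⤳ ξ ∧ δ ξ + 1 = δ ζ
    · exact hζV (h.1.mem_open V.isOpen hξV)
    · rw [dif_neg h] at hξ0
      exact hξ0 rfl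

end Groth.Agent.H36.G6LFS
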