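import Groth.Prelude.Def_C1
import Groth.Prelude.Def_Cyc
import Groth.Prelude.Def_Pic
import Groth.Prelude.Def_Omega4
import Groth.Agent.H95.SecOrd
import Groth.Agent.H22.PullGen
import Groth.Agent.H39.PullTrack5
import Groth.Agent.H54.KeyCIa
import Groth.Agent.H95.AssGen
import Groth.Agent.H8.PullbackStalk

/-!
# The pullback of a free generator generates the stalks of the pullback module
(helper36, piece (SB1) for helper34's S1924 squad)
-/

set_option autoImplicit false
set_option linter.style.haveILetI false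
universe u
open CategoryTheory AlgebraicGeometry TopologicalSpace Opposite

namespace Groth.Agent.H36.GenAtPull

open Groth.Agent.H18.TensorGen (IsGen exists_isGen)
open OmegaSh (pullSect)
open Groth.Agent.H39.PullTrack
open scoped TensorProduct

variable {X Y : Scheme.{u}}

/-- Pure algebra: if `N` is generated by `τ` over `A`, then `B ⊗[A] N` is generated by `1 ⊗ τ`
over `B`. -/
lemma exists_smul_one_tmul {A B N : Type*} [CommRing A] [CommRing B] [Algebra A B]
    [AddCommGroup N] [Module A N] (τ : N) (hτ : ∀ x : N, ∃ r : A, x = r • τ)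
    (z : B ⊗[A] N) : ∃ b : B, z = b • ((1 : B) ⊗ₜ[A] τ) := by
  induction z using TensorProduct.induction_on with
  | zero => exact ⟨0, by rw [zero_smul]⟩
  | tmul b x =>
    obtain ⟨r, rfl⟩ := hτ x
    refine ⟨b * algebraMap A B r, ?_⟩
    rw [TensorProduct.smul_tmul', smul_eq_mul, mul_one, TensorProduct.tmul_smul,
      TensorProduct.smul_tmul', Algebra.smul_def, mul_comm]
  | add z₁ z₂ h₁ h₂ =>
    obtain ⟨b₁, rfl⟩ := h₁
    obtain ⟨b₂, rfl⟩ := h₂
    exact ⟨b₁ + b₂, by rw [add_smul]⟩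

/-- (SB1) -/
theorem genAt_pullSect (f : Y ⟶ X) {L : X.Modules} (hL : PicF.IsInvertible L) {V : X.Opens}
    {τ : Γ(L, V)} (hτ : IsGen L V τ) (y : Y) (hy : y ∈ f ⁻¹ᵁ V) :
    Groth.Agent.H95.AssGen.GenAt ((Scheme.Modules.pullback f).obj L)
      (((Scheme.Modules.pullback f).obj L).presheaf.germ (f ⁻¹ᵁ V) y hy (pullSect f L V τ)) := by
  haveI : L.IsQuasicoherent := Groth.Agent.H18.AmpleBasis.isQuasicoherent_of_isInvertible hL
  intro t'
  obtain ⟨W, hyW, s, rfl⟩ :=
    TopCat.Presheaf.exists_germ_eq ((Scheme.Modules.pullback f).obj L).presheaf t'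
  -- affine `U ≤ V` around `f y`
  obtain ⟨U, hU, hfyU, hUV⟩ :=
    exists_isAffineOpen_mem_and_subset (x := f y) (U := V) hy
  -- affine `U' ≤ W ⊓ f⁻¹ U` around `y`
  have hyWU : y ∈ W ⊓ f ⁻¹ᵁ U := ⟨hyW, hfyU⟩
  obtain ⟨U', hU', hyU', hU'le⟩ :=
    exists_isAffineOpen_mem_and_subset (x := y) (U := W ⊓ f ⁻¹ᵁ U) hyWU
  have hU'W : U' ≤ W := fun z hz => (hU'le hz).1
  have e : U' ≤ f ⁻¹ᵁ U := fun z hz => (hU'le hz).2
  have hUV' : U ≤ V := hUV
  letI := (f.appLE U U' e).hom.toAlgebra
  obtain ⟨E, hE⟩ := Groth.Agent.H39.PullTrack.exists_sectionsPullbackEquiv f L hU hU' e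
  set τU : Γ(L, U) := L.presheaf.map (homOfLE hUV').op τ with hτU
  have hgenU : ∀ x : Γ(L, U), ∃ r : Γ(X, U), x = r • τU := fun x => by
    obtain ⟨r, hr⟩ := (hτ U hUV').2 x
    exact ⟨r, hr.symm⟩
  -- the restriction of `s` to `U'` is a multiple of the pulled back generator
  set sU' : Γ((Scheme.Modules.pullback f).obj L, U') :=
    ((Scheme.Modules.pullback f).obj L).presheaf.map (homOfLE hU'W).op s with hsU'
  obtain ⟨b, hb⟩ := exists_smul_one_tmul τU hgenU (E sU')
  have hb' : sU' = b • pullSectLE f L U U' e τU := by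
    apply E.injective
    rw [hb, map_smul, hE]
  -- the pulled back generator over `U'` is the restriction of `pullSect τ`
  have hσ : pullSectLE f L U U' e τU =
      ((Scheme.Modules.pullback f).obj L).presheaf.map
        (homOfLE (e.trans (fun _ hz => hUV' hz) : U' ≤ f ⁻¹ᵁ V)).op (pullSect f L V τ) := by
    rw [hτU, pullSectLE_res_source, pullSectLE_apply]
  refine ⟨Y.presheaf.germ U' y hyU' b, ?_⟩
  rw [← TopCat.Presheaf.germ_res_apply ((Scheme.Modules.pullback f).obj L).presheaf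
      (homOfLE hU'W) y hyU' s, ← hsU', hb', Groth.Agent.H8.germ_smul, hσ,
    TopCat.Presheaf.germ_res_apply]

end Groth.Agent.H36.GenAtPull
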