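import Groth.Prelude.Def_StGerb
import Groth.Agent.H32.GerbCore
import Groth.Agent.H84.Gerbe
import Groth.Agent.H32.Repr
import Mathlib.CategoryTheory.Sites.Sheaf
import Mathlib.Algebra.Category.Grp.Limits

/-!
# A gerbe with abelian automorphism groups is banded by a sheaf of abelian groups (helper36)

`NatFam 𝒮 U`: the group of families of automorphisms `a x f ∈ Aut_{p x}(x)`, indexed by objects `x`
of `𝒮` with a map `f : p x ⟶ U`, natural along all morphisms of `𝒮`.  This is a presheaf of groups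
`G 𝒮` on `C`; it is a sheaf when `𝒮` is a stack (`G_isSheaf`), and for a gerbe with abelian
automorphism groups evaluation at `(x, 𝟙)` is an isomorphism `G(p x) ≃* AutO x`.
-/

set_option autoImplicit false
open CategoryTheory Opposite
universe v u

namespace Groth.Agent.H36.GerbBand

open FibCat Groth.Agent.H32.FibProd Groth.Agent.H32.StkLoc Groth.Agent.H32.StkGlue

variable {C : Type u} [Category.{v} C] {𝒮 : BasedCategory.{v, max u v} C}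

section autO

/-- the underlying endomorphism of an element of `AutO x`. -/
abbrev e {x : 𝒮.obj} (α : Gerb.AutO x) : x ⟶ x := α.hom.1

theorem e_lift {x : 𝒮.obj} (α : Gerb.AutO x) : 𝒮.p.IsHomLift (𝟙 (𝒮.p.obj x)) (e α) := α.hom.2

theorem e_mul {x : 𝒮.obj} (α β : Gerb.AutO x) : e (α * β) = e β ≫ e α := rfl

theorem e_one {x : 𝒮.obj} : e (1 : Gerb.AutO x) = 𝟙 x := rfl

theorem autO_ext {x : 𝒮.obj} {α β : Gerb.AutO x} (h : e α = e β) : α = β := by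
  apply Iso.ext
  apply Functor.Fiber.hom_ext
  exact h

theorem e_inv_comp {x : 𝒮.obj} (α : Gerb.AutO x) : e α⁻¹ ≫ e α = 𝟙 x :=
  congrArg Subtype.val α.inv_hom_id

theorem e_comp_inv {x : 𝒮.obj} (α : Gerb.AutO x) : e α ≫ e α⁻¹ = 𝟙 x :=
  congrArg Subtype.val α.hom_inv_id

/-- an endomorphism over the identity as an element of `AutO`. -/
noncomputable def mkAutO (hfg : IsFibGrpd 𝒮.p) {x : 𝒮.obj} (a : x ⟶ x)
    (ha : 𝒮.p.IsHomLift (𝟙 (𝒮.p.obj x)) a) : Gerb.AutO x :=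
  (Groth.Agent.H32.GerbCore.exists_autO hfg x a ha).choose

theorem e_mkAutO (hfg : IsFibGrpd 𝒮.p) {x : 𝒮.obj} (a : x ⟶ x)
    (ha : 𝒮.p.IsHomLift (𝟙 (𝒮.p.obj x)) a) : e (mkAutO hfg a ha) = a :=
  (Groth.Agent.H32.GerbCore.exists_autO hfg x a ha).choose_spec

end autO

section presheaf

variable (𝒮)

/-- natural families of automorphisms over `U`. -/
def NatFam (U : C) : Subgroup (∀ x : 𝒮.obj, (𝒮.p.obj x ⟶ U) → Gerb.AutO x) where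
  carrier := {a | ∀ (x' x : 𝒮.obj) (φ : x' ⟶ x) (f : 𝒮.p.obj x ⟶ U),
    e (a x' (𝒮.p.map φ ≫ f)) ≫ φ = φ ≫ e (a x f)}
  mul_mem' := by
    intro a b ha hb x' x φ f
    show (e (b x' (𝒮.p.map φ ≫ f)) ≫ e (a x' (𝒮.p.map φ ≫ f))) ≫ φ =
      φ ≫ (e (b x f) ≫ e (a x f))
    rw [Category.assoc, ha x' x φ f, ← Category.assoc, hb x' x φ f, Category.assoc]
  one_mem' := by
    intro x' x φ f
    show 𝟙 x' ≫ φ = φ ≫ 𝟙 x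
    rw [Category.id_comp, Category.comp_id]
  inv_mem' := by
    intro a ha x' x φ f
    have h1 := ha x' x φ f
    have i1 : e ((a x' (𝒮.p.map φ ≫ f))⁻¹) ≫ e (a x' (𝒮.p.map φ ≫ f)) = 𝟙 _ := e_inv_comp _
    have i2 : e (a x f) ≫ e ((a x f)⁻¹) = 𝟙 _ := e_comp_inv _
    show e ((a x' (𝒮.p.map φ ≫ f))⁻¹) ≫ φ = φ ≫ e ((a x f)⁻¹)
    calc e ((a x' (𝒮.p.map φ ≫ f))⁻¹) ≫ φ
        = e ((a x' (𝒮.p.map φ ≫ f))⁻¹) ≫ φ ≫ (e (a x f) ≫ e ((a x f)⁻¹)) := by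
          rw [i2, Category.comp_id]
      _ = e ((a x' (𝒮.p.map φ ≫ f))⁻¹) ≫ (e (a x' (𝒮.p.map φ ≫ f)) ≫ φ) ≫ e ((a x f)⁻¹) := by
          rw [h1]; simp only [Category.assoc]
      _ = φ ≫ e ((a x f)⁻¹) := by
          rw [Category.assoc, ← Category.assoc, i1, Category.id_comp]

variable {𝒮}

theorem natFam_nat {U : C} (a : NatFam 𝒮 U) (x' x : 𝒮.obj) (φ : x' ⟶ x) (f : 𝒮.p.obj x ⟶ U) :
    e (a.1 x' (𝒮.p.map φ ≫ f)) ≫ φ = φ ≫ e (a.1 x f) := a.2 x' x φ f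

/-- restriction of natural families. -/
def resFam {U V : C} (g : V ⟶ U) : NatFam 𝒮 U →* NatFam 𝒮 V where
  toFun a := ⟨fun x f => a.1 x (f ≫ g), fun x' x φ f => by
    have := natFam_nat a x' x φ (f ≫ g)
    rw [← Category.assoc] at this
    exact this⟩
  map_one' := rfl
  map_mul' _ _ := rfl

theorem resFam_apply {U V : C} (g : V ⟶ U) (a : NatFam 𝒮 U) (x : 𝒮.obj) (f : 𝒮.p.obj x ⟶ V) :
    (resFam g a).1 x f = a.1 x (f ≫ g) := rfl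

variable (𝒮)

/-- the presheaf of natural families of automorphisms. -/
def G : Cᵒᵖ ⥤ GrpCat.{max u v} where
  obj U := GrpCat.of (NatFam 𝒮 (unop U))
  map g := GrpCat.ofHom (resFam g.unop)
  map_id U := by
    apply GrpCat.ext
    intro a
    apply Subtype.ext
    funext x f
    show a.1 x (f ≫ 𝟙 _) = a.1 x f
    rw [Category.comp_id]
  map_comp g h := by
    apply GrpCat.ext
    intro a
    apply Subtype.ext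
    funext x f
    show a.1 x (f ≫ (h.unop ≫ g.unop)) = a.1 x ((f ≫ h.unop) ≫ g.unop)
    rw [Category.assoc]

end presheaf

section sheaf

variable (J : GrothendieckTopology C)

theorem lift_map_of {V : C} {s' x : 𝒮.obj} (h : V ⟶ 𝒮.p.obj x) (ψ : s' ⟶ x)
    (hψ : 𝒮.p.IsHomLift h ψ) :
    ∃ hV : 𝒮.p.obj s' = V, 𝒮.p.map ψ = eqToHom hV ≫ h := by
  have hV : 𝒮.p.obj s' = V := IsHomLift.domain_eq 𝒮.p h ψ
  subst hV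
  exact ⟨rfl, by rw [eqToHom_refl, Category.id_comp]; exact (IsHomLift.eq_of_isHomLift 𝒮.p h ψ).symm⟩

/-- local data glue to a natural family. -/
theorem glue_fam (h𝒮 : Stk.IsStack J 𝒮) {U : C} (S : Sieve U) (hS : S ∈ J U)
    (s : ∀ ⦃W : C⦄ (g : W ⟶ U), S g → NatFam 𝒮 W)
    (hs : ∀ ⦃W W' : C⦄ (g : W ⟶ U) (k : W' ⟶ W) (hg : S g),
      s (k ≫ g) (S.downward_closed hg k) = resFam k (s g hg)) :
    ∃! t : NatFam 𝒮 U, ∀ ⦃W : C⦄ (g : W ⟶ U) (hg : S g), resFam g t = s g hg := by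
  have hfg : IsFibGrpd 𝒮.p := h𝒮.1
  -- `A s' g hg`: the local automorphism of `s'`
  have s_congr : ∀ {W : C} (g₁ g₂ : W ⟶ U) (_ : g₁ = g₂) (h₁ : S g₁) (h₂ : S g₂),
      s g₁ h₁ = s g₂ h₂ := by
    intro W g₁ g₂ h h₁ h₂
    subst h
    rfl
  have A_eq : ∀ {W : C} (s' : 𝒮.obj) (k : 𝒮.p.obj s' ⟶ W) (g : W ⟶ U) (hg : S g)
      (hm : S (k ≫ g)), e ((s (k ≫ g) hm).1 s' (𝟙 _)) = e ((s g hg).1 s' k) := by
    intro W s' k g hg hm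
    have h1 : s (k ≫ g) hm = resFam k (s g hg) := hs g k hg
    rw [h1, resFam_apply, Category.id_comp]
  have A_congr : ∀ (s' : 𝒮.obj) (g₁ g₂ : 𝒮.p.obj s' ⟶ U) (_ : g₁ = g₂) (h₁ : S g₁) (h₂ : S g₂),
      e ((s g₁ h₁).1 s' (𝟙 _)) = e ((s g₂ h₂).1 s' (𝟙 _)) := by
    intro s' g₁ g₂ h h₁ h₂
    rw [s_congr g₁ g₂ h h₁ h₂]
  have key1 : ∀ (s₁ s' : 𝒮.obj) (χ : s₁ ⟶ s') (g : 𝒮.p.obj s' ⟶ U) (hg : S g)
      (hm : S (𝒮.p.map χ ≫ g)),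
      e ((s (𝒮.p.map χ ≫ g) hm).1 s₁ (𝟙 _)) ≫ χ = χ ≫ e ((s g hg).1 s' (𝟙 _)) := by
    intro s₁ s' χ g hg hm
    rw [A_eq s₁ (𝒮.p.map χ) g hg hm]
    have := natFam_nat (s g hg) s₁ s' χ (𝟙 _)
    rw [Category.comp_id] at this
    exact this
  -- the glued endomorphisms
  have hμ : ∀ (x : 𝒮.obj) (f : 𝒮.p.obj x ⟶ U), ∃ μ : x ⟶ x,
      𝒮.p.IsHomLift (𝟙 (𝒮.p.obj x)) μ ∧
        ∀ (s' : 𝒮.obj) (ψ : s' ⟶ x) (hm : S (𝒮.p.map ψ ≫ f)),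
          ψ ≫ μ = e ((s (𝒮.p.map ψ ≫ f) hm).1 s' (𝟙 _)) ≫ ψ := by
    intro x f
    have hcov : S.pullback f ∈ J (𝒮.p.obj x) := J.pullback_stable f hS
    have hfull : (Stk.resSieve (S.pullback f) 𝒮).Full := (h𝒮.2 (S.pullback f) hcov).full
    obtain ⟨μ, hμl, hμrel⟩ := glue_hom hfg (S.pullback f) hfull (t := x) (t' := x) rfl rfl
      (fun {s'} ψ ψ' => ∃ hm : S (𝒮.p.map ψ ≫ f),
        ψ' = e ((s (𝒮.p.map ψ ≫ f) hm).1 s' (𝟙 _)) ≫ ψ)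
      (by
        intro V h hh s' ψ hψ
        obtain ⟨hV, hmap⟩ := lift_map_of h ψ hψ
        subst hV
        rw [eqToHom_refl, Category.id_comp] at hmap
        have hm : S (𝒮.p.map ψ ≫ f) := by rw [hmap]; exact hh
        refine ⟨e ((s (𝒮.p.map ψ ≫ f) hm).1 s' (𝟙 _)) ≫ ψ, ?_, hm, rfl⟩
        exact isHomLift_comp_id_left 𝒮.p h _ _ (e_lift _) hψ)
      (by
        rintro s' ψ ψ₁ ψ₂ ⟨hm, rfl⟩ ⟨hm', rfl⟩
        rfl)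
      (by
        rintro s₁ s' χ ψ ψ' ⟨hm, rfl⟩
        have heq : 𝒮.p.map (χ ≫ ψ) ≫ f = 𝒮.p.map χ ≫ (𝒮.p.map ψ ≫ f) := by
          rw [Functor.map_comp, Category.assoc]
        have hm2 : S (𝒮.p.map χ ≫ (𝒮.p.map ψ ≫ f)) := S.downward_closed hm _
        have hm' : S (𝒮.p.map (χ ≫ ψ) ≫ f) := by rw [heq]; exact hm2
        refine ⟨hm', ?_⟩
        rw [A_congr s₁ _ _ heq hm' hm2, ← Category.assoc, ← key1 s₁ s' χ _ hm hm2,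
          Category.assoc])
    refine ⟨μ, hμl, fun s' ψ hm => ?_⟩
    obtain ⟨_, h2⟩ := hμrel (𝒮.p.map ψ) hm s' ψ inferInstance
    exact h2
  choose μ hμl hμA using hμ
  -- faithfulness of restriction, for `eq_of_locally`
  have hfa : ∀ (x : 𝒮.obj) (f : 𝒮.p.obj x ⟶ U), (Stk.resSieve (S.pullback f) 𝒮).Faithful :=
    fun x f => (h𝒮.2 (S.pullback f) (J.pullback_stable f hS)).faithful
  -- local characterisation of equality with `μ`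
  have μ_char : ∀ (x : 𝒮.obj) (f : 𝒮.p.obj x ⟶ U) (ν : x ⟶ x),
      𝒮.p.IsHomLift (𝟙 (𝒮.p.obj x)) ν →
      (∀ (s' : 𝒮.obj) (ψ : s' ⟶ x) (hm : S (𝒮.p.map ψ ≫ f)),
        ψ ≫ ν = e ((s (𝒮.p.map ψ ≫ f) hm).1 s' (𝟙 _)) ≫ ψ) → ν = μ x f := by
    intro x f ν hν hνA
    refine eq_of_locally hfg (𝟙 (𝒮.p.obj x)) (S.pullback f) (hfa x f) ν (μ x f) hν (hμl x f) ?_
    intro V h hh s' ψ hψ
    obtain ⟨hV, hmap⟩ := lift_map_of h ψ hψ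
    subst hV
    rw [eqToHom_refl, Category.id_comp] at hmap
    have hm : S (𝒮.p.map ψ ≫ f) := by rw [hmap]; exact hh
    rw [hνA s' ψ hm, hμA x f s' ψ hm]
  -- naturality of `μ`
  have μ_nat : ∀ (x' x : 𝒮.obj) (φ : x' ⟶ x) (f : 𝒮.p.obj x ⟶ U),
      μ x' (𝒮.p.map φ ≫ f) ≫ φ = φ ≫ μ x f := by
    intro x' x φ f
    have hb : 𝒮.p.IsHomLift (𝒮.p.map φ) (μ x' (𝒮.p.map φ ≫ f) ≫ φ) :=
      isHomLift_comp_id_left 𝒮.p (𝒮.p.map φ) _ _ (hμl x' _) inferInstance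
    have hb' : 𝒮.p.IsHomLift (𝒮.p.map φ) (φ ≫ μ x f) :=
      isHomLift_comp_id_right 𝒮.p (𝒮.p.map φ) _ _ inferInstance (hμl x f)
    refine eq_of_locally hfg (𝒮.p.map φ) (S.pullback (𝒮.p.map φ ≫ f)) (hfa x' _) _ _ hb hb' ?_
    intro V h hh s' ψ hψ
    obtain ⟨hV, hmap⟩ := lift_map_of h ψ hψ
    subst hV
    rw [eqToHom_refl, Category.id_comp] at hmap
    have hm₁ : S (𝒮.p.map ψ ≫ (𝒮.p.map φ ≫ f)) := by rw [hmap]; exact hh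
    have heq : 𝒮.p.map (ψ ≫ φ) ≫ f = 𝒮.p.map ψ ≫ (𝒮.p.map φ ≫ f) := by
      rw [Functor.map_comp, Category.assoc]
    have hm₂ : S (𝒮.p.map (ψ ≫ φ) ≫ f) := by rw [heq]; exact hm₁
    calc ψ ≫ μ x' (𝒮.p.map φ ≫ f) ≫ φ
        = (ψ ≫ μ x' (𝒮.p.map φ ≫ f)) ≫ φ := (Category.assoc _ _ _).symm
      _ = (e ((s _ hm₁).1 s' (𝟙 _)) ≫ ψ) ≫ φ := by rw [hμA x' _ s' ψ hm₁]
      _ = e ((s _ hm₂).1 s' (𝟙 _)) ≫ (ψ ≫ φ) := by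
          rw [A_congr s' _ _ heq hm₂ hm₁, Category.assoc]
      _ = (ψ ≫ φ) ≫ μ x f := (hμA x f s' (ψ ≫ φ) hm₂).symm
      _ = ψ ≫ φ ≫ μ x f := Category.assoc _ _ _
  let t : NatFam 𝒮 U := ⟨fun x f => mkAutO hfg (μ x f) (hμl x f), fun x' x φ f => by
    rw [e_mkAutO, e_mkAutO]
    exact μ_nat x' x φ f⟩
  have ht : ∀ x f, e (t.1 x f) = μ x f := fun x f => e_mkAutO hfg (μ x f) (hμl x f)
  refine ⟨t, ?_, ?_⟩
  · intro W g hg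
    apply Subtype.ext
    funext x f'
    apply autO_ext
    show e (t.1 x (f' ≫ g)) = e ((s g hg).1 x f')
    rw [ht]
    symm
    refine μ_char x (f' ≫ g) _ (e_lift _) ?_
    intro s' ψ hm
    have heq : 𝒮.p.map ψ ≫ f' ≫ g = (𝒮.p.map ψ ≫ f') ≫ g := (Category.assoc _ _ _).symm
    have hm' : S ((𝒮.p.map ψ ≫ f') ≫ g) := by rw [← heq]; exact hm
    rw [A_congr s' _ _ heq hm hm', A_eq s' (𝒮.p.map ψ ≫ f') g hg hm']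
    exact (natFam_nat (s g hg) s' x ψ f').symm
  · intro t' ht'
    apply Subtype.ext
    funext x f
    apply autO_ext
    show e (t'.1 x f) = e (t.1 x f)
    rw [ht]
    refine μ_char x f _ (e_lift _) ?_
    intro s' ψ hm
    have h1 : s (𝒮.p.map ψ ≫ f) hm = resFam (𝒮.p.map ψ ≫ f) t' := (ht' _ hm).symm
    rw [h1, resFam_apply, Category.id_comp]
    exact (natFam_nat t' s' x ψ f).symm

theorem G_isSheaf (h𝒮 : Stk.IsStack J 𝒮) : Presheaf.IsSheaf J (G 𝒮) := by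
  rw [Presheaf.isSheaf_iff_isSheaf_forget J (G 𝒮) (forget GrpCat), isSheaf_iff_isSheaf_of_type]
  intro U S hS x hx
  have hxs := (Presieve.compatible_iff_sieveCompatible x).mp hx
  exact glue_fam J h𝒮 S hS (fun W g hg => x g hg) (fun W W' g k hg => hxs g k hg)

end sheaf

section banding

variable (J : GrothendieckTopology C)

/-- in a gerbe, any object `y` is locally connected to `x` along any `f : p y ⟶ p x`. -/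
theorem conn (h𝒮 : Gerb.IsGerbe J 𝒮) (y x : 𝒮.obj) (f : 𝒮.p.obj y ⟶ 𝒮.p.obj x) :
    ∃ R ∈ J (𝒮.p.obj y), ∀ ⦃V : C⦄ (h : V ⟶ 𝒮.p.obj y), R h → ∀ (s' : 𝒮.obj) (χ : s' ⟶ y),
      𝒮.p.IsHomLift h χ → ∃ ψ : s' ⟶ x, 𝒮.p.map χ ≫ f = 𝒮.p.map ψ := by
  have : IsFibGrpd 𝒮.p := h𝒮.1.1
  have : IsFibGrpd (FibCat.selfOver C).p := Groth.Agent.H32.Repr.id_isFibGrpd
  exact Groth.Agent.H84.locSurjHom_strong J (FibCat.toSelf 𝒮) h𝒮.2.2 y x f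

/-- evaluation of a natural family at `(x, 𝟙)`. -/
def ev (x : 𝒮.obj) : NatFam 𝒮 (𝒮.p.obj x) →* Gerb.AutO x where
  toFun a := a.1 x (𝟙 _)
  map_one' := rfl
  map_mul' _ _ := rfl

theorem ev_natural {x' x : 𝒮.obj} (φ : x' ⟶ x) (a : NatFam 𝒮 (𝒮.p.obj x)) :
    e (ev x' (resFam (𝒮.p.map φ) a)) ≫ φ = φ ≫ e (ev x a) := by
  have h := natFam_nat a x' x φ (𝟙 _)
  rw [Category.comp_id] at h
  show e (a.1 x' (𝟙 _ ≫ 𝒮.p.map φ)) ≫ φ = φ ≫ e (a.1 x (𝟙 _))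
  rw [Category.id_comp]
  exact h

theorem ev_injective (h𝒮 : Gerb.IsGerbe J 𝒮) (x : 𝒮.obj) : Function.Injective (ev x) := by
  have hfg : IsFibGrpd 𝒮.p := h𝒮.1.1
  rw [injective_iff_map_eq_one]
  intro a ha
  have ha' : e (a.1 x (𝟙 _)) = 𝟙 x := congrArg e ha
  apply Subtype.ext
  funext y f
  apply autO_ext
  show e (a.1 y f) = 𝟙 y
  obtain ⟨R, hR, H⟩ := conn J h𝒮 y x f
  have hfa : (Stk.resSieve R 𝒮).Faithful := (h𝒮.1.2 R hR).faithful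
  refine eq_of_locally hfg (𝟙 (𝒮.p.obj y)) R hfa _ _ (e_lift _) (IsHomLift.id rfl) ?_
  intro V h hh s' χ hχ
  obtain ⟨ψ, hψ⟩ := H h hh s' χ hχ
  have n1 := natFam_nat a s' y χ f
  have n2 := natFam_nat a s' x ψ (𝟙 _)
  rw [ha'] at n2
  have h3 : e (a.1 s' (𝒮.p.map ψ ≫ 𝟙 _)) = 𝟙 s' :=
    eq_id_of_comp 𝒮.p hfg (𝒮.p.map ψ) ψ inferInstance _ (e_lift _)
      (n2.trans (Category.comp_id ψ))
  have h4 : a.1 s' (𝒮.p.map χ ≫ f) = a.1 s' (𝒮.p.map ψ ≫ 𝟙 _) := by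
    rw [hψ, Category.comp_id]
  rw [← n1, h4, h3, Category.id_comp, Category.comp_id]

theorem ev_surjective (h𝒮 : Gerb.IsGerbe J 𝒮)
    (hcomm : ∀ (x : 𝒮.obj) (α β : Gerb.AutO x), α * β = β * α) (x : 𝒮.obj) :
    Function.Surjective (ev x) := by
  have hfg : IsFibGrpd 𝒮.p := h𝒮.1.1
  intro α
  -- vertical endomorphisms commute
  have comm_vert : ∀ (s' : 𝒮.obj) (a b : s' ⟶ s'), 𝒮.p.IsHomLift (𝟙 (𝒮.p.obj s')) a →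
      𝒮.p.IsHomLift (𝟙 (𝒮.p.obj s')) b → a ≫ b = b ≫ a := by
    intro s' a b ha hb
    have := congrArg e (hcomm s' (mkAutO hfg b hb) (mkAutO hfg a ha))
    rw [e_mul, e_mul, e_mkAutO, e_mkAutO] at this
    exact this
  -- cancellation of vertical morphisms
  have vert_cancel : ∀ (s' : 𝒮.obj) (ψ : s' ⟶ x) (β β' : s' ⟶ s'),
      𝒮.p.IsHomLift (𝟙 (𝒮.p.obj s')) β → 𝒮.p.IsHomLift (𝟙 (𝒮.p.obj s')) β' →
      β ≫ ψ = β' ≫ ψ → β = β' := by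
    intro s' ψ β β' hβ hβ' h
    have := sc_of_isFibGrpd 𝒮.p hfg (𝒮.p.map ψ) ψ
    exact Functor.IsStronglyCartesian.ext 𝒮.p (𝒮.p.map ψ) ψ (𝟙 (𝒮.p.obj s')) h
  -- transport of `α` along `ψ`
  have htr : ∀ (s' : 𝒮.obj) (ψ : s' ⟶ x), ∃ β : s' ⟶ s',
      𝒮.p.IsHomLift (𝟙 (𝒮.p.obj s')) β ∧ β ≫ ψ = ψ ≫ e α := fun s' ψ =>
    exists_conj 𝒮.p hfg (𝒮.p.map ψ) ψ inferInstance (e α) (e_lift α)
  choose tr htr1 htr2 using htr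
  have T1 : ∀ (s' : 𝒮.obj) (ψ₁ ψ₂ : s' ⟶ x), 𝒮.p.map ψ₁ = 𝒮.p.map ψ₂ → tr s' ψ₁ = tr s' ψ₂ := by
    intro s' ψ₁ ψ₂ h
    have l2 : 𝒮.p.IsHomLift (𝒮.p.map ψ₁) ψ₂ := by rw [h]; infer_instance
    obtain ⟨γ, hγ, hγ2⟩ := exists_aut 𝒮.p hfg (𝒮.p.map ψ₁) ψ₁ ψ₂ inferInstance l2
    refine vert_cancel s' ψ₂ _ _ (htr1 s' ψ₁) (htr1 s' ψ₂) ?_
    rw [htr2 s' ψ₂, ← hγ2, ← Category.assoc, comm_vert s' _ _ (htr1 s' ψ₁) hγ, Category.assoc,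
      htr2 s' ψ₁, Category.assoc]
  have T2 : ∀ (s₁ s' : 𝒮.obj) (χ : s₁ ⟶ s') (ψ : s' ⟶ x),
      tr s₁ (χ ≫ ψ) ≫ χ = χ ≫ tr s' ψ := by
    intro s₁ s' χ ψ
    have := sc_of_isFibGrpd 𝒮.p hfg (𝒮.p.map ψ) ψ
    have l1 : 𝒮.p.IsHomLift (𝒮.p.map χ) (tr s₁ (χ ≫ ψ) ≫ χ) :=
      isHomLift_comp_id_left 𝒮.p (𝒮.p.map χ) _ _ (htr1 s₁ _) inferInstance
    have l2 : 𝒮.p.IsHomLift (𝒮.p.map χ) (χ ≫ tr s' ψ) :=
      isHomLift_comp_id_right 𝒮.p (𝒮.p.map χ) _ _ inferInstance (htr1 s' ψ)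
    refine Functor.IsStronglyCartesian.ext 𝒮.p (𝒮.p.map ψ) ψ (𝒮.p.map χ) ?_
    calc (tr s₁ (χ ≫ ψ) ≫ χ) ≫ ψ = tr s₁ (χ ≫ ψ) ≫ (χ ≫ ψ) := Category.assoc _ _ _
      _ = (χ ≫ ψ) ≫ e α := htr2 s₁ (χ ≫ ψ)
      _ = χ ≫ (ψ ≫ e α) := Category.assoc _ _ _
      _ = χ ≫ (tr s' ψ ≫ ψ) := by rw [htr2 s' ψ]
      _ = (χ ≫ tr s' ψ) ≫ ψ := (Category.assoc _ _ _).symm
  -- the glued endomorphisms
  have hμ : ∀ (y : 𝒮.obj) (f : 𝒮.p.obj y ⟶ 𝒮.p.obj x), ∃ μ : y ⟶ y,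
      𝒮.p.IsHomLift (𝟙 (𝒮.p.obj y)) μ ∧ ∃ R ∈ J (𝒮.p.obj y),
        ∀ ⦃V : C⦄ (h : V ⟶ 𝒮.p.obj y), R h → ∀ (s' : 𝒮.obj) (χ : s' ⟶ y), 𝒮.p.IsHomLift h χ →
          ∃ ψ : s' ⟶ x, 𝒮.p.map χ ≫ f = 𝒮.p.map ψ ∧ χ ≫ μ = tr s' ψ ≫ χ := by
    intro y f
    obtain ⟨R, hR, H⟩ := conn J h𝒮 y x f
    have hfull : (Stk.resSieve R 𝒮).Full := (h𝒮.1.2 R hR).full
    obtain ⟨μ, hμl, hμrel⟩ := glue_hom hfg R hfull (t := y) (t' := y) rfl rfl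
      (fun {s'} χ χ' => ∃ ψ : s' ⟶ x, 𝒮.p.map χ ≫ f = 𝒮.p.map ψ ∧ χ' = tr s' ψ ≫ χ)
      (by
        intro V h hh s' χ hχ
        obtain ⟨ψ, hψ⟩ := H h hh s' χ hχ
        have hV : 𝒮.p.obj s' = V := IsHomLift.domain_eq 𝒮.p h χ
        refine ⟨tr s' ψ ≫ χ, ?_, ψ, hψ, rfl⟩
        exact isHomLift_comp_id_left 𝒮.p h _ _ (isHomLift_id_of_eq 𝒮.p hV _ (htr1 s' ψ)) hχ)
      (by
        rintro s' χ χ₁ χ₂ ⟨ψ₁, h₁, rfl⟩ ⟨ψ₂, h₂, rfl⟩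
        rw [T1 s' ψ₁ ψ₂ (h₁.symm.trans h₂)])
      (by
        rintro s₁ s' k χ χ' ⟨ψ, h, rfl⟩
        refine ⟨k ≫ ψ, ?_, ?_⟩
        · rw [Functor.map_comp, Functor.map_comp, Category.assoc, h]
        · rw [← Category.assoc, ← T2 s₁ s' k ψ, Category.assoc])
    exact ⟨μ, hμl, R, hR, fun V h hh s' χ hχ => hμrel h hh s' χ hχ⟩
  choose μ hμl R hR hμR using hμ
  have μ_nat : ∀ (y' y : 𝒮.obj) (φ : y' ⟶ y) (f : 𝒮.p.obj y ⟶ 𝒮.p.obj x),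
      μ y' (𝒮.p.map φ ≫ f) ≫ φ = φ ≫ μ y f := by
    intro y' y φ f
    have hb : 𝒮.p.IsHomLift (𝒮.p.map φ) (μ y' (𝒮.p.map φ ≫ f) ≫ φ) :=
      isHomLift_comp_id_left 𝒮.p (𝒮.p.map φ) _ _ (hμl y' _) inferInstance
    have hb' : 𝒮.p.IsHomLift (𝒮.p.map φ) (φ ≫ μ y f) :=
      isHomLift_comp_id_right 𝒮.p (𝒮.p.map φ) _ _ inferInstance (hμl y f)
    have hR' : R y' (𝒮.p.map φ ≫ f) ⊓ (R y f).pullback (𝒮.p.map φ) ∈ J (𝒮.p.obj y') :=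
      J.intersection_covering (hR y' _) (J.pullback_stable _ (hR y f))
    have hfa := (h𝒮.1.2 _ hR').faithful
    refine eq_of_locally hfg (𝒮.p.map φ) _ hfa _ _ hb hb' ?_
    rintro V h ⟨hh1, hh2⟩ s' χ hχ
    obtain ⟨ψ₁, e₁, m₁⟩ := hμR y' (𝒮.p.map φ ≫ f) h hh1 s' χ hχ
    have hχφ : 𝒮.p.IsHomLift (h ≫ 𝒮.p.map φ) (χ ≫ φ) := inferInstance
    obtain ⟨ψ₂, e₂, m₂⟩ := hμR y f (h ≫ 𝒮.p.map φ) hh2 s' (χ ≫ φ) hχφ
    have e12 : 𝒮.p.map ψ₁ = 𝒮.p.map ψ₂ := by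
      rw [← e₁, ← e₂, Functor.map_comp, Category.assoc]
    calc χ ≫ μ y' (𝒮.p.map φ ≫ f) ≫ φ = (χ ≫ μ y' (𝒮.p.map φ ≫ f)) ≫ φ :=
          (Category.assoc _ _ _).symm
      _ = (tr s' ψ₁ ≫ χ) ≫ φ := by rw [m₁]
      _ = tr s' ψ₂ ≫ (χ ≫ φ) := by rw [T1 s' ψ₁ ψ₂ e12, Category.assoc]
      _ = (χ ≫ φ) ≫ μ y f := m₂.symm
      _ = χ ≫ φ ≫ μ y f := Category.assoc _ _ _
  let a : NatFam 𝒮 (𝒮.p.obj x) := ⟨fun y f => mkAutO hfg (μ y f) (hμl y f), fun y' y φ f => by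
    rw [e_mkAutO, e_mkAutO]
    exact μ_nat y' y φ f⟩
  refine ⟨a, ?_⟩
  apply autO_ext
  show e (mkAutO hfg (μ x (𝟙 _)) (hμl x (𝟙 _))) = e α
  rw [e_mkAutO]
  have hfa := (h𝒮.1.2 _ (hR x (𝟙 _))).faithful
  refine eq_of_locally hfg (𝟙 (𝒮.p.obj x)) _ hfa _ _ (hμl x (𝟙 _)) (e_lift α) ?_
  intro V h hh s' χ hχ
  obtain ⟨ψ, e₁, m₁⟩ := hμR x (𝟙 _) h hh s' χ hχ
  rw [Category.comp_id] at e₁
  rw [m₁, ← T1 s' χ ψ e₁, htr2 s' χ]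

end banding

end Groth.Agent.H36.GerbBand
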