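import Mathlib
import Groth.Prelude.Def_DDual2
import Groth.Agent.H12.DualDepth

/-!
# (NEQ) for helper46's S11187: a shift of a dualizing complex with the same cohomological support
is the trivial shift.
-/

set_option autoImplicit false
universe u
open CategoryTheory Limits MonoidalCategory
attribute [local instance] HasDerivedCategory.standard

namespace Groth.Agent.H36.Inv2_NEQ

theorem NEQ (A : Type u) [CommRing A] [Nontrivial A] (ω₁ ω₂ : Dual.D A)
    (h₁ : Dual.IsDualizing A ω₁)
    (hsupp : ∀ i : ℤ, Subsingleton (Dual.HD A ω₁ i) ↔ Subsingleton (Dual.HD A ω₂ i))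
    (n n' : ℤ) (e : ω₁⟦n⟧ ≅ ω₂⟦n'⟧) : n = n' := by
  -- boundedness
  obtain ⟨a, b, hab⟩ := h₁.finite_injective_dimension
  have hbd : ∀ i : ℤ, (i < a ∨ b < i) → Subsingleton (Dual.HD A ω₁ i) := by
    intro i hi
    have hv : Groth.Agent.H12.DualDepth.Van ω₁ i (ModuleCat.of A A) := by
      rw [Groth.Agent.H12.DualDepth.van_iff_subsingleton]
      exact hab A i hi
    have hz := Groth.Agent.H12.DualDepth.isZero_homology_of_van (W := ω₁) i hv
    exact ModuleCat.subsingleton_of_isZero hz
  -- nonempty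
  have hne : ∃ i : ℤ, ¬ Subsingleton (Dual.HD A ω₁ i) := by
    by_contra hcon
    push Not at hcon
    have hzi : ∀ i : ℤ, IsZero ((DerivedCategory.homologyFunctor (ModuleCat.{u} A) i).obj ω₁) :=
      fun i => by
        haveI := hcon i
        exact ModuleCat.isZero_of_subsingleton _
    have hz : IsZero ω₁ := by
      haveI h1 : ω₁.IsGE 1 := by
        rw [DerivedCategory.isGE_iff]
        intro i _
        exact hzi i
      haveI h0 : ω₁.IsLE 0 := by
        rw [DerivedCategory.isLE_iff]
        intro i _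
        exact hzi i
      exact DerivedCategory.TStructure.t.isZero ω₁ 0 1 (by omega)
    have h10 : (fun a : A => a • 𝟙 ω₁) 1 = (fun a : A => a • 𝟙 ω₁) 0 := hz.eq_of_src _ _
    exact one_ne_zero (h₁.toEnd_bijective.1 h10)
  -- shift
  have hshift : ∀ i : ℤ,
      Subsingleton (Dual.HD A ω₁ (n + i)) ↔ Subsingleton (Dual.HD A ω₁ (n' + i)) := by
    intro i
    have e1 := ((DerivedCategory.homologyFunctor (ModuleCat.{u} A) 0).shiftIso n i (n + i) rfl).app ω₁
    have e2 := ((DerivedCategory.homologyFunctor (ModuleCat.{u} A) 0).shiftIso n' i (n' + i) rfl).app ω₂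
    have e3 := ((DerivedCategory.homologyFunctor (ModuleCat.{u} A) 0).shift i).mapIso e
    have e4 : (DerivedCategory.homologyFunctor (ModuleCat.{u} A) (n + i)).obj ω₁ ≅
        (DerivedCategory.homologyFunctor (ModuleCat.{u} A) (n' + i)).obj ω₂ :=
      e1.symm ≪≫ e3 ≪≫ e2
    rw [hsupp (n' + i)]
    exact e4.toLinearEquiv.toEquiv.subsingleton_congr
  by_contra hnn
  obtain ⟨i₀, hi₀⟩ := hne
  set d : ℤ := n' - n with hd
  have hd0 : d ≠ 0 := fun h => hnn (by omega)
  have hstep : ∀ k : ℤ, Subsingleton (Dual.HD A ω₁ k) ↔ Subsingleton (Dual.HD A ω₁ (k + d)) := by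
    intro k
    have := hshift (k - n)
    have h1 : n + (k - n) = k := by ring
    have h2 : n' + (k - n) = k + d := by rw [hd]; ring
    rwa [h1, h2] at this
  have hall : ∀ m : ℤ, ¬ Subsingleton (Dual.HD A ω₁ (i₀ + m * d)) := by
    intro m
    induction m using Int.induction_on with
    | zero => simpa using hi₀
    | succ m ih =>
      have h := hstep (i₀ + (m : ℤ) * d)
      have h3 : i₀ + (m : ℤ) * d + d = i₀ + ((m : ℤ) + 1) * d := by ring
      rw [h3] at h
      exact fun hs => ih (h.2 hs)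
    | pred m ih =>
      have h := hstep (i₀ + (-(m : ℤ) - 1) * d)
      have h3 : i₀ + (-(m : ℤ) - 1) * d + d = i₀ + (-(m : ℤ)) * d := by ring
      rw [h3] at h
      exact fun hs => ih (h.1 hs)
  have hi₀b : i₀ ≤ b := by
    by_contra hlt
    exact hi₀ (hbd i₀ (Or.inr (by omega)))
  have hdd : 1 ≤ d * d := by
    rcases lt_or_gt_of_ne hd0 with h | h
    · nlinarith
    · nlinarith
  refine hall ((b - i₀ + 1) * d) (hbd _ (Or.inr ?_))
  nlinarith

end Groth.Agent.H36.Inv2_NEQ
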