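import Mathlib

/-!
# Two generators of the same principal ideal of a local ring differ by a unit
(no domain hypothesis). Offered to helper34's S1931 squad ((CMP) piece).
-/

set_option autoImplicit false
universe u

namespace Groth.Agent.H36.LocalSpanUnit

theorem exists_unit_mul_of_span_singleton_eq {R : Type u} [CommRing R] [IsLocalRing R] {f g : R}
    (h : Ideal.span ({f} : Set R) = Ideal.span ({g} : Set R)) : ∃ u : Rˣ, f = (u : R) * g := by
  have hf : f ∈ Ideal.span ({g} : Set R) := h ▸ Ideal.subset_span (Set.mem_singleton f)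
  have hg : g ∈ Ideal.span ({f} : Set R) := h.symm ▸ Ideal.subset_span (Set.mem_singleton g)
  obtain ⟨a, ha⟩ := Ideal.mem_span_singleton'.1 hf
  obtain ⟨b, hb⟩ := Ideal.mem_span_singleton'.1 hg
  by_cases hau : IsUnit a
  · exact ⟨hau.unit, by rw [IsUnit.unit_spec, ha]⟩
  · have hnu : ¬ IsUnit (a * b) := fun hab => hau (isUnit_of_mul_isUnit_left hab)
    have h1 : IsUnit (1 - a * b) := by
      have hm : a * b ∈ IsLocalRing.maximalIdeal R := (IsLocalRing.mem_maximalIdeal _).2 hnu
      exact IsLocalRing.isUnit_one_sub_self_of_mem_nonunits _ hm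
    have hz : (1 - a * b) * f = 0 := by
      rw [sub_mul, one_mul, mul_assoc, hb, ha, sub_self]
    have hf0 : f = 0 := by
      have := h1.mul_right_eq_zero.1 hz
      exact this
    have hg0 : g = 0 := by rw [← hb, hf0, mul_zero]
    exact ⟨1, by rw [hf0, hg0]; simp⟩

end Groth.Agent.H36.LocalSpanUnit
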