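import Groth.Statements.S15300
import Groth.Agent.S2370

/-!
# Milnor `lim¹` sequence for a tower of complexes of abelian groups with surjective transition maps
(helper36; element lemmas on complexes reused from `Groth.Agent.S2370`, helper16).
-/

set_option autoImplicit false
universe u
open CategoryTheory CategoryTheory.Limits HomologicalComplex Opposite

namespace Groth.Agent.H36.Mil

open Groth.Agent.S2370 (Cx exists_cycle exists_boundary homologyπ_surjective iCycles_injective
  iCycles_d_apply toCycles_i_apply toCycles_homologyπ_apply cyclesMap_i_apply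
  homologyπ_naturality_apply comm_apply toCycles_naturality_apply)

set_option backward.isDefEq.respectTransparency false
set_option backward.isDefEq.respectTransparency.types false

theorem d_d_apply (X : Cx.{u}) (i j k : ℤ) (x : X.X i) : (X.d j k).hom ((X.d i j).hom x) = 0 :=
  ConcreteCategory.congr_hom (X.d_comp_d i j k) x

variable (K : ℕᵒᵖ ⥤ Cx.{u})

/-- the `n`-th complex of the tower -/
abbrev A (n : ℕ) : Cx.{u} := K.obj (op n)
/-- the transition map -/
abbrev t (n : ℕ) : A K (n + 1) ⟶ A K n := K.map (homOfLE (Nat.le_succ n)).op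
/-- the limit complex -/
noncomputable abbrev L : Cx.{u} := limit K
/-- the projections -/
noncomputable abbrev pr (n : ℕ) : L K ⟶ A K n := limit.π K (op n)

theorem t_pr_apply (n : ℕ) (j : ℤ) (x : (L K).X j) :
    ((t K n).f j).hom (((pr K (n + 1)).f j).hom x) = ((pr K n).f j).hom x :=
  ConcreteCategory.congr_hom
    (congrArg (fun φ => φ.f j) (limit.w K (homOfLE (Nat.le_succ n)).op)) x

theorem L_ext (j : ℤ) (x y : (L K).X j)
    (h : ∀ n, ((pr K n).f j).hom x = ((pr K n).f j).hom y) : x = y := by
  apply Concrete.isLimit_ext (K ⋙ HomologicalComplex.eval _ _ j) (isLimitOfPreserves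
    (HomologicalComplex.eval AddCommGrpCat.{u} (ComplexShape.up ℤ) j) (limit.isLimit K))
  rintro ⟨n⟩
  exact h n

theorem map_eq_of_succ (j : ℤ) (x : ∀ n, (A K n).X j)
    (hx : ∀ n, ((t K n).f j).hom (x (n + 1)) = x n) {m n : ℕ} (h : m ≤ n) :
    ((K.map (homOfLE h).op).f j).hom (x n) = x m := by
  induction n, h using Nat.le_induction with
  | base =>
    have e : (homOfLE (le_refl m)).op = 𝟙 (op m) := Quiver.Hom.unop_inj (Subsingleton.elim _ _)
    rw [e, K.map_id]
    rfl
  | succ n hmn ih =>
    have e : (homOfLE (hmn.trans (Nat.le_succ n))).op =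
        (homOfLE (Nat.le_succ n)).op ≫ (homOfLE hmn).op :=
      Quiver.Hom.unop_inj (Subsingleton.elim _ _)
    rw [e, K.map_comp]
    show ((K.map (homOfLE hmn).op).f j).hom
      (((K.map (homOfLE (Nat.le_succ n)).op).f j).hom (x (n + 1))) = x m
    rw [hx n]
    exact ih

theorem L_exists (j : ℤ) (x : ∀ n, (A K n).X j)
    (hx : ∀ n, ((t K n).f j).hom (x (n + 1)) = x n) :
    ∃ y : (L K).X j, ∀ n, ((pr K n).f j).hom y = x n := by
  let hc := isLimitOfPreserves
    (HomologicalComplex.eval AddCommGrpCat.{u} (ComplexShape.up ℤ) j) (limit.isLimit K)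
  let hl := isLimitOfPreserves (CategoryTheory.forget AddCommGrpCat.{u}) hc
  let sec : ((K ⋙ HomologicalComplex.eval _ _ j) ⋙
      CategoryTheory.forget AddCommGrpCat.{u}).sections :=
    ⟨fun i => x i.unop, fun {i i'} f => by
      obtain ⟨n⟩ := i
      obtain ⟨m⟩ := i'
      have hmn : m ≤ n := leOfHom f.unop
      have hf : f = (homOfLE hmn).op := Quiver.Hom.unop_inj (Subsingleton.elim _ _)
      rw [hf]
      exact map_eq_of_succ K j x hx hmn⟩
  exact ⟨(Types.isLimitEquivSections hl).symm sec,
    fun n => Types.isLimitEquivSections_symm_apply hl sec (op n)⟩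

theorem post_π_apply (p : ℤ) (n : ℕ) (a : (L K).homology p) :
    (limit.π (K ⋙ homologyFunctor _ _ p) (op n)).hom
      ((limit.post K (homologyFunctor _ _ p)).hom a) = (homologyMap (pr K n) p).hom a :=
  ConcreteCategory.congr_hom (limit.post_π K (homologyFunctor _ _ p) (op n)) a

/-- solving `x_n - t x_{n+1} = e_n` when the transition maps are surjective -/
theorem exists_solve (hK : ∀ (n : ℕ) (j : ℤ), Function.Surjective ((t K n).f j).hom) (j : ℤ)
    (e : ∀ n, (A K n).X j) :
    ∃ x : ∀ n, (A K n).X j, ∀ n, x n - ((t K n).f j).hom (x (n + 1)) = e n := by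
  choose lift hlift using fun n => hK n j
  let x : ∀ n, (A K n).X j := fun n =>
    Nat.rec (motive := fun n => (A K n).X j) 0 (fun n xn => lift n (xn - e n)) n
  refine ⟨x, fun n => ?_⟩
  show x n - ((t K n).f j).hom (lift n (x n - e n)) = e n
  rw [hlift]
  abel

theorem post_surj (hK : ∀ (n : ℕ) (j : ℤ), Function.Surjective ((t K n).f j).hom) (p q : ℤ)
    (hqp : q + 1 = p) :
    Function.Surjective (limit.post K (homologyFunctor _ _ p)).hom := by
  intro h
  let hn : ∀ n, (A K n).homology p := fun n =>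
    (limit.π (K ⋙ homologyFunctor _ _ p) (op n)).hom h
  have hcomp : ∀ n, (homologyMap (t K n) p).hom (hn (n + 1)) = hn n := fun n =>
    ConcreteCategory.congr_hom
      (limit.w (K ⋙ homologyFunctor _ _ p) (homOfLE (Nat.le_succ n)).op) h
  have step : ∀ n (z : (A K n).cycles p), ((A K n).homologyπ p).hom z = hn n →
      ∃ z' : (A K (n + 1)).cycles p, ((A K (n + 1)).homologyπ p).hom z' = hn (n + 1) ∧
        (cyclesMap (t K n) p).hom z' = z := by
    intro n z hz
    obtain ⟨z1, hz1⟩ := homologyπ_surjective (A K (n + 1)) p (hn (n + 1))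
    have h0 : ((A K n).homologyπ p).hom ((cyclesMap (t K n) p).hom z1 - z) = 0 := by
      rw [map_sub, ← homologyπ_naturality_apply, hz1, hcomp, hz, sub_self]
    obtain ⟨b, hb⟩ := exists_boundary (A K n) q p hqp _ h0
    obtain ⟨b', hb'⟩ := hK n q b
    refine ⟨z1 - ((A K (n + 1)).toCycles q p).hom b', ?_, ?_⟩
    · rw [map_sub, toCycles_homologyπ_apply, sub_zero, hz1]
    · rw [map_sub, toCycles_naturality_apply, hb', hb]
      abel
  obtain ⟨z0, hz0⟩ := homologyπ_surjective (A K 0) p (hn 0)
  choose nxt hnxt1 hnxt2 using step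
  let zs : ∀ n, {z : (A K n).cycles p // ((A K n).homologyπ p).hom z = hn n} := fun n =>
    Nat.rec (motive := fun n => {z : (A K n).cycles p // ((A K n).homologyπ p).hom z = hn n})
      ⟨z0, hz0⟩ (fun n zn => ⟨nxt n zn.1 zn.2, hnxt1 n zn.1 zn.2⟩) n
  have hzs : ∀ n, (cyclesMap (t K n) p).hom (zs (n + 1)).1 = (zs n).1 := fun n =>
    hnxt2 n (zs n).1 (zs n).2
  obtain ⟨x, hx⟩ := L_exists K p (fun n => ((A K n).iCycles p).hom (zs n).1) (fun n => by
    rw [← cyclesMap_i_apply, hzs])
  have hdx : ((L K).d p (p + 1)).hom x = 0 := by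
    apply L_ext K (p + 1)
    intro n
    rw [map_zero, ← comm_apply, hx n, iCycles_d_apply]
  obtain ⟨w, hw⟩ := exists_cycle (L K) p (p + 1) rfl x hdx
  refine ⟨((L K).homologyπ p).hom w, ?_⟩
  apply Concrete.limit_ext (K ⋙ homologyFunctor _ _ p)
  rintro ⟨n⟩
  refine (post_π_apply K p n _).trans ?_
  refine (homologyπ_naturality_apply _ p w).trans ?_
  refine Eq.trans ?_ (zs n).2
  congr 1
  apply iCycles_injective
  rw [cyclesMap_i_apply, hw, hx n]

/-- the auxiliary group: `(x, z, w)` with `z_n` the cycle `x_n - t x_{n+1}` and `w` the cycle of the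
limit complex with components `d x_n`. -/
noncomputable def P (p q : ℤ) :
    AddSubgroup ((∀ n, (A K n).X q) × (∀ n, (A K n).cycles q) × (L K).cycles p) where
  carrier := {v | (∀ n, ((A K n).iCycles q).hom (v.2.1 n) =
      v.1 n - ((t K n).f q).hom (v.1 (n + 1))) ∧
    (∀ n, ((pr K n).f p).hom (((L K).iCycles p).hom v.2.2) = ((A K n).d q p).hom (v.1 n))}
  zero_mem' := ⟨fun n => by simp, fun n => by simp⟩
  add_mem' := fun {a b} ha hb => ⟨fun n => by
      simp only [Prod.fst_add, Prod.snd_add, Pi.add_apply, map_add, ha.1 n, hb.1 n]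
      abel,
    fun n => by simp only [Prod.fst_add, Prod.snd_add, Pi.add_apply, map_add, ha.2 n, hb.2 n]⟩
  neg_mem' := fun {a} ha => ⟨fun n => by
      simp only [Prod.fst_neg, Prod.snd_neg, Pi.neg_apply, map_neg, ha.1 n]
      abel,
    fun n => by simp only [Prod.fst_neg, Prod.snd_neg, Pi.neg_apply, map_neg, ha.2 n]⟩

noncomputable def beta0 (p q : ℤ) : P K p q →+ (L K).homology p :=
  ((L K).homologyπ p).hom.comp
    (((AddMonoidHom.snd _ _).comp (AddMonoidHom.snd _ _)).comp (P K p q).subtype)

theorem beta0_apply (p q : ℤ) (v : P K p q) :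
    beta0 K p q v = ((L K).homologyπ p).hom v.1.2.2 := rfl

noncomputable def theta0 (p q : ℤ) : P K p q →+ (∀ n, (A K n).homology q) where
  toFun v := fun n => ((A K n).homologyπ q).hom (v.1.2.1 n)
  map_zero' := by
    funext n
    show ((A K n).homologyπ q).hom 0 = 0
    exact map_zero _
  map_add' a b := by
    funext n
    show ((A K n).homologyπ q).hom (a.1.2.1 n + b.1.2.1 n) = _
    exact map_add _ _ _

noncomputable def theta (p q : ℤ) : P K p q →+
    Formal2.limOne (fun n => (A K n).homology q) (fun n => (homologyMap (t K n) q).hom) :=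
  (QuotientAddGroup.mk' _).comp (theta0 K p q)

theorem theta_surj (hK : ∀ (n : ℕ) (j : ℤ), Function.Surjective ((t K n).f j).hom) (p q : ℤ)
    (hqp : q + 1 = p) : Function.Surjective (theta K p q) := by
  intro g'
  obtain ⟨g, rfl⟩ := QuotientAddGroup.mk_surjective g'
  choose z hz using fun n => homologyπ_surjective (A K n) q (g n)
  obtain ⟨x, hx⟩ := exists_solve K hK q (fun n => ((A K n).iCycles q).hom (z n))
  have hd : ∀ n, ((t K n).f p).hom (((A K (n + 1)).d q p).hom (x (n + 1))) =
      ((A K n).d q p).hom (x n) := by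
    intro n
    have h1 : ((A K n).d q p).hom (x n - ((t K n).f q).hom (x (n + 1))) = 0 := by
      rw [hx n]
      exact iCycles_d_apply _ q p (z n)
    rw [map_sub, comm_apply] at h1
    exact (sub_eq_zero.mp h1).symm
  obtain ⟨y, hy⟩ := L_exists K p (fun n => ((A K n).d q p).hom (x n)) hd
  have hdy : ((L K).d p (p + 1)).hom y = 0 := by
    apply L_ext K (p + 1)
    intro n
    rw [map_zero, ← comm_apply, hy n]
    exact d_d_apply _ q p (p + 1) (x n)
  obtain ⟨w, hw⟩ := exists_cycle (L K) p (p + 1) rfl y hdy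
  refine ⟨⟨(x, z, w), ⟨fun n => (hx n).symm, fun n => by rw [hw]; exact hy n⟩⟩, ?_⟩
  show (QuotientAddGroup.mk (fun n => ((A K n).homologyπ q).hom (z n)) : Formal2.limOne _ _) =
    QuotientAddGroup.mk g
  congr 1
  funext n
  exact hz n

theorem beta0_mem_ker (p q : ℤ) (v : P K p q) :
    (limit.post K (homologyFunctor _ _ p)).hom (beta0 K p q v) = 0 := by
  apply Concrete.limit_ext (K ⋙ homologyFunctor _ _ p)
  rintro ⟨n⟩
  rw [map_zero]
  refine (post_π_apply K p n _).trans ?_
  rw [beta0_apply, homologyπ_naturality_apply]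
  have h1 : (cyclesMap (pr K n) p).hom v.1.2.2 = ((A K n).toCycles q p).hom (v.1.1 n) := by
    apply iCycles_injective
    rw [cyclesMap_i_apply, toCycles_i_apply]
    exact v.2.2 n
  rw [h1, toCycles_homologyπ_apply]

theorem exists_of_mem_ker (p q : ℤ) (hqp : q + 1 = p) (a : (L K).homology p)
    (ha : (limit.post K (homologyFunctor _ _ p)).hom a = 0) :
    ∃ v : P K p q, beta0 K p q v = a := by
  obtain ⟨w, rfl⟩ := homologyπ_surjective (L K) p a
  have hb : ∀ n, ((A K n).homologyπ p).hom ((cyclesMap (pr K n) p).hom w) = 0 := by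
    intro n
    rw [← homologyπ_naturality_apply, ← post_π_apply, ha, map_zero]
  choose x hx using fun n => exists_boundary (A K n) q p hqp _ (hb n)
  have hdx : ∀ n, ((A K n).d q p).hom (x n) =
      ((pr K n).f p).hom (((L K).iCycles p).hom w) := by
    intro n
    rw [← toCycles_i_apply, hx n, cyclesMap_i_apply]
  have hcl : ∀ n, ((A K n).d q p).hom (x n - ((t K n).f q).hom (x (n + 1))) = 0 := by
    intro n
    rw [map_sub, comm_apply, hdx n, hdx (n + 1), t_pr_apply, sub_self]
  choose z hz using fun n => exists_cycle (A K n) q p hqp _ (hcl n)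
  exact ⟨⟨(x, z, w), ⟨hz, fun n => (hdx n).symm⟩⟩, rfl⟩

theorem theta_eq_zero_of_beta0 (p q : ℤ) (hqp : q + 1 = p) (v : P K p q)
    (hv : beta0 K p q v = 0) : theta K p q v = 0 := by
  obtain ⟨⟨x, z, w⟩, hv1, hv2⟩ := v
  obtain ⟨b, hb⟩ := exists_boundary (L K) q p hqp w hv
  have hdb : ∀ n, ((A K n).d q p).hom (((pr K n).f q).hom b) = ((A K n).d q p).hom (x n) := by
    intro n
    rw [comm_apply, ← toCycles_i_apply, hb]
    exact hv2 n
  have hcl : ∀ n, ((A K n).d q p).hom (x n - ((pr K n).f q).hom b) = 0 := by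
    intro n
    rw [map_sub, hdb, sub_self]
  choose c hc using fun n => exists_cycle (A K n) q p hqp _ (hcl n)
  have hzc : ∀ n, z n = c n - (cyclesMap (t K n) q).hom (c (n + 1)) := by
    intro n
    apply iCycles_injective
    have e1 := hv1 n
    simp only at e1
    rw [e1, map_sub, cyclesMap_i_apply, hc n, hc (n + 1), map_sub, t_pr_apply]
    abel
  show (QuotientAddGroup.mk' _) (theta0 K p q _) = 0
  rw [QuotientAddGroup.mk'_apply, QuotientAddGroup.eq_zero_iff]
  refine ⟨fun n => ((A K n).homologyπ q).hom (c n), ?_⟩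
  funext n
  show ((A K n).homologyπ q).hom (c n) -
    (homologyMap (t K n) q).hom (((A K (n + 1)).homologyπ q).hom (c (n + 1))) =
    ((A K n).homologyπ q).hom (z n)
  rw [hzc n, map_sub, homologyπ_naturality_apply]

theorem beta0_eq_zero_of_theta (hK : ∀ (n : ℕ) (j : ℤ), Function.Surjective ((t K n).f j).hom)
    (p q : ℤ) (hqp : q + 1 = p) (v : P K p q)
    (hv : theta K p q v = 0) : beta0 K p q v = 0 := by
  obtain ⟨⟨x, z, w⟩, hv1, hv2⟩ := v
  have hv' : theta0 K p q ⟨(x, z, w), ⟨hv1, hv2⟩⟩ ∈
      (Formal2.towerDiff (fun n => (A K n).homology q)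
        (fun n => (homologyMap (t K n) q).hom)).range :=
    (QuotientAddGroup.eq_zero_iff _).mp hv
  obtain ⟨g, hg⟩ := hv'
  choose c hc using fun n => homologyπ_surjective (A K n) q (g n)
  have hgn : ∀ n, ((A K n).homologyπ q).hom
      (z n - (c n - (cyclesMap (t K n) q).hom (c (n + 1)))) = 0 := by
    intro n
    have h1 : g n - (homologyMap (t K n) q).hom (g (n + 1)) = ((A K n).homologyπ q).hom (z n) :=
      congrFun hg n
    rw [map_sub, map_sub, ← homologyπ_naturality_apply, hc n, hc (n + 1), h1, sub_self]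
  choose e he using fun n => exists_boundary (A K n) (q - 1) q (by ring) _ (hgn n)
  obtain ⟨f, hf⟩ := exists_solve K hK (q - 1) e
  have hbn : ∀ n, ((t K n).f q).hom (x (n + 1) - ((A K (n + 1)).iCycles q).hom (c (n + 1)) -
      ((A K (n + 1)).d (q - 1) q).hom (f (n + 1))) =
      x n - ((A K n).iCycles q).hom (c n) - ((A K n).d (q - 1) q).hom (f n) := by
    intro n
    have h1 : ((A K n).iCycles q).hom (((A K n).toCycles (q - 1) q).hom (e n)) =
        ((A K n).d (q - 1) q).hom (e n) := toCycles_i_apply _ _ _ _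
    rw [he n] at h1
    have e1 := hv1 n
    simp only at e1
    simp only [map_sub, cyclesMap_i_apply, e1] at h1
    have h2 := congrArg (fun y => ((A K n).d (q - 1) q).hom y) (hf n)
    simp only [map_sub, comm_apply] at h2
    have h3 := h1.trans h2.symm
    simp only [map_sub]
    refine (sub_eq_zero.mp (Eq.trans ?_ (sub_eq_zero.mpr h3))).symm
    abel
  obtain ⟨b, hb⟩ := L_exists K q (fun n => x n - ((A K n).iCycles q).hom (c n) -
    ((A K n).d (q - 1) q).hom (f n)) hbn
  have hdb : ((L K).d q p).hom b = ((L K).iCycles p).hom w := by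
    apply L_ext K p
    intro n
    have e2 := hv2 n
    simp only at e2
    rw [← comm_apply, hb n, e2, map_sub, map_sub, iCycles_d_apply, d_d_apply, sub_zero, sub_zero]
  have hbw : ((L K).toCycles q p).hom b = w := by
    apply iCycles_injective
    rw [toCycles_i_apply, hdb]
  show ((L K).homologyπ p).hom w = 0
  rw [← hbw, toCycles_homologyπ_apply]

theorem kerEquiv (hK : ∀ (n : ℕ) (j : ℤ), Function.Surjective ((t K n).f j).hom) (p q : ℤ)
    (hqp : q + 1 = p) :
    Nonempty ((limit.post K (homologyFunctor _ _ p)).hom.ker ≃+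
      Formal2.limOne (fun n => (A K n).homology q) (fun n => (homologyMap (t K n) q).hom)) := by
  let β : P K p q →+ (limit.post K (homologyFunctor _ _ p)).hom.ker :=
    (beta0 K p q).codRestrict _ (fun v => AddMonoidHom.mem_ker.mpr (beta0_mem_ker K p q v))
  have hβ : Function.Surjective β := by
    rintro ⟨a, ha⟩
    obtain ⟨v, hv⟩ := exists_of_mem_ker K p q hqp a (AddMonoidHom.mem_ker.mp ha)
    exact ⟨v, Subtype.ext hv⟩
  have hker : β.ker = (theta K p q).ker := by
    ext v
    rw [AddMonoidHom.mem_ker, AddMonoidHom.mem_ker]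
    constructor
    · intro h
      exact theta_eq_zero_of_beta0 K p q hqp v (congrArg Subtype.val h)
    · intro h
      exact Subtype.ext (beta0_eq_zero_of_theta K hK p q hqp v h)
  exact ⟨((QuotientAddGroup.quotientKerEquivOfSurjective β hβ).symm.trans
    (QuotientAddGroup.quotientAddEquivOfEq hker)).trans
    (QuotientAddGroup.quotientKerEquivOfSurjective (theta K p q) (theta_surj K hK p q hqp))⟩

end Groth.Agent.H36.Mil
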