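import Mathlib
import Groth.Prelude.Def_Coh
import Groth.Prelude.Def_TorSh
import Groth.Agent.H17.TFDense

/-!
# Stalk maps of morphisms of modules over a sheaf of (noncommutative) algebras on a scheme (helper36)

For `A : Sheaf (Opens.grothendieckTopology X) RingCat` with `φ : O_X ⟶ A`, and `ψ : M ⟶ N` a morphism
of sheaves of `A`-modules:
* `stalkMap A ψ x : M_x →ₗ[A_x] N_x`, with `stalkMap_germ`.
* `eq_genericPoint_of_isField`: on an integral locally Noetherian scheme the only point whose local
  ring is a field is the generic point.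
* `eq_zero_of_germ_generic`: a section of an `A`-module whose underlying `O_X`-module is quasi-coherent
  torsion-free vanishes if its germ at the generic point vanishes.
* `mono_of_ne_zero`: a nonzero morphism from a module with simple generic stalk, both torsion-free
  quasi-coherent, is a monomorphism.
-/

set_option autoImplicit false
universe u
open CategoryTheory CategoryTheory.Limits AlgebraicGeometry TopologicalSpace Opposite

namespace Groth.Agent.H36.OrdStalk

variable {X : Scheme.{u}}

theorem eq_genericPoint_of_isField [IsIntegral X] [IsLocallyNoetherian X] (y : X)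
    (hy : IsField (X.presheaf.stalk y)) : y = genericPoint X := by
  by_contra hne
  have hcl : closure ({y} : Set X) ≠ Set.univ := by
    intro h
    have hg : IsGenericPoint y (⊤ : Set X) := h
    exact hne (hg.eq (genericPoint_spec X))
  let U : X.Opens := ⟨(closure ({y} : Set X))ᶜ, isClosed_closure.isOpen_compl⟩
  have hne' : (U : Set X).Nonempty := Set.nonempty_compl.mpr hcl
  have hd : Dense (U : Set X) := U.2.dense hne'
  have := Groth.Agent.H17.TFDense.mem_of_dense_of_isField U hd y hy
  exact this (subset_closure rfl)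

theorem isLocallyNoetherian_of_lft_field (k : Type u) [Field k] (X : Scheme.{u})
    [X.Over (Spec (CommRingCat.of k))] [LocallyOfFiniteType (X ↘ Spec (CommRingCat.of k))] :
    IsLocallyNoetherian X :=
  LocallyOfFiniteType.isLocallyNoetherian (X ↘ Spec (CommRingCat.of k))

variable (A : Sheaf (Opens.grothendieckTopology X) RingCat.{u})

/-- The stalk of `A` at `x`. -/
noncomputable abbrev stA (x : X) : RingCat.{u} :=
  TopCat.Presheaf.stalk (C := RingCat.{u}) (X := X.carrier) A.obj x

/-- The stalk of an `A`-module at `x`. -/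
noncomputable abbrev stM (M : SheafOfModules.{u} A) (x : X) : Ab.{u} :=
  TopCat.Presheaf.stalk (C := Ab.{u}) (X := X.carrier) M.val.presheaf x

variable {A}

/-- The additive stalk map. -/
noncomputable def stalkAdd {M N : SheafOfModules.{u} A} (ψ : M ⟶ N) (x : X) :
    stM A M x →+ stM A N x :=
  ((TopCat.Presheaf.stalkFunctor Ab.{u} (X := X.carrier) x).map
    ((PresheafOfModules.toPresheaf A.obj).map ψ.val)).hom

theorem stalkAdd_germ {M N : SheafOfModules.{u} A} (ψ : M ⟶ N) (x : X) (U : X.Opens) (hx : x ∈ U)
    (m : M.val.obj (op U)) :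
    stalkAdd ψ x (TopCat.Presheaf.germ (C := Ab.{u}) (X := X.carrier) M.val.presheaf U x hx m) =
      TopCat.Presheaf.germ (C := Ab.{u}) (X := X.carrier) N.val.presheaf U x hx
        ((ψ.val.app (op U)).hom m) :=
  TopCat.Presheaf.stalkFunctor_map_germ_apply (C := Ab.{u}) (X := X.carrier) U x hx
    ((PresheafOfModules.toPresheaf A.obj).map ψ.val) m

/-- The stalk map, linear over the stalk of `A`. -/
noncomputable def stalkMap {M N : SheafOfModules.{u} A} (ψ : M ⟶ N) (x : X) :
    stM A M x →ₗ[stA A x] stM A N x where
  toFun := stalkAdd ψ x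
  map_add' := map_add _
  map_smul' := by
    intro a m
    obtain ⟨U, hU, a', rfl⟩ := TopCat.Presheaf.exists_germ_eq (C := RingCat.{u}) (X := X.carrier) A.obj a
    obtain ⟨V, hV, m', rfl⟩ := TopCat.Presheaf.exists_germ_eq (C := Ab.{u}) (X := X.carrier)
      M.val.presheaf m
    have hW : x ∈ U ⊓ V := ⟨hU, hV⟩
    have ea : TopCat.Presheaf.germ (C := RingCat.{u}) (X := X.carrier) A.obj U x hU a' =
        TopCat.Presheaf.germ (C := RingCat.{u}) (X := X.carrier) A.obj (U ⊓ V) x hW
          (A.obj.map (homOfLE (inf_le_left : U ⊓ V ≤ U)).op a') :=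
      (TopCat.Presheaf.germ_res_apply (C := RingCat.{u}) (X := X.carrier) A.obj
        (homOfLE (inf_le_left : U ⊓ V ≤ U)) x hW a').symm
    have em : TopCat.Presheaf.germ (C := Ab.{u}) (X := X.carrier) M.val.presheaf V x hV m' =
        TopCat.Presheaf.germ (C := Ab.{u}) (X := X.carrier) M.val.presheaf (U ⊓ V) x hW
          (M.val.presheaf.map (homOfLE (inf_le_right : U ⊓ V ≤ V)).op m') :=
      (TopCat.Presheaf.germ_res_apply (C := Ab.{u}) (X := X.carrier) M.val.presheaf
        (homOfLE (inf_le_right : U ⊓ V ≤ V)) x hW m').symm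
    rw [ea, em]
    set a'' : A.obj.obj (op (U ⊓ V)) := A.obj.map (homOfLE (inf_le_left : U ⊓ V ≤ U)).op a'
    set m'' : M.val.obj (op (U ⊓ V)) :=
      M.val.presheaf.map (homOfLE (inf_le_right : U ⊓ V ≤ V)).op m'
    have h1 := PresheafOfModules.germ_ringCat_smul (X := X.carrier) (R := A.obj) M.val x (U ⊓ V) hW
      a'' m''
    have h2 := PresheafOfModules.germ_ringCat_smul (X := X.carrier) (R := A.obj) N.val x (U ⊓ V) hW
      a'' ((ψ.val.app (op (U ⊓ V))).hom m'')
    change stalkAdd ψ x (_ • _) = _ • stalkAdd ψ x _
    rw [← h1, stalkAdd_germ, stalkAdd_germ, map_smul, h2]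
    rfl

theorem stalkMap_germ {M N : SheafOfModules.{u} A} (ψ : M ⟶ N) (x : X) (U : X.Opens) (hx : x ∈ U)
    (m : M.val.obj (op U)) :
    stalkMap ψ x (TopCat.Presheaf.germ (C := Ab.{u}) (X := X.carrier) M.val.presheaf U x hx m) =
      TopCat.Presheaf.germ (C := Ab.{u}) (X := X.carrier) N.val.presheaf U x hx
        ((ψ.val.app (op U)).hom m) :=
  stalkAdd_germ ψ x U hx m

variable (φ : X.ringCatSheaf ⟶ A)

/-- A section of an `A`-module whose underlying `O_X`-module is quasi-coherent and torsion-free
vanishes as soon as its germ at the generic point vanishes. -/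
theorem eq_zero_of_germ_generic [IsIntegral X] [IsLocallyNoetherian X] (M : SheafOfModules.{u} A)
    (hMq : SheafOfModules.IsQuasicoherent (R := X.ringCatSheaf)
      ((SheafOfModules.restrictScalars φ).obj M))
    (hMt : TorSh.IsTorsionFree (X := X) ((SheafOfModules.restrictScalars φ).obj M))
    (U : X.Opens) (m : M.val.obj (op U))
    (h : ∀ hy : genericPoint X ∈ U,
      TopCat.Presheaf.germ (C := Ab.{u}) (X := X.carrier) M.val.presheaf U (genericPoint X) hy m = 0) :
    m = 0 := by
  have : ((SheafOfModules.restrictScalars φ).obj M).IsQuasicoherent := hMq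
  refine Groth.Agent.H17.TFReduced.eq_zero_of_germ_eq_zero (X := X)
    ((SheafOfModules.restrictScalars φ).obj M) hMt (U := U) m ?_
  intro y hy hfld
  obtain rfl := eq_genericPoint_of_isField y hfld
  exact h hy

theorem mono_of_ne_zero [IsIntegral X] [IsLocallyNoetherian X] (M N : SheafOfModules.{u} A)
    (hMq : SheafOfModules.IsQuasicoherent (R := X.ringCatSheaf)
      ((SheafOfModules.restrictScalars φ).obj M))
    (hMt : TorSh.IsTorsionFree (X := X) ((SheafOfModules.restrictScalars φ).obj M))
    (hNq : SheafOfModules.IsQuasicoherent (R := X.ringCatSheaf)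
      ((SheafOfModules.restrictScalars φ).obj N))
    (hNt : TorSh.IsTorsionFree (X := X) ((SheafOfModules.restrictScalars φ).obj N))
    (hMη : IsSimpleModule (stA A (genericPoint X)) (stM A M (genericPoint X)))
    (ψ : M ⟶ N) (hψ : ψ ≠ 0) : Mono ψ := by
  rcases (stalkMap ψ (genericPoint X)).injective_or_eq_zero with hinj | hz
  · have hmono : Mono ψ.val := by
      refine PresheafOfModules.mono_of_injective (fun U => ?_)
      rw [injective_iff_map_eq_zero]
      intro m hm
      refine eq_zero_of_germ_generic φ M hMq hMt U.unop m (fun hy => ?_)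
      apply hinj
      rw [map_zero, stalkMap_germ ψ (genericPoint X) U.unop hy m]
      have : (ψ.val.app (op U.unop)).hom m = 0 := hm
      rw [this]
      exact map_zero (TopCat.Presheaf.germ (C := Ab.{u}) (X := X.carrier) N.val.presheaf U.unop
        (genericPoint X) hy).hom
    exact (SheafOfModules.forget A).mono_of_mono_map hmono
  · exfalso
    apply hψ
    apply SheafOfModules.hom_ext
    apply PresheafOfModules.hom_ext
    intro U
    ext m
    refine eq_zero_of_germ_generic φ N hNq hNt U.unop _ (fun hy => ?_)
    rw [← stalkMap_germ ψ (genericPoint X) U.unop hy m, hz]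
    rfl

end Groth.Agent.H36.OrdStalk
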