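import Mathlib
import Groth.Prelude.Def_Coh
import Groth.Prelude.Def_TorSh
import Groth.Agent.H36.OrdStalk

/-!
# Scalar endomorphisms and the injective-or-zero dichotomy for modules over a sheaf of algebras
(helper36, for S19505)
-/

set_option autoImplicit false
set_option linter.style.haveILetI false
universe u
open CategoryTheory CategoryTheory.Limits AlgebraicGeometry TopologicalSpace Opposite

namespace Groth.Agent.H36.OrdEnd

open Groth.Agent.H36.OrdStalk

variable {X : Scheme.{u}} {A : Sheaf (Opens.grothendieckTopology X) RingCat.{u}}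

/-- A morphism of `A`-modules with simple generic source stalk is injective on all sections or
zero. -/
theorem injective_or_eq_zero (φ : X.ringCatSheaf ⟶ A) [IsIntegral X] [IsLocallyNoetherian X]
    (M N : SheafOfModules.{u} A)
    (hMq : SheafOfModules.IsQuasicoherent (R := X.ringCatSheaf)
      ((SheafOfModules.restrictScalars φ).obj M))
    (hMt : TorSh.IsTorsionFree (X := X) ((SheafOfModules.restrictScalars φ).obj M))
    (hNq : SheafOfModules.IsQuasicoherent (R := X.ringCatSheaf)
      ((SheafOfModules.restrictScalars φ).obj N))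
    (hNt : TorSh.IsTorsionFree (X := X) ((SheafOfModules.restrictScalars φ).obj N))
    (hMη : IsSimpleModule (stA A (genericPoint X)) (stM A M (genericPoint X)))
    (ψ : M ⟶ N) :
    (∀ U : (Opens X)ᵒᵖ, Function.Injective (ψ.val.app U).hom) ∨ ψ = 0 := by
  rcases (stalkMap ψ (genericPoint X)).injective_or_eq_zero with hinj | hz
  · left
    intro U
    rw [injective_iff_map_eq_zero]
    intro m hm
    refine eq_zero_of_germ_generic φ M hMq hMt U.unop m (fun hy => ?_)
    apply hinj
    rw [map_zero, stalkMap_germ ψ (genericPoint X) U.unop hy m]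
    have : (ψ.val.app (op U.unop)).hom m = 0 := hm
    rw [this]
    exact map_zero (TopCat.Presheaf.germ (C := Ab.{u}) (X := X.carrier) N.val.presheaf U.unop
      (genericPoint X) hy).hom
  · right
    apply SheafOfModules.hom_ext
    apply PresheafOfModules.hom_ext
    intro U
    ext m
    refine eq_zero_of_germ_generic φ N hNq hNt U.unop _ (fun hy => ?_)
    rw [← stalkMap_germ ψ (genericPoint X) U.unop hy m, hz]
    rfl

/-- Multiplication by a compatible family of central elements, as an endomorphism of an
`A`-module. -/
noncomputable def scalarEnd (M : SheafOfModules.{u} A) (a : ∀ U : (Opens X)ᵒᵖ, A.obj.obj U)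
    (hnat : ∀ {U V : (Opens X)ᵒᵖ} (f : U ⟶ V), A.obj.map f (a U) = a V)
    (hcen : ∀ (U : (Opens X)ᵒᵖ) (b : A.obj.obj U), a U * b = b * a U) : M ⟶ M :=
  ⟨PresheafOfModules.homMk (M₁ := M.val) (M₂ := M.val)
    { app := fun U => AddCommGrpCat.ofHom
        { toFun := fun m => (a U • (show M.val.obj U from m) : M.val.obj U)
          map_zero' := smul_zero _
          map_add' := fun x y => smul_add _ _ _ }
      naturality := fun U V f => by
        ext m
        show a V • M.val.map f m = M.val.map f (a U • (show M.val.obj U from m))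
        rw [PresheafOfModules.map_smul, hnat f] }
    (fun U r m => by
      show a U • (r • m) = r • (a U • m)
      rw [← mul_smul, ← mul_smul, hcen U r])⟩

lemma scalarEnd_app (M : SheafOfModules.{u} A) (a : ∀ U : (Opens X)ᵒᵖ, A.obj.obj U)
    (hnat : ∀ {U V : (Opens X)ᵒᵖ} (f : U ⟶ V), A.obj.map f (a U) = a V)
    (hcen : ∀ (U : (Opens X)ᵒᵖ) (b : A.obj.obj U), a U * b = b * a U)
    (U : (Opens X)ᵒᵖ) (m : M.val.obj U) :
    ((scalarEnd M a hnat hcen).val.app U).hom m = a U • m := rfl

end Groth.Agent.H36.OrdEnd
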