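import Groth.Agent.H36.OrdStalk
import Groth.Agent.H17.KerLocFree
import Groth.Agent.S9825
import Groth.Agent.H8.LocFreeNearFinite
import Groth.Agent.H8.LocFreeStalk
import Groth.Agent.H8.QCohStalk

/-!
# Stalks of modules over a sheaf of algebras, II (helper36)

For `φ : O_X ⟶ A` (sheaf of not necessarily commutative rings on a scheme `X`):
* `phiStalk φ x : O_{X,x} →+* A_x` with `phiStalk_germ`;
* `smul_stalk`: the `O_{X,x}`-action on the stalk of the underlying `O_X`-module of an `A`-module `M`
  is the `A_x`-action through `phiStalk`;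
* `unitEquiv`: the stalk of `A` (as `A`-module) is free of rank one over `A_x`;
* `projective_compHom`: projectivity descends along a ring map `R → S` with `S` projective over `R`;
* `free_stalk_of_projective`: if the underlying `O_X`-module of `A` has free stalks and `M_x` is
  projective over `A_x` and finite over `O_{X,x}`, then `M_x` is free over `O_{X,x}`.
-/

set_option autoImplicit false
universe u
open CategoryTheory CategoryTheory.Limits AlgebraicGeometry TopologicalSpace Opposite

namespace Groth.Agent.H36.OrdStalk2

open Groth.Agent.H36.OrdStalk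

section Alg

theorem projective_compHom {R S P : Type u} [CommRing R] [Ring S] (f : R →+* S)
    [AddCommGroup P] [Module S P] [Module.Projective S P]
    (hS : @Module.Projective R _ S _ (Module.compHom S f)) :
    @Module.Projective R _ P _ (Module.compHom P f) := by
  classical
  let iS : Module R S := Module.compHom S f
  let iP : Module R P := Module.compHom P f
  obtain ⟨s, hs⟩ := Module.projective_def'.mp (inferInstance : Module.Projective S P)
  have : Module.Projective R (Π₀ _ : P, S) := inferInstance
  have : Module.Projective R (P →₀ S) :=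
    Module.Projective.of_equiv' (finsuppLequivDFinsupp (ι := P) (M := S) R).symm
  have hsm : ∀ (r : R) (v : P →₀ S), r • v = f r • v := by
    intro r v
    ext p
    rfl
  let π : (P →₀ S) →ₗ[R] P :=
    { toFun := fun v => Finsupp.linearCombination S id v
      map_add' := fun a b => map_add _ a b
      map_smul' := fun r v => by
        rw [hsm, map_smul]
        rfl }
  let σ : P →ₗ[R] (P →₀ S) :=
    { toFun := fun m => s m
      map_add' := fun a b => map_add _ a b
      map_smul' := fun r m => by
        change s (f r • m) = _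
        rw [map_smul, RingHom.id_apply, hsm] }
  refine Module.Projective.of_split σ π ?_
  ext m
  exact LinearMap.congr_fun hs m

end Alg

variable {X : Scheme.{u}} {A : Sheaf (Opens.grothendieckTopology X) RingCat.{u}}
  (φ : X.ringCatSheaf ⟶ A)

/-- The underlying `O_X`-module of an `A`-module. -/
noncomputable abbrev resO (M : SheafOfModules.{u} A) : X.Modules :=
  (SheafOfModules.restrictScalars φ).obj M

/-- The cocone defining the stalk map of `φ`. -/
noncomputable def phiCocone (x : X) :
    Cocone (((OpenNhds.inclusion x).op ⋙ X.presheaf) ⋙ forget₂ CommRingCat.{u} RingCat.{u}) where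
  pt := stA A x
  ι :=
    { app := fun U => φ.hom.app (op U.unop.1) ≫
        TopCat.Presheaf.germ (C := RingCat.{u}) (X := X.carrier) A.obj U.unop.1 x U.unop.2
      naturality := by
        intro U V i
        apply RingCat.hom_ext
        apply RingHom.ext
        intro r
        have h1 := ConcreteCategory.congr_hom (φ.hom.naturality ((OpenNhds.inclusion x).op.map i)) r
        have h2 := TopCat.Presheaf.germ_res_apply (C := RingCat.{u}) (X := X.carrier) A.obj
          (((OpenNhds.inclusion x).op.map i).unop) x V.unop.2
          (φ.hom.app (op U.unop.1) r)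
        exact (congrArg (fun z => TopCat.Presheaf.germ (C := RingCat.{u}) (X := X.carrier) A.obj
          V.unop.1 x V.unop.2 z) h1).trans h2 }

/-- The stalk map `O_{X,x} → A_x` of `φ`. -/
noncomputable def phiStalk (x : X) : X.presheaf.stalk x →+* stA A x :=
  ((isColimitOfPreserves (forget₂ CommRingCat.{u} RingCat.{u})
    (colimit.isColimit ((OpenNhds.inclusion x).op ⋙ X.presheaf))).desc (phiCocone φ x)).hom

theorem phiStalk_germ (x : X) (U : X.Opens) (hx : x ∈ U) (r : Γ(X, U)) :
    phiStalk φ x (X.presheaf.germ U x hx r) =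
      TopCat.Presheaf.germ (C := RingCat.{u}) (X := X.carrier) A.obj U x hx (φ.hom.app (op U) r) :=
  ConcreteCategory.congr_hom ((isColimitOfPreserves (forget₂ CommRingCat.{u} RingCat.{u})
    (colimit.isColimit ((OpenNhds.inclusion x).op ⋙ X.presheaf))).fac (phiCocone φ x)
      (op ⟨U, hx⟩)) r

theorem smul_stalk (M : SheafOfModules.{u} A) (x : X) (r : X.presheaf.stalk x)
    (m : (resO φ M).presheaf.stalk x) :
    r • m = (phiStalk φ x r • (show stM A M x from m) : stM A M x) := by
  obtain ⟨U, hU, r', rfl⟩ := TopCat.Presheaf.exists_germ_eq (C := CommRingCat.{u}) X.presheaf r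
  obtain ⟨V, hV, m', rfl⟩ := TopCat.Presheaf.exists_germ_eq (C := Ab.{u}) (X := X.carrier)
    (resO φ M).presheaf m
  have hW : x ∈ U ⊓ V := ⟨hU, hV⟩
  have er : X.presheaf.germ U x hU r' = X.presheaf.germ (U ⊓ V) x hW
      (X.presheaf.map (homOfLE (inf_le_left : U ⊓ V ≤ U)).op r') :=
    (TopCat.Presheaf.germ_res_apply X.presheaf (homOfLE (inf_le_left : U ⊓ V ≤ U)) x hW r').symm
  have em : (resO φ M).presheaf.germ V x hV m' = (resO φ M).presheaf.germ (U ⊓ V) x hW
      ((resO φ M).presheaf.map (homOfLE (inf_le_right : U ⊓ V ≤ V)).op m') :=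
    (TopCat.Presheaf.germ_res_apply (C := Ab.{u}) (X := X.carrier) (resO φ M).presheaf
      (homOfLE (inf_le_right : U ⊓ V ≤ V)) x hW m').symm
  rw [er, em]
  set r'' : Γ(X, U ⊓ V) := X.presheaf.map (homOfLE (inf_le_left : U ⊓ V ≤ U)).op r'
  set m'' : Γ(resO φ M, U ⊓ V) :=
    (resO φ M).presheaf.map (homOfLE (inf_le_right : U ⊓ V ≤ V)).op m'
  rw [← Groth.Agent.H8.germ_smul (resO φ M) x hW r'' m'', phiStalk_germ]
  exact PresheafOfModules.germ_ringCat_smul (X := X.carrier) (R := A.obj) M.val x (U ⊓ V) hW
    (φ.hom.app (op (U ⊓ V)) r'') m''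

/-- The germ of `1` in the stalk of `A` regarded as an `A`-module. -/
noncomputable def oneGerm (x : X) : stM A (SheafOfModules.unit A) x :=
  TopCat.Presheaf.germ (C := Ab.{u}) (X := X.carrier) (SheafOfModules.unit A).val.presheaf ⊤ x
    trivial (1 : A.obj.obj (op ⊤))

theorem germ_one (x : X) (U : X.Opens) (hx : x ∈ U) :
    TopCat.Presheaf.germ (C := Ab.{u}) (X := X.carrier) (SheafOfModules.unit A).val.presheaf U x hx
      (1 : A.obj.obj (op U)) = oneGerm (A := A) x := by
  have h := TopCat.Presheaf.germ_res_apply (C := Ab.{u}) (X := X.carrier)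
    (SheafOfModules.unit A).val.presheaf (homOfLE (le_top : U ≤ ⊤)) x hx (1 : A.obj.obj (op ⊤))
  refine Eq.trans ?_ h
  congr 1
  exact (map_one (A.obj.map (homOfLE (le_top : U ≤ ⊤)).op).hom).symm

theorem germ_unit (x : X) (U : X.Opens) (hx : x ∈ U) (a : A.obj.obj (op U)) :
    TopCat.Presheaf.germ (C := Ab.{u}) (X := X.carrier) (SheafOfModules.unit A).val.presheaf U x hx a =
      TopCat.Presheaf.germ (C := RingCat.{u}) (X := X.carrier) A.obj U x hx a • oneGerm (A := A) x := by
  rw [← germ_one x U hx]
  have h := PresheafOfModules.germ_ringCat_smul (X := X.carrier) (R := A.obj)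
    (SheafOfModules.unit A).val x U hx a (1 : A.obj.obj (op U))
  refine Eq.trans ?_ h
  congr 1
  exact (mul_one a).symm

/-- `A_x → (A as A-module)_x`, `s ↦ s • 1`. -/
noncomputable def unitMap (x : X) : stA A x →ₗ[stA A x] stM A (SheafOfModules.unit A) x :=
  LinearMap.toSpanSingleton (stA A x) (stM A (SheafOfModules.unit A) x) (oneGerm (A := A) x)

theorem unitMap_bijective (x : X) : Function.Bijective (unitMap (A := A) x) := by
  constructor
  · rw [injective_iff_map_eq_zero]
    intro s hs
    obtain ⟨U, hU, a, rfl⟩ := TopCat.Presheaf.exists_germ_eq (C := RingCat.{u}) (X := X.carrier) A.obj s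
    have h1 : TopCat.Presheaf.germ (C := Ab.{u}) (X := X.carrier)
        (SheafOfModules.unit A).val.presheaf U x hU a = 0 := by
      rw [germ_unit]
      exact hs
    have h2 : TopCat.Presheaf.germ (C := Ab.{u}) (X := X.carrier)
        (SheafOfModules.unit A).val.presheaf U x hU a =
        TopCat.Presheaf.germ (C := Ab.{u}) (X := X.carrier)
        (SheafOfModules.unit A).val.presheaf U x hU (0 : A.obj.obj (op U)) := by
      rw [h1]
      exact (map_zero (TopCat.Presheaf.germ (C := Ab.{u}) (X := X.carrier)
        (SheafOfModules.unit A).val.presheaf U x hU).hom).symm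
    obtain ⟨W, hW, iU, iV, e⟩ := TopCat.Presheaf.germ_eq (C := Ab.{u}) (X := X.carrier)
      (SheafOfModules.unit A).val.presheaf x hU hU a (0 : A.obj.obj (op U)) h2
    have e' : (A.obj.map iU.op).hom a = 0 := by
      have e0 : (A.obj.map iU.op).hom a = (A.obj.map iV.op).hom (0 : A.obj.obj (op U)) := e
      rw [e0, map_zero]
    rw [← TopCat.Presheaf.germ_res_apply (C := RingCat.{u}) (X := X.carrier) A.obj iU x hW a]
    have : (ConcreteCategory.hom (A.obj.map iU.op)) a = 0 := e'
    rw [this, map_zero]
  · intro n
    obtain ⟨U, hU, a, rfl⟩ := TopCat.Presheaf.exists_germ_eq (C := Ab.{u}) (X := X.carrier)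
      (SheafOfModules.unit A).val.presheaf n
    exact ⟨TopCat.Presheaf.germ (C := RingCat.{u}) (X := X.carrier) A.obj U x hU a,
      (germ_unit x U hU a).symm⟩

/-- If the underlying `O_X`-module of `A` has a projective stalk at `x`, then `A_x` is projective
over `O_{X,x}` through `phiStalk`. -/
theorem projective_stA (x : X)
    (h : Module.Projective (X.presheaf.stalk x) ((resO φ (SheafOfModules.unit A)).presheaf.stalk x)) :
    @Module.Projective (X.presheaf.stalk x) _ (stA A x) _ (Module.compHom (stA A x) (phiStalk φ x)) := by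
  let iS : Module (X.presheaf.stalk x) (stA A x) := Module.compHom (stA A x) (phiStalk φ x)
  let g : stA A x →ₗ[X.presheaf.stalk x] (resO φ (SheafOfModules.unit A)).presheaf.stalk x :=
    { toFun := fun s => (unitMap (A := A) x s : stM A (SheafOfModules.unit A) x)
      map_add' := fun a b => map_add (unitMap (A := A) x) a b
      map_smul' := fun r s => by
        have h1 : unitMap (A := A) x (phiStalk φ x r * s) =
            phiStalk φ x r • unitMap (A := A) x s := by
          rw [← smul_eq_mul, map_smul]
        have h2 := smul_stalk φ (SheafOfModules.unit A) x r (unitMap (A := A) x s)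
        exact h1.trans h2.symm }
  let e : stA A x ≃ₗ[X.presheaf.stalk x] (resO φ (SheafOfModules.unit A)).presheaf.stalk x :=
    LinearEquiv.ofBijective g (unitMap_bijective (A := A) x)
  exact Module.Projective.of_equiv' e.symm

/-- Stalkwise criterion. -/
theorem free_stalk_of_projective (M : SheafOfModules.{u} A) (x : X)
    (hA : Module.Projective (X.presheaf.stalk x)
      ((resO φ (SheafOfModules.unit A)).presheaf.stalk x))
    (hMp : Module.Projective (stA A x) (stM A M x))
    (hfin : Module.Finite (X.presheaf.stalk x) ((resO φ M).presheaf.stalk x)) :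
    Module.Free (X.presheaf.stalk x) ((resO φ M).presheaf.stalk x) := by
  have h1 := projective_compHom (phiStalk φ x) (P := stM A M x) (projective_stA φ x hA)
  have hinst : (Module.compHom (stM A M x) (phiStalk φ x) :
      Module (X.presheaf.stalk x) (stM A M x)) = FlatMod.moduleStalk (resO φ M) x := by
    refine Module.ext' _ _ (fun r m => ?_)
    exact (smul_stalk φ M x r m).symm
  rw [hinst] at h1
  have : Module.Projective (X.presheaf.stalk x) ((resO φ M).presheaf.stalk x) := h1
  exact Module.free_of_flat_of_isLocalRing

end Groth.Agent.H36.OrdStalk2
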