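import Groth.Agent.S16721
import Groth.Agent.S12496
import Groth.Agent.H50.Descent
import Groth.Agent.H50.Etale
import Groth.Agent.H32.SpTrack
import Groth.Agent.S5139

/-!
# The atlas `X ⟶ [X/G]` of a quotient stack (helper36)

* `hom_eq_of_comp_eq`, `exists_lift`: every morphism of `[X/G]` is strongly cartesian.
* `homA_char`: morphisms from a trivial torsor to an object `A` are the `secHom A s`.
* `pi_prop`: properties of `G ⟶ S` that descend along fpqc coverings pass to the torsor maps.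
-/

set_option autoImplicit false
universe u
open CategoryTheory AlgebraicGeometry CategoryTheory.Limits MonoidalCategory
  CartesianMonoidalCategory MonObj GrpObj Opposite

namespace Groth.Agent.H36.QuotAtlas

open Groth.Agent.S12838 (act_mul act_one)
open Groth.Agent.S16721 (secHom secHom_base isIso_of_isIso_base)

variable {S : Scheme.{u}} {G : Over S} [GrpObj G] {X : Over S} {aX : AlgGrp.Action G X}

/-- objects of the fppf quotient stack. -/
abbrev QO (aX : AlgGrp.Action G X) := AlgSt.QuotObj Scheme.fppfPrecoverage G aX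

/-- morphisms into the source of a morphism of `[X/G]` are determined by their base and their
composite with it. -/
theorem hom_eq_of_comp_eq {A B C : QO aX} (h : B ⟶ A) (χ₁ χ₂ : C ⟶ B) (hb : χ₁.base = χ₂.base)
    (hc : χ₁ ≫ h = χ₂ ≫ h) : χ₁ = χ₂ := by
  apply AlgSt.QuotObj.hom_ext hb
  apply h.cart.hom_ext
  · exact congrArg AlgSt.QuotObj.Hom.top hc
  · rw [χ₁.cart.w, χ₂.cart.w, hb]

/-- every morphism of `[X/G]` is strongly cartesian: existence of lifts. -/
theorem exists_lift {A B C : QO aX} (h : B ⟶ A) (k : C ⟶ A) (g : C.base ⟶ B.base)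
    (hg : k.base = g ≫ h.base) : ∃ χ : C ⟶ B, χ.base = g ∧ χ ≫ h = k := by
  have hw : k.top ≫ A.π = (C.π ≫ g) ≫ h.base := by rw [k.cart.w, hg, Category.assoc]
  obtain ⟨tp, h1, h2⟩ : ∃ tp : C.P ⟶ B.P, tp ≫ h.top = k.top ∧ tp ≫ B.π = C.π ≫ g :=
    ⟨h.cart.lift _ _ hw, h.cart.lift_fst _ _ _, h.cart.lift_snd _ _ _⟩
  have e1 : C.act.act ≫ tp = (G ◁ tp) ≫ B.act.act := by
    apply h.cart.hom_ext
    · calc (C.act.act ≫ tp) ≫ h.top = C.act.act ≫ k.top := by rw [Category.assoc, h1]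
        _ = (G ◁ k.top) ≫ A.act.act := k.eqv
        _ = (G ◁ tp) ≫ (G ◁ h.top) ≫ A.act.act := by
          rw [← h1, MonoidalCategory.whiskerLeft_comp, Category.assoc]
        _ = (G ◁ tp) ≫ B.act.act ≫ h.top := by rw [h.eqv]
        _ = ((G ◁ tp) ≫ B.act.act) ≫ h.top := by rw [Category.assoc]
    · calc (C.act.act ≫ tp) ≫ B.π = C.act.act ≫ C.π ≫ g := by rw [Category.assoc, h2]
        _ = snd G C.P ≫ C.π ≫ g := by rw [← Category.assoc, C.cart.w, Category.assoc]
        _ = snd G C.P ≫ tp ≫ B.π := by rw [h2]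
        _ = (G ◁ tp) ≫ snd G B.P ≫ B.π := by rw [whiskerLeft_snd_assoc]
        _ = ((G ◁ tp) ≫ B.act.act) ≫ B.π := by rw [Category.assoc, B.cart.w]
  have s0 : IsPullback (tp ≫ h.top) C.π A.π (g ≫ h.base) := by
    rw [h1, ← hg]
    exact k.cart
  have e2 : IsPullback tp C.π B.π g := IsPullback.of_right s0 h2 h.cart
  have e3 : tp ≫ B.φ = C.φ := by rw [← h.wφ, ← Category.assoc, h1, k.wφ]
  exact ⟨AlgSt.QuotObj.Hom.mk g tp e1 e2 e3, rfl, AlgSt.QuotObj.hom_ext hg.symm h1⟩

theorem secHom_top (A : QO aX) {T : Over S} (s : T ⟶ A.P) :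
    (secHom aX A s).top = (G ◁ s) ≫ A.act.act := rfl

/-- the unit section recovers the point. -/
theorem unit_secHom_top (A : QO aX) {T : Over S} (s : T ⟶ A.P) :
    lift (toUnit T ≫ η[G]) (𝟙 T) ≫ (G ◁ s) ≫ A.act.act = s := by
  rw [lift_whiskerLeft_assoc, Category.id_comp]
  exact act_one A.act s

/-- morphisms from a trivial torsor to `A` come from points of the total space of `A`. -/
theorem homA_char (A : QO aX) {T : Over S} (x : T ⟶ X)
    (m : (AlgSt.quotMap Scheme.fppfPrecoverage G aX).obj (⟨T, ⟨x⟩⟩ : (AlgSt.ofSch X).obj) ⟶ A) :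
    ∃ s : T ⟶ A.P, s ≫ A.φ = x ∧ m.base = s ≫ A.π ∧ m.top = (G ◁ s) ≫ A.act.act := by
  obtain ⟨tp, htp⟩ : ∃ tp : G ⊗ T ⟶ A.P, tp = m.top := ⟨_, rfl⟩
  obtain ⟨mb, hmb⟩ : ∃ mb : T ⟶ A.base, mb = m.base := ⟨_, rfl⟩
  have hsnd : tp ≫ A.π = snd G T ≫ mb := by rw [htp, hmb]; exact m.cart.w
  have heq : (AlgSt.leftMul G T).act ≫ tp = (G ◁ tp) ≫ A.act.act := by rw [htp]; exact m.eqv
  have hφ : tp ≫ A.φ = (G ◁ x) ≫ aX.act := by rw [htp]; exact m.wφ
  obtain ⟨v, hv⟩ : ∃ v : T ⟶ G ⊗ T, v = lift (toUnit T ≫ η[G]) (𝟙 T) := ⟨_, rfl⟩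
  have hv1 : v ≫ fst G T = 1 := by rw [hv, lift_fst, ← Hom.one_def]
  have hv2 : v ≫ snd G T = 𝟙 _ := by rw [hv, lift_snd]
  refine ⟨v ≫ tp, ?_, ?_, ?_⟩
  · rw [Category.assoc, hφ, hv, lift_whiskerLeft_assoc, Category.id_comp]
    exact act_one aX _
  · rw [← hmb, Category.assoc, hsnd, ← Category.assoc, hv2, Category.id_comp]
  · have hψ : lift (fst G T) (snd G T ≫ v) ≫ (AlgSt.leftMul G T).act = 𝟙 _ := by
      apply CartesianMonoidalCategory.hom_ext
      · simp only [AlgSt.leftMul, Category.assoc, lift_fst, lift_snd, comp_mul, lift_fst_assoc,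
          lift_snd_assoc, Category.id_comp]
        rw [hv1, comp_one, _root_.mul_one]
      · simp only [AlgSt.leftMul, Category.assoc, lift_snd, lift_snd_assoc, Category.id_comp]
        rw [hv2, Category.comp_id]
    have key : tp = lift (fst G T) (snd G T ≫ v) ≫ (G ◁ tp) ≫ A.act.act := by
      rw [← heq, ← Category.assoc, hψ, Category.id_comp]
    have e : lift (fst G T) (snd G T ≫ v) ≫ (G ◁ tp) = G ◁ (v ≫ tp) := by
      apply CartesianMonoidalCategory.hom_ext <;>
        simp only [Category.assoc, lift_fst, lift_snd, whiskerLeft_fst, whiskerLeft_snd,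
          lift_fst_assoc, lift_snd_assoc]
    rw [← htp]
    calc tp = lift (fst G T) (snd G T ≫ v) ≫ (G ◁ tp) ≫ A.act.act := key
      _ = (G ◁ (v ≫ tp)) ≫ A.act.act := by rw [← Category.assoc, e]

/-- a morphism from a trivial torsor with the base and top of `secHom` is `secHom`. -/
theorem hom_eq_secHom (A : QO aX) {T : Over S} (s : T ⟶ A.P)
    (m : (AlgSt.quotMap Scheme.fppfPrecoverage G aX).obj
      (⟨T, ⟨s ≫ A.φ⟩⟩ : (AlgSt.ofSch X).obj) ⟶ A)
    (hb : m.base = s ≫ A.π) (ht : m.top = (G ◁ s) ≫ A.act.act) : m = secHom aX A s :=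
  AlgSt.QuotObj.hom_ext hb ht

/-- the torsor map of an object of `[X/G]` is surjective. -/
theorem pi_surjective (A : QO aX) : Surjective A.π.left := by
  obtain ⟨R, hR, hsec⟩ := A.loc
  obtain ⟨hsurj, -⟩ := Groth.Agent.H49.mem_fppfPrecoverage_iff.1 hR
  refine ⟨fun u => ?_⟩
  obtain ⟨T', r, hr, ⟨t', ht'⟩⟩ := hsurj u
  obtain ⟨s, hs⟩ := hsec r hr
  have hs' : s ≫ A.π.left = r := hs
  refine ⟨s t', ?_⟩
  rw [← Scheme.Hom.comp_apply, hs']
  exact ht'

/-- properties of `G ⟶ S` which are local for the fpqc topology pass to the torsor maps. -/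
theorem pi_prop (P : MorphismProperty Scheme.{u}) [IsZariskiLocalAtTarget P]
    [P.IsStableUnderBaseChange]
    (hP : P.DescendsAlong (@Surjective ⊓ @Flat ⊓ @QuasiCompact : MorphismProperty Scheme.{u}))
    (A : QO aX) (hG : P G.hom) : P A.π.left := by
  obtain ⟨R, hR, hsec⟩ := A.loc
  have hR' : R ∈ Scheme.fpqcPrecoverage A.base.left :=
    Scheme.fppfPrecoverage_le_fpqcPrecoverage _ hR
  obtain ⟨𝒰, h𝒰⟩ := Precoverage.mem_iff_exists_zeroHypercover.mp hR'
  refine Groth.Agent.S12496.result P hP A.π.left 𝒰 fun i => ?_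
  have hi : R (𝒰.f i) := by rw [h𝒰]; exact Presieve.ofArrows.mk i
  obtain ⟨s, hs⟩ := hsec _ hi
  have hs' : s ≫ A.π.left = 𝒰.f i := hs
  have hw : s ≫ A.P.hom = 𝒰.f i ≫ A.base.hom := by rw [← hs', Category.assoc, Over.w A.π]
  obtain ⟨s', hs'def⟩ : ∃ s' : Over.mk (𝒰.f i ≫ A.base.hom) ⟶ A.P, s'.left = s :=
    ⟨Over.homMk s hw, rfl⟩
  have sq := (secHom aX A s').cart.map (Over.forget S)
  have hbase : (Over.forget S).map (secHom aX A s').base = 𝒰.f i := by
    show (s' ≫ A.π).left = 𝒰.f i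
    rw [Over.comp_left, hs'def]
    exact hs'
  rw [hbase] at sq
  have sq' : IsPullback (secHom aX A s').top.left (snd G (Over.mk (𝒰.f i ≫ A.base.hom))).left
      A.π.left (𝒰.f i) := sq
  rw [← P.cancel_left_of_respectsIso sq'.isoPullback.hom, sq'.isoPullback_hom_snd, Over.snd_left]
  exact P.pullback_snd _ _ hG

/-- a morphism of `[X/G]` whose base is an `eqToHom` lies over the identity. -/
theorem isHomLift_id_of_base {C B : QO aX} (χ : C ⟶ B) (hC : C.base = B.base)
    (h : χ.base = eqToHom hC) :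
    (AlgSt.QuotObj.forget Scheme.fppfPrecoverage G aX).IsHomLift (𝟙 B.base) χ := by
  refine IsHomLift.of_fac' _ _ _ hC rfl ?_
  show χ.base = eqToHom hC ≫ 𝟙 _ ≫ eqToHom rfl
  rw [h, eqToHom_refl, Category.id_comp, Category.comp_id]

/-- the base of a morphism lying over an identity is an `eqToHom`. -/
theorem base_eq_of_isHomLift {A B : QO aX} (χ : A ⟶ B) {T : Over S}
    (h : (AlgSt.QuotObj.forget Scheme.fppfPrecoverage G aX).IsHomLift (𝟙 T) χ) :
    ∃ hAB : A.base = B.base, χ.base = eqToHom hAB := by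
  have := h
  have h1 : A.base = T :=
    IsHomLift.domain_eq (AlgSt.QuotObj.forget Scheme.fppfPrecoverage G aX) (𝟙 T) χ
  have h2 : B.base = T :=
    IsHomLift.codomain_eq (AlgSt.QuotObj.forget Scheme.fppfPrecoverage G aX) (𝟙 T) χ
  have h3 : χ.base = eqToHom h1 ≫ 𝟙 T ≫ eqToHom h2.symm :=
    IsHomLift.fac' (AlgSt.QuotObj.forget Scheme.fppfPrecoverage G aX) (𝟙 T) χ
  refine ⟨h1.trans h2.symm, ?_⟩
  rw [h3, Category.id_comp, eqToHom_trans]

/-- two morphisms lying over the same identity have the same base. -/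
theorem base_eq_of_isHomLift_id {A B : QO aX} (χ₁ χ₂ : A ⟶ B) {T : Over S}
    (h₁ : (AlgSt.QuotObj.forget Scheme.fppfPrecoverage G aX).IsHomLift (𝟙 T) χ₁)
    (h₂ : (AlgSt.QuotObj.forget Scheme.fppfPrecoverage G aX).IsHomLift (𝟙 T) χ₂) :
    χ₁.base = χ₂.base := by
  obtain ⟨e₁, q₁⟩ := base_eq_of_isHomLift χ₁ h₁
  obtain ⟨e₂, q₂⟩ := base_eq_of_isHomLift χ₂ h₂
  rw [q₁, q₂]

/-- comparing the bases of a commuting square whose vertical sides lie over identities. -/
theorem base_comm_aux {A' A B' B : QO aX} {f : A' ⟶ A} {g : B' ⟶ B} {e' : A' ⟶ B'} {e : A ⟶ B}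
    (hA' : A'.base = B'.base) (hA : A.base = B.base) {a : B'.base ⟶ B.base}
    (hf : f.base = eqToHom hA' ≫ a ≫ eqToHom hA.symm) (he' : e'.base = eqToHom hA')
    (he : e.base = eqToHom hA) (hw : f ≫ e = e' ≫ g) : a = g.base := by
  have h : f.base ≫ e.base = e'.base ≫ g.base := congrArg AlgSt.QuotObj.Hom.base hw
  rw [hf, he, he'] at h
  simp only [Category.assoc, eqToHom_trans, eqToHom_refl, Category.comp_id] at h
  exact (cancel_epi (eqToHom hA')).1 h

theorem comp_eqToHom_cancel {C : Type*} [Category C] {X Y Z V W : C} (e : X ⟶ Y) (a : Y ⟶ Z)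
    (b : Z ⟶ V) (h : V = W) :
    e ≫ (a ≫ b ≫ eqToHom h) ≫ eqToHom h.symm = e ≫ a ≫ b := by
  subst h
  simp

/-- the bases of a square whose vertical sides lie over identities commute. -/
theorem base_comm_aux' {A' A B' B : QO aX} {f : A' ⟶ A} {g : B' ⟶ B} {e' : A' ⟶ B'}
    {e : A ⟶ B} (hA' : A'.base = B'.base) (hA : A.base = B.base)
    (hf : f.base = eqToHom hA' ≫ g.base ≫ eqToHom hA.symm) (he' : e'.base = eqToHom hA')
    (he : e.base = eqToHom hA) : (f ≫ e).base = (e' ≫ g).base := by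
  show f.base ≫ e.base = e'.base ≫ g.base
  rw [hf, he, he']
  simp only [Category.assoc, eqToHom_trans, eqToHom_refl, Category.comp_id]

/-- recovering a morphism of the base from a composite with a morphism over an identity. -/
theorem base_aux {A B C : QO aX} {V : Over S} (f : A ⟶ B) (g : B ⟶ C) (hB : B.base = A.base)
    (hC : C.base = V) (t : A.base ⟶ V) (hf : f.base = eqToHom hB.symm)
    (hg : g.base = eqToHom hB ≫ t ≫ eqToHom hC.symm) : t = (f ≫ g).base ≫ eqToHom hC := by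
  show t = (f.base ≫ g.base) ≫ eqToHom hC
  rw [hf, hg]
  simp only [Category.assoc, eqToHom_trans, eqToHom_trans_assoc, eqToHom_refl, Category.comp_id,
    Category.id_comp]

/-- precomposing `secHom` with the image of a morphism of points. -/
theorem secHom_precomp (A : QO aX) {T' T : Over S} (t : T' ⟶ T) (s : T ⟶ A.P) (s' : T' ⟶ A.P)
    (h : t ≫ s = s')
    (mm : (AlgSt.quotMap Scheme.fppfPrecoverage G aX).obj
        (⟨T', ⟨s' ≫ A.φ⟩⟩ : (AlgSt.ofSch X).obj) ⟶
      (AlgSt.quotMap Scheme.fppfPrecoverage G aX).obj (⟨T, ⟨s ≫ A.φ⟩⟩ : (AlgSt.ofSch X).obj))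
    (hb : mm.base = t) (ht : mm.top = G ◁ t) : mm ≫ secHom aX A s = secHom aX A s' := by
  apply AlgSt.QuotObj.hom_ext
  · show mm.base ≫ (s ≫ A.π) = s' ≫ A.π
    rw [hb]
    show (t ≫ s ≫ A.π : T' ⟶ A.base) = s' ≫ A.π
    rw [← Category.assoc, h]
  · show mm.top ≫ ((G ◁ s) ≫ A.act.act) = (G ◁ s') ≫ A.act.act
    rw [ht]
    show ((G ◁ t) ≫ (G ◁ s) ≫ A.act.act : G ⊗ T' ⟶ A.P) = (G ◁ s') ≫ A.act.act
    rw [← Category.assoc, ← MonoidalCategory.whiskerLeft_comp, h]

/-- the structure morphism of `Φ(T, x)`, computed from the value of `Φ`. -/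
theorem algSt_secHom_eq {F : AlgSp.Sp S} {U : Over S} (Φ : AlgSt.ofSp F ⥤ᵇ FibCat.overCat U)
    (a : (AlgSt.ofSp F).obj) (f : a.base ⟶ U) (h : Φ.obj a = Over.mk f) :
    AlgSt.secHom Φ a = f := by
  have key : ∀ (o : Over U) (ho : o.left = a.base), o = Over.mk f →
      eqToHom ho.symm ≫ o.hom = f := by
    intro o ho h'
    subst h'
    simp
  exact key (Φ.obj a) (Φ.w_obj a) h

/-- surjective morphisms of schemes give surjective maps of sheaves. -/
theorem isSurjectiveMor_yon_map {T T' : Over S} (φ : T ⟶ T') (h : Surjective φ.left) :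
    AlgSp.IsSurjectiveMor ((AlgSp.yon S).map φ) := by
  show Function.Surjective (AlgSp.Points.map ((AlgSp.yon S).map φ))
  rw [AlgSp.Points.map_yon_map_eq]
  exact (AlgSp.Points.schemeHomeo T').surjective.comp
    (h.surj.comp (AlgSp.Points.schemeHomeo T).symm.surjective)

/-- morphisms of schemes with `P` give morphisms of sheaves with `P` locally. -/
theorem locP_yon_map (P : MorphismProperty Scheme.{u}) [P.IsStableUnderComposition]
    [P.IsStableUnderBaseChange] (hP : ∀ ⦃A B : Scheme.{u}⦄ (g : A ⟶ B), Etale g → P g)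
    {T T' : Over S} (φ : T ⟶ T') (h : P φ.left) : AlgSp.LocP P ((AlgSp.yon S).map φ) :=
  Groth.Agent.H50.locP_of_repWith hP ((AlgSp.repWith_yon_map_iff P φ).2 h)

section fp

variable {U : Over S} (y : FibCat.overCat U ⥤ᵇ AlgSt.QuotSt Scheme.fppfPrecoverage G aX)

/-- the torsor classified by `y`. -/
noncomputable abbrev AA : QO aX := y.obj (Over.mk (𝟙 U))

theorem AA_base : (AA y).base = U := y.w_obj (Over.mk (𝟙 U))

/-- its projection to `U`. -/
noncomputable def piU : (AA y).P ⟶ U := (AA y).π ≫ eqToHom (AA_base y)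

theorem piU_prop (P : MorphismProperty Scheme.{u}) [P.RespectsIso] (h : P (AA y).π.left) :
    P (piU y).left := by
  have e : (piU y).left = (AA y).π.left ≫ (eqToHom (AA_base y)).left := rfl
  rw [e]
  haveI : IsIso (eqToHom (AA_base y)).left :=
    inferInstanceAs (IsIso ((Over.forget S).map (eqToHom (AA_base y))))
  exact (P.cancel_right_of_respectsIso _ _).2 h

variable (aX) in
/-- the atlas functor. -/
noncomputable abbrev qq : FibCat.overCat X ⥤ᵇ AlgSt.QuotSt Scheme.fppfPrecoverage G aX :=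
  BasedFunctor.comp (AlgSt.ofOverCat X) (AlgSt.quotMap Scheme.fppfPrecoverage G aX)

/-- the projection of the chart to `U`. -/
noncomputable abbrev fa : AlgSt.ofSch (AA y).P ⥤ᵇ FibCat.overCat U :=
  BasedFunctor.comp (AlgSt.ofSpMap ((AlgSp.yon S).map (piU y))) (AlgSt.toOverCat U)

/-- the projection of the chart to `X`. -/
noncomputable abbrev fb : AlgSt.ofSch (AA y).P ⥤ᵇ FibCat.overCat X :=
  BasedFunctor.comp (AlgSt.ofSpMap ((AlgSp.yon S).map (AA y).φ)) (AlgSt.toOverCat X)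

/-- the morphism to the terminal object of the slice. -/
def toTerm (c : Over U) : c ⟶ Over.mk (𝟙 U) := Over.homMk c.hom (Category.comp_id _)

theorem toTerm_comp {c' c : Over U} (k : c' ⟶ c) : k ≫ toTerm c = toTerm c' := by
  apply Over.OverMorphism.ext
  exact Over.w k

theorem ymap_base {c' c : Over U} (k : c' ⟶ c) :
    (y.map k).base = eqToHom (y.w_obj c') ≫ k.left ≫ eqToHom (y.w_obj c).symm := by
  have h0 : (FibCat.overCat U).p.IsHomLift ((FibCat.overCat U).p.map k) k :=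
    IsHomLift.map (FibCat.overCat U).p k
  have h1 : (AlgSt.QuotSt Scheme.fppfPrecoverage G aX).p.IsHomLift
      ((FibCat.overCat U).p.map k) (y.map k) :=
    BasedFunctor.preserves_isHomLift y ((FibCat.overCat U).p.map k) k
  exact IsHomLift.fac' (AlgSt.QuotSt Scheme.fppfPrecoverage G aX).p
    ((FibCat.overCat U).p.map k) (y.map k)

theorem m1_nat {c' c : Over U} (k : c' ⟶ c) :
    y.map k ≫ y.map (toTerm c) = y.map (toTerm c') :=
  (y.toFunctor.map_comp k (toTerm c)).symm.trans (congrArg y.toFunctor.map (toTerm_comp k))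

/-- the classifying morphism of the pulled back torsor. -/
noncomputable def m1 (w : (AlgSt.ofSch (AA y).P).obj) : y.obj ((fa y).obj w) ⟶ AA y :=
  y.map (toTerm ((fa y).obj w))

theorem m1_base (w : (AlgSt.ofSch (AA y).P).obj) :
    (m1 y w).base = eqToHom (y.w_obj ((fa y).obj w)) ≫ w.sec.down ≫ (AA y).π :=
  (ymap_base y (toTerm ((fa y).obj w))).trans
    (comp_eqToHom_cancel _ w.sec.down (AA y).π (AA_base y))

theorem eps_ex (w : (AlgSt.ofSch (AA y).P).obj) :
    ∃ χ : y.obj ((fa y).obj w) ⟶ (qq aX).obj ((fb y).obj w),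
      χ.base = eqToHom (y.w_obj ((fa y).obj w)) ∧
      χ ≫ secHom aX (AA y) w.sec.down = m1 y w :=
  exists_lift (secHom aX (AA y) w.sec.down) (m1 y w) (eqToHom (y.w_obj ((fa y).obj w)))
    (by rw [m1_base]; rfl)

/-- the comparison isomorphism, as a morphism. -/
noncomputable def eHomF (w : (AlgSt.ofSch (AA y).P).obj) :
    y.obj ((fa y).obj w) ⟶ (qq aX).obj ((fb y).obj w) := (eps_ex y w).choose

theorem eHomF_base (w : (AlgSt.ofSch (AA y).P).obj) :
    (eHomF y w).base = eqToHom (y.w_obj ((fa y).obj w)) := (eps_ex y w).choose_spec.1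

theorem eHomF_comp (w : (AlgSt.ofSch (AA y).P).obj) :
    eHomF y w ≫ secHom aX (AA y) w.sec.down = m1 y w := (eps_ex y w).choose_spec.2

theorem eHomF_isIso (w : (AlgSt.ofSch (AA y).P).obj) : IsIso (eHomF y w) := by
  haveI : IsIso (eHomF y w).base := by
    rw [eHomF_base]
    exact (inferInstance : IsIso (eqToHom (y.w_obj ((fa y).obj w))))
  exact isIso_of_isIso_base aX (eHomF y w)

theorem eHomF_isHomLift (w : (AlgSt.ofSch (AA y).P).obj) :
    (AlgSt.QuotObj.forget Scheme.fppfPrecoverage G aX).IsHomLift (𝟙 w.base) (eHomF y w) :=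
  isHomLift_id_of_base (eHomF y w) (y.w_obj ((fa y).obj w)) (eHomF_base y w)

theorem eps_nat {w' w : (AlgSt.ofSch (AA y).P).obj} (m : w' ⟶ w) :
    y.map ((fa y).map m) ≫ eHomF y w = eHomF y w' ≫ (qq aX).map ((fb y).map m) := by
  have hm : m.hom ≫ w.sec.down = w'.sec.down := congrArg ULift.down m.map_sec
  apply hom_eq_of_comp_eq (secHom aX (AA y) w.sec.down)
  · exact base_comm_aux' (f := y.map ((fa y).map m)) (g := (qq aX).map ((fb y).map m))
      (e' := eHomF y w') (e := eHomF y w) (y.w_obj ((fa y).obj w')) (y.w_obj ((fa y).obj w))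
      (ymap_base y ((fa y).map m)) (eHomF_base y w') (eHomF_base y w)
  · have e1 : (y.map ((fa y).map m) ≫ eHomF y w) ≫ secHom aX (AA y) w.sec.down = m1 y w' :=
      (Category.assoc _ _ _).trans
        ((congrArg (y.map ((fa y).map m) ≫ ·) (eHomF_comp y w)).trans (m1_nat y ((fa y).map m)))
    have e3 : (eHomF y w' ≫ (qq aX).map ((fb y).map m)) ≫ secHom aX (AA y) w.sec.down =
        m1 y w' :=
      (Category.assoc _ _ _).trans
        ((congrArg (eHomF y w' ≫ ·)
          (secHom_precomp (AA y) m.hom w.sec.down w'.sec.down hm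
            ((qq aX).map ((fb y).map m)) rfl rfl)).trans (eHomF_comp y w'))
    exact e1.trans e3.symm

/-- the comparison isomorphism. -/
noncomputable def epsIso : BasedFunctor.comp (fa y) y ≅ BasedFunctor.comp (fb y) (qq aX) :=
  BasedNatIso.mkNatIso
    (NatIso.ofComponents (fun w => @asIso _ _ _ _ (eHomF y w) (eHomF_isIso y w))
      (fun m => eps_nat y m))
    (fun w => eHomF_isHomLift y w)

/-- the chart of the fibre product. -/
noncomputable abbrev ee : AlgSt.ofSch (AA y).P ⥤ᵇ FibCat.fp y (qq aX) :=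
  FibCat.fpLift (fa y) (fb y) (epsIso y)

theorem ee_iso_hom (w : (AlgSt.ofSch (AA y).P).obj) :
    ((ee y).toFunctor.obj w).obj.iso.hom = eHomF y w := rfl

theorem faithful_ee : (ee y).toFunctor.Faithful where
  map_injective := by
    intro w' w m m' h
    have h1 := congrArg (fun φ : ((ee y).toFunctor.obj w' ⟶ (ee y).toFunctor.obj w) =>
      φ.hom.fst.left) h
    exact Stk.EltObj.hom_ext h1

theorem full_ee : (ee y).toFunctor.Full where
  map_surjective := by
    intro w' w φ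
    obtain ⟨k₁, hk₁⟩ : ∃ k₁ : (fa y).obj w' ⟶ (fa y).obj w, k₁ = φ.hom.fst := ⟨_, rfl⟩
    obtain ⟨k₂, hk₂⟩ : ∃ k₂ : (fb y).obj w' ⟶ (fb y).obj w, k₂ = φ.hom.snd := ⟨_, rfl⟩
    have hw : y.map k₁ ≫ eHomF y w = eHomF y w' ≫ (qq aX).map k₂ := by
      rw [hk₁, hk₂]
      exact φ.hom.w
    have hb : k₁.left = ((qq aX).map k₂).base :=
      base_comm_aux (f := y.map k₁) (g := (qq aX).map k₂) (e' := eHomF y w') (e := eHomF y w)
        (y.w_obj ((fa y).obj w')) (y.w_obj ((fa y).obj w)) (ymap_base y k₁)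
        (eHomF_base y w') (eHomF_base y w) hw
    have hc : (qq aX).map k₂ ≫ secHom aX (AA y) w.sec.down =
        secHom aX (AA y) w'.sec.down := by
      have := eHomF_isIso y w'
      refine (cancel_epi (eHomF y w')).1 ?_
      calc eHomF y w' ≫ ((qq aX).map k₂ ≫ secHom aX (AA y) w.sec.down)
          = (eHomF y w' ≫ (qq aX).map k₂) ≫ secHom aX (AA y) w.sec.down :=
            (Category.assoc _ _ _).symm
        _ = (y.map k₁ ≫ eHomF y w) ≫ secHom aX (AA y) w.sec.down :=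
            congrArg (· ≫ secHom aX (AA y) w.sec.down) hw.symm
        _ = y.map k₁ ≫ (eHomF y w ≫ secHom aX (AA y) w.sec.down) := Category.assoc _ _ _
        _ = y.map k₁ ≫ m1 y w := congrArg (y.map k₁ ≫ ·) (eHomF_comp y w)
        _ = m1 y w' := m1_nat y k₁
        _ = eHomF y w' ≫ secHom aX (AA y) w'.sec.down := (eHomF_comp y w').symm
    obtain ⟨b₂, hb₂⟩ : ∃ b₂ : w'.base ⟶ w.base, b₂ = k₂.left := ⟨_, rfl⟩
    have htop : (G ◁ b₂) ≫ (G ◁ w.sec.down) ≫ (AA y).act.act =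
        (G ◁ w'.sec.down) ≫ (AA y).act.act := by
      rw [hb₂]
      exact congrArg AlgSt.QuotObj.Hom.top hc
    have hs : b₂ ≫ w.sec.down = w'.sec.down := by
      calc b₂ ≫ w.sec.down
          = lift (toUnit w'.base ≫ η[G]) (𝟙 w'.base) ≫ (G ◁ (b₂ ≫ w.sec.down)) ≫
              (AA y).act.act := (unit_secHom_top (AA y) (b₂ ≫ w.sec.down)).symm
        _ = lift (toUnit w'.base ≫ η[G]) (𝟙 w'.base) ≫ (G ◁ b₂) ≫ (G ◁ w.sec.down) ≫
              (AA y).act.act := by rw [MonoidalCategory.whiskerLeft_comp, Category.assoc]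
        _ = lift (toUnit w'.base ≫ η[G]) (𝟙 w'.base) ≫ (G ◁ w'.sec.down) ≫
              (AA y).act.act := by rw [htop]
        _ = w'.sec.down := unit_secHom_top (AA y) w'.sec.down
    refine ⟨⟨b₂, congrArg ULift.up hs⟩, ?_⟩
    apply ObjectProperty.hom_ext
    apply CategoricalPullback.hom_ext
    · apply Over.OverMorphism.ext
      show b₂ = φ.hom.fst.left
      exact hb₂.trans (hb.symm.trans (congrArg CommaMorphism.left hk₁))
    · apply Over.OverMorphism.ext
      show b₂ = φ.hom.snd.left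
      exact hb₂.trans (congrArg CommaMorphism.left hk₂)

/-- the chart object attached to a point of the torsor. -/
noncomputable abbrev mkW {T : Over S} (s : T ⟶ (AA y).P) : (AlgSt.ofSch (AA y).P).obj :=
  ⟨T, ⟨s⟩⟩

theorem ess_core (c : Over U) (s : c.left ⟶ (AA y).P)
    (i : y.obj c ≅ (qq aX).obj (Over.mk (s ≫ (AA y).φ)))
    (hi : (AlgSt.QuotObj.forget Scheme.fppfPrecoverage G aX).IsHomLift (𝟙 c.left) i.hom)
    (hk : i.inv ≫ y.map (toTerm c) = secHom aX (AA y) s) :
    ∃ α : (fa y).obj (mkW y s) ≅ c, α.hom.left = 𝟙 c.left ∧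
      y.map α.hom ≫ i.hom =
        eHomF y (mkW y s) ≫ (qq aX).map (𝟙 ((fb y).obj (mkW y s))) := by
  have := hi
  obtain ⟨hAB, hb⟩ := base_eq_of_isHomLift i.inv
    (IsHomLift.lift_id_inv (AlgSt.QuotObj.forget Scheme.fppfPrecoverage G aX) c.left i)
  have hc0 : c.hom = (i.inv ≫ y.map (toTerm c)).base ≫ eqToHom (AA_base y) :=
    base_aux i.inv (y.map (toTerm c)) (y.w_obj c) (AA_base y) c.hom hb (ymap_base y (toTerm c))
  have hc : c.hom = s ≫ piU y :=
    hc0.trans ((congrArg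
      (fun m : (qq aX).obj (Over.mk (s ≫ (AA y).φ)) ⟶ AA y => m.base ≫ eqToHom (AA_base y))
      hk).trans (Category.assoc _ _ _))
  obtain ⟨α, hα⟩ : ∃ α : (fa y).obj (mkW y s) ≅ c, α.hom.left = 𝟙 c.left :=
    ⟨Over.isoMk (Iso.refl c.left) ((Category.id_comp _).trans hc), rfl⟩
  refine ⟨α, hα, ?_⟩
  have hαlift : (FibCat.overCat U).p.IsHomLift (𝟙 c.left) α.hom := by
    refine IsHomLift.of_fac' _ _ _ rfl rfl ?_
    show α.hom.left = eqToHom rfl ≫ 𝟙 c.left ≫ eqToHom rfl
    rw [hα, eqToHom_refl, Category.id_comp, Category.id_comp]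
  have h_ya : (AlgSt.QuotObj.forget Scheme.fppfPrecoverage G aX).IsHomLift (𝟙 c.left)
      (y.map α.hom) := BasedFunctor.preserves_isHomLift y (𝟙 c.left) α.hom
  have h₁ : (AlgSt.QuotObj.forget Scheme.fppfPrecoverage G aX).IsHomLift (𝟙 c.left)
      (y.map α.hom ≫ i.hom) :=
    IsHomLift.comp_of_lift_id (AlgSt.QuotObj.forget Scheme.fppfPrecoverage G aX) c.left
      (y.map α.hom) i.hom
  have e1 : i.hom ≫ secHom aX (AA y) s = y.map (toTerm c) :=
    (congrArg (i.hom ≫ ·) hk.symm).trans (Iso.hom_inv_id_assoc i _)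
  have compat' : y.map α.hom ≫ i.hom = eHomF y (mkW y s) := by
    refine hom_eq_of_comp_eq (secHom aX (AA y) s) _ _ ?_ ?_
    · exact base_eq_of_isHomLift_id _ _ h₁ (eHomF_isHomLift y (mkW y s))
    · exact (Category.assoc _ _ _).trans ((congrArg (y.map α.hom ≫ ·) e1).trans
        ((m1_nat y α.hom).trans (eHomF_comp y (mkW y s)).symm))
  exact compat'.trans ((Category.comp_id _).symm.trans
    (congrArg (eHomF y (mkW y s) ≫ ·) ((qq aX).toFunctor.map_id _).symm))

/-- isomorphisms in the 2-fibre product out of the image of `ee`. -/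
theorem exists_fp_iso (w : (AlgSt.ofSch (AA y).P).obj) (z : (FibCat.fp y (qq aX)).obj)
    (α : (fa y).obj w ≅ z.obj.fst) (β : (fb y).obj w ≅ z.obj.snd)
    (hc : y.map α.hom ≫ z.obj.iso.hom = eHomF y w ≫ (qq aX).map β.hom) :
    ∃ E : (ee y).toFunctor.obj w ≅ z, E.hom.hom.fst = α.hom := by
  refine ⟨ObjectProperty.isoMk _ (CategoricalPullback.mkIso
    (x := ((ee y).toFunctor.obj w).obj) (y := z.obj) α β ?_), rfl⟩
  rw [ee_iso_hom]
  exact hc

theorem essSurj_ee (z : (FibCat.fp y (qq aX)).obj) :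
    ∃ (ξ : (AlgSt.ofSch (AA y).P).obj) (e' : (ee y).toFunctor.obj ξ ≅ z),
      (FibCat.fp y (qq aX)).p.IsHomLift (𝟙 ((FibCat.fp y (qq aX)).p.obj z)) e'.hom := by
  obtain ⟨⟨c, d, i⟩, hz⟩ := z
  obtain ⟨T, ⟨⟨⟩⟩, x⟩ := d
  have hz' : (AlgSt.QuotObj.forget Scheme.fppfPrecoverage G aX).IsHomLift (𝟙 c.left) i.hom := hz
  have := hz'
  have hT : T = c.left :=
    IsHomLift.codomain_eq (AlgSt.QuotObj.forget Scheme.fppfPrecoverage G aX) (𝟙 c.left) i.hom
  subst hT
  obtain ⟨s, rfl, hs2, hs3⟩ := homA_char (AA y) (T := c.left) x (i.inv ≫ y.map (toTerm c))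
  have hk : i.inv ≫ y.map (toTerm c) = secHom aX (AA y) s :=
    hom_eq_secHom (AA y) s _ hs2 hs3
  obtain ⟨α, hα, hcompat⟩ := ess_core y c s i hz' hk
  obtain ⟨E, hE⟩ := exists_fp_iso y (mkW y s) ⟨⟨c, _, i⟩, hz⟩ α (Iso.refl _) hcompat
  refine ⟨mkW y s, E, ?_⟩
  have h := IsHomLift.map (FibCat.fp y (qq aX)).p E.hom
  have hb : (FibCat.fp y (qq aX)).p.map E.hom = 𝟙 c.left :=
    (congrArg CommaMorphism.left hE).trans hα
  rw [hb] at h
  exact h

theorem isEquivOver_ee : FibCat.IsEquivOver (ee y) :=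
  (Groth.Agent.S5139.result _).2 ⟨⟨full_ee y, faithful_ee y⟩, essSurj_ee y⟩

theorem spMap_ee :
    AlgSt.spMapOfOver (BasedFunctor.comp (ee y) (FibCat.fpFst y (qq aX))) =
      (AlgSp.yon S).map (piU y) := by
  apply ObjectProperty.hom_ext
  ext T x
  apply ULift.ext
  exact algSt_secHom_eq _ _ _ rfl

end fp

/-- the atlas `X ⟶ [X/G]` is representable by the torsors, with the property of their maps. -/
theorem repWith_of_pi (Q : MorphismProperty (AlgSp.Sp S))
    (hQ : ∀ {U : Over S} (y : FibCat.overCat U ⥤ᵇ AlgSt.QuotSt Scheme.fppfPrecoverage G aX),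
      Q ((AlgSp.yon S).map (piU y))) :
    AlgSt.RepByAlgSpWith Q (qq aX) := by
  intro U y
  refine ⟨⟨(AlgSp.yon S).obj (AA y).P, AlgSp.IsAlgSpace.yon_obj _⟩, ee y, isEquivOver_ee y, ?_⟩
  have h := hQ y
  rw [← spMap_ee y] at h
  exact h

/-- the atlas `X ⟶ [X/G]` has every fpqc local property of `G ⟶ S`. -/
theorem atlas_locP (P : MorphismProperty Scheme.{u}) [IsZariskiLocalAtTarget P]
    [P.IsStableUnderBaseChange] [P.IsStableUnderComposition]
    (hP : P.DescendsAlong (@Surjective ⊓ @Flat ⊓ @QuasiCompact : MorphismProperty Scheme.{u}))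
    (hE : ∀ ⦃A B : Scheme.{u}⦄ (g : A ⟶ B), Etale g → P g) (hG : P G.hom) :
    AlgSt.RepByAlgSpWith (AlgSp.LocP P) (qq aX) :=
  repWith_of_pi _ fun y =>
    locP_yon_map P hE (piU y) (piU_prop y P (pi_prop P hP (AA y) hG))

/-- the atlas `X ⟶ [X/G]` is surjective. -/
theorem atlas_surjective : AlgSt.RepByAlgSpWith AlgSp.IsSurjectiveMor (qq aX) :=
  repWith_of_pi _ fun y =>
    isSurjectiveMor_yon_map (piU y) (piU_prop y @Surjective (pi_surjective (AA y)))

end Groth.Agent.H36.QuotAtlas
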