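import Groth.Prelude.Def_AlgSt
import Groth.Prelude.Def_FibCat2
import Groth.Prelude.Def_W4c2modmodulilectNerve
import Mathlib.CategoryTheory.Comma.StructuredArrow.Basic
import Mathlib.CategoryTheory.FiberedCategory.BasedCategory
import Mathlib.CategoryTheory.FiberedCategory.Cartesian
import Mathlib.CategoryTheory.Groupoid.Discrete

/-!
# Restriction of sections of a category fibred in groupoids along a functor with simply connected
comma categories (helper36)
-/

set_option autoImplicit false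
universe w v₁ v₂ v₃ u₁ u₂ u₃
open CategoryTheory Functor

namespace Groth.Agent.H36.SecRestr

open W4c2modmodulilect (HasContractibleNerve)

section nerve

variable {A : Type u₁} [Category.{v₁} A]

/-- functions which are constant along morphisms are constant. -/
theorem const_of_hcn (hA : HasContractibleNerve.{w, w} A) {S : Sort*} (t : A → S)
    (ht : ∀ (x y : A), (x ⟶ y) → t x = t y) (x y : A) : t x = t y := by
  let T : A ⥤ Discrete (ULift.{w} Prop) :=
    { obj := fun z => Discrete.mk (ULift.up (t z = t y))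
      map := fun {z z'} f => eqToHom (by rw [ht z z' f])
      map_id := fun _ => Subsingleton.elim _ _
      map_comp := fun _ _ => Subsingleton.elim _ _ }
  have hE := (hA.2 (Discrete (ULift.{w} Prop))).essSurj
  obtain ⟨g, ⟨e⟩⟩ := @Functor.EssSurj.mem_essImage _ _ _ _ _ hE T
  have hx : g.as = ULift.up (t x = t y) := Discrete.eq_of_hom (e.hom.app x)
  have hy : g.as = ULift.up (t y = t y) := Discrete.eq_of_hom (e.hom.app y)
  have h : (t x = t y) = (t y = t y) := congrArg ULift.down (hx.symm.trans hy)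
  exact h.mpr rfl

end nerve

section fib

variable {D : Type u₂} [Category.{v₂} D] {F : Type u₃} [Category.{v₃} F] (p : F ⥤ D)

theorem lift_comp {R S T : D} {a b c : F} {f : R ⟶ S} {g : S ⟶ T} {m : a ⟶ b} {n : b ⟶ c}
    (hm : p.IsHomLift f m) (hn : p.IsHomLift g n) : p.IsHomLift (f ≫ g) (m ≫ n) := by
  have := hm
  have := hn
  infer_instance

theorem lift_of_eq {R S : D} {a b : F} {f f' : R ⟶ S} {m : a ⟶ b} (h : f = f')
    (hm : p.IsHomLift f m) : p.IsHomLift f' m := h ▸ hm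

variable [FibCat.IsFibGrpd p]

theorem isSC {R S : D} {a b : F} {f : R ⟶ S} {m : a ⟶ b} (hm : p.IsHomLift f m) :
    p.IsStronglyCartesian f m := by
  obtain ⟨⟩ := hm
  exact FibCat.IsFibGrpd.isStronglyCartesian m

theorem exists_lift_of {R' R S : D} {a' a b : F} {f : R ⟶ S} {m : a ⟶ b} (hm : p.IsHomLift f m)
    (g : R' ⟶ R) {m' : a' ⟶ b} (hm' : p.IsHomLift (g ≫ f) m') :
    ∃ χ : a' ⟶ a, p.IsHomLift g χ ∧ χ ≫ m = m' := by
  have := isSC p hm
  have := hm'
  exact (IsStronglyCartesian.universal_property p f m g (g ≫ f) rfl m').exists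

theorem lift_unique {R' R S : D} {a' a b : F} {f : R ⟶ S} {m : a ⟶ b} (hm : p.IsHomLift f m)
    {g : R' ⟶ R} {χ χ' : a' ⟶ a} (hχ : p.IsHomLift g χ) (hχ' : p.IsHomLift g χ')
    (h : χ ≫ m = χ' ≫ m) : χ = χ' := by
  have := isSC p hm
  have := hχ
  have := hχ'
  exact IsStronglyCartesian.ext p f m g h

theorem isIso_of_lift_id {Y : D} {a b : F} {m : a ⟶ b} (hm : p.IsHomLift (𝟙 Y) m) : IsIso m := by
  have := isSC p hm
  exact IsStronglyCartesian.isIso_of_base_isIso p (𝟙 Y) m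

theorem exists_lift_over {x : F} {Y Y' : D} (hx : p.obj x = Y) (b : Y' ⟶ Y) :
    ∃ (y : F) (m : y ⟶ x), p.IsHomLift b m := by
  subst hx
  exact FibCat.IsFibGrpd.exists_lift b

end fib

section main

variable {C : Type u₁} [Category.{v₁} C] {D : Type u₂} [Category.{v₂} D] {F : Type u₃}
  [Category.{v₃} F]

/-- a functor `C ⥤ F` over `φ`. -/
structure PhiSec (φ : C ⥤ D) (p : F ⥤ D) where
  s : C ⥤ F
  hs : ∀ {X X' : C} (g : X ⟶ X'), p.IsHomLift (φ.map g) (s.map g)

/-- objects of the fibre over `Y`, in a large universe. -/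
structure GObj (φ : C ⥤ D) (p : F ⥤ D) (Y : D) : Type (max u₁ u₂ u₃ v₁ v₂ v₃) where
  obj : F
  w : p.obj obj = Y

/-- morphisms of the fibre over `Y`, in a large universe. -/
@[ext]
structure GHom {φ : C ⥤ D} {p : F ⥤ D} {Y : D} (a b : GObj φ p Y) :
    Type (max u₁ u₂ u₃ v₁ v₂ v₃) where
  hom : a.obj ⟶ b.obj
  lift : p.IsHomLift (𝟙 Y) hom

noncomputable instance gGroupoid (φ : C ⥤ D) (p : F ⥤ D) [FibCat.IsFibGrpd p] (Y : D) :
    Groupoid.{max u₁ u₂ u₃ v₁ v₂ v₃} (GObj φ p Y) where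
  Hom a b := GHom a b
  id a := ⟨𝟙 a.obj, IsHomLift.id a.w⟩
  comp f g := ⟨f.hom ≫ g.hom, by
    have h := lift_comp p f.lift g.lift
    rwa [Category.comp_id] at h⟩
  id_comp f := GHom.ext (Category.id_comp _)
  comp_id f := GHom.ext (Category.comp_id _)
  assoc f g h := GHom.ext (Category.assoc _ _ _)
  inv f := ⟨@CategoryTheory.inv _ _ _ _ f.hom (isIso_of_lift_id p f.lift), by
    have := isIso_of_lift_id p f.lift
    have := f.lift
    exact IsHomLift.lift_id_inv_isIso p Y f.hom⟩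
  inv_comp f := GHom.ext (by
    have := isIso_of_lift_id p f.lift
    exact IsIso.inv_hom_id f.hom)
  comp_inv f := GHom.ext (by
    have := isIso_of_lift_id p f.lift
    exact IsIso.hom_inv_id f.hom)

variable {φ : C ⥤ D} {p : F ⥤ D} [FibCat.IsFibGrpd p] (S : PhiSec φ p)

theorem PhiSec.obj_eq (X : C) : p.obj (S.s.obj X) = φ.obj X := by
  have := S.hs (𝟙 X)
  exact IsHomLift.domain_eq p (φ.map (𝟙 X)) (S.s.map (𝟙 X))

theorem exists_pb {Y : D} (a : StructuredArrow Y φ) :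
    ∃ (y : F) (m : y ⟶ S.s.obj a.right), p.IsHomLift a.hom m :=
  exists_lift_over p (S.obj_eq a.right) a.hom

/-- chosen pullbacks. -/
noncomputable def pbObj {Y : D} (a : StructuredArrow Y φ) : F := (exists_pb S a).choose

noncomputable def pbHom {Y : D} (a : StructuredArrow Y φ) : pbObj S a ⟶ S.s.obj a.right :=
  (exists_pb S a).choose_spec.choose

theorem pbLift {Y : D} (a : StructuredArrow Y φ) : p.IsHomLift a.hom (pbHom S a) :=
  (exists_pb S a).choose_spec.choose_spec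

theorem pbObj_w {Y : D} (a : StructuredArrow Y φ) : p.obj (pbObj S a) = Y := by
  have := pbLift S a
  exact IsHomLift.domain_eq p a.hom (pbHom S a)

theorem exists_pbMap {Y : D} {a a' : StructuredArrow Y φ} (h : a ⟶ a') :
    ∃ χ : pbObj S a ⟶ pbObj S a', p.IsHomLift (𝟙 Y) χ ∧
      χ ≫ pbHom S a' = pbHom S a ≫ S.s.map h.right :=
  exists_lift_of p (pbLift S a') (𝟙 Y)
    (lift_of_eq p ((StructuredArrow.w h).trans (Category.id_comp _).symm)
      (lift_comp p (pbLift S a) (S.hs h.right)))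

noncomputable def pbMap {Y : D} {a a' : StructuredArrow Y φ} (h : a ⟶ a') :
    pbObj S a ⟶ pbObj S a' := (exists_pbMap S h).choose

theorem pbMap_lift {Y : D} {a a' : StructuredArrow Y φ} (h : a ⟶ a') :
    p.IsHomLift (𝟙 Y) (pbMap S h) := (exists_pbMap S h).choose_spec.1

theorem pbMap_fac {Y : D} {a a' : StructuredArrow Y φ} (h : a ⟶ a') :
    pbMap S h ≫ pbHom S a' = pbHom S a ≫ S.s.map h.right := (exists_pbMap S h).choose_spec.2

theorem pbMap_id {Y : D} (a : StructuredArrow Y φ) : pbMap S (𝟙 a) = 𝟙 (pbObj S a) := by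
  refine lift_unique p (pbLift S a) (pbMap_lift S (𝟙 a)) (IsHomLift.id (pbObj_w S a)) ?_
  rw [pbMap_fac, Category.id_comp]
  simp

theorem pbMap_comp {Y : D} {a a' a'' : StructuredArrow Y φ} (h : a ⟶ a') (h' : a' ⟶ a'') :
    pbMap S (h ≫ h') = pbMap S h ≫ pbMap S h' := by
  refine lift_unique p (pbLift S a'') (pbMap_lift S (h ≫ h'))
    (lift_of_eq p (Category.comp_id _) (lift_comp p (pbMap_lift S h) (pbMap_lift S h'))) ?_
  rw [pbMap_fac, Category.assoc, pbMap_fac, ← Category.assoc, pbMap_fac, Category.assoc,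
    ← Functor.map_comp]
  rfl

/-- the pullback functor to the fibre groupoid. -/
noncomputable def TY (Y : D) : StructuredArrow Y φ ⥤ GObj φ p Y where
  obj a := ⟨pbObj S a, pbObj_w S a⟩
  map h := ⟨pbMap S h, pbMap_lift S h⟩
  map_id a := GHom.ext (pbMap_id S a)
  map_comp h h' := GHom.ext (pbMap_comp S h h')

/-- a cone from an object over `Y` to the restriction of the section to `(Y/φ)`. -/
structure Cone (S : PhiSec φ p) (Y : D) where
  pt : F
  hpt : p.obj pt = Y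
  ee : ∀ {X : C} (_ : Y ⟶ φ.obj X), pt ⟶ S.s.obj X
  lift : ∀ {X : C} (f : Y ⟶ φ.obj X), p.IsHomLift f (ee f)
  compat : ∀ {X X' : C} (f : Y ⟶ φ.obj X) (g : X ⟶ X'), ee f ≫ S.s.map g = ee (f ≫ φ.map g)

section theta

variable {S} {Y : D} {g : GObj φ p Y} (θ : (Functor.const (StructuredArrow Y φ)).obj g ≅ TY S Y)

/-- components of a trivialisation of the pullback functor. -/
noncomputable def thetaHom (a : StructuredArrow Y φ) : g.obj ⟶ pbObj S a := (θ.hom.app a).hom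

theorem thetaHom_lift (a : StructuredArrow Y φ) : p.IsHomLift (𝟙 Y) (thetaHom θ a) :=
  (θ.hom.app a).lift

theorem thetaHom_nat {a a' : StructuredArrow Y φ} (h : a ⟶ a') :
    thetaHom θ a' = thetaHom θ a ≫ pbMap S h :=
  (Category.id_comp _).symm.trans (congrArg GHom.hom (θ.hom.naturality h))

end theta

/-- the cone given by a trivialisation of the pullback functor. -/
noncomputable def coneOfIso (Y : D) (g : GObj φ p Y)
    (θ : (Functor.const (StructuredArrow Y φ)).obj g ≅ TY S Y) : Cone S Y where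
  pt := g.obj
  hpt := g.w
  ee f := thetaHom θ (StructuredArrow.mk f) ≫ pbHom S (StructuredArrow.mk f)
  lift f := lift_of_eq p (Category.id_comp f)
    (lift_comp p (thetaHom_lift θ (StructuredArrow.mk f)) (pbLift S (StructuredArrow.mk f)))
  compat {X X'} f g' := by
    rw [thetaHom_nat θ (StructuredArrow.homMk g' rfl :
      StructuredArrow.mk f ⟶ StructuredArrow.mk (f ≫ φ.map g'))]
    rw [Category.assoc, Category.assoc, pbMap_fac]
    rfl

theorem exists_cone (Y : D)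
    (hY : HasContractibleNerve.{max u₁ u₂ u₃ v₁ v₂ v₃, max u₁ u₂ u₃ v₁ v₂ v₃}
      (StructuredArrow Y φ)) : Nonempty (Cone S Y) := by
  have hE := (hY.2 (GObj φ p Y)).essSurj
  obtain ⟨g, ⟨θ⟩⟩ := @Functor.EssSurj.mem_essImage _ _ _ _ _ hE (TY S Y)
  exact ⟨coneOfIso S Y g θ⟩

section up

variable {S} {Y : D} (K : Cone S Y)

theorem Cone.up_unique (hne : Nonempty (StructuredArrow Y φ)) {Y' : D} {b : Y' ⟶ Y} {z : F}
    {u u' : z ⟶ K.pt} (hu : p.IsHomLift b u) (hu' : p.IsHomLift b u')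
    (h : ∀ {X : C} (f : Y ⟶ φ.obj X), u ≫ K.ee f = u' ≫ K.ee f) : u = u' := by
  obtain ⟨a⟩ := hne
  exact lift_unique p (K.lift a.hom) hu hu' (h a.hom)

theorem Cone.exists_up (hY : HasContractibleNerve.{w, w} (StructuredArrow Y φ)) {Y' : D}
    (b : Y' ⟶ Y) {z : F} (m : ∀ {X : C} (_ : Y ⟶ φ.obj X), z ⟶ S.s.obj X)
    (hm : ∀ {X : C} (f : Y ⟶ φ.obj X), p.IsHomLift (b ≫ f) (m f))
    (hc : ∀ {X X' : C} (f : Y ⟶ φ.obj X) (g : X ⟶ X'), m f ≫ S.s.map g = m (f ≫ φ.map g)) :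
    ∃ u : z ⟶ K.pt, p.IsHomLift b u ∧ ∀ {X : C} (f : Y ⟶ φ.obj X), u ≫ K.ee f = m f := by
  have ex : ∀ a : StructuredArrow Y φ, ∃ χ : z ⟶ K.pt, p.IsHomLift b χ ∧
      χ ≫ K.ee a.hom = m a.hom := fun a => exists_lift_of p (K.lift a.hom) b (hm a.hom)
  choose t ht1 ht2 using ex
  have hconst : ∀ (a a' : StructuredArrow Y φ), (a ⟶ a') → t a = t a' := by
    intro a a' h
    refine lift_unique p (K.lift a'.hom) (ht1 a) (ht1 a') ?_
    have e1 : K.ee a'.hom = K.ee a.hom ≫ S.s.map h.right := by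
      rw [K.compat, StructuredArrow.w h]
    rw [ht2 a', e1, ← Category.assoc, ht2 a, hc, StructuredArrow.w h]
  obtain ⟨a₀⟩ := hY.1
  refine ⟨t a₀, ht1 a₀, fun {X} f => ?_⟩
  have h1 := const_of_hcn hY t hconst a₀ (StructuredArrow.mk f)
  rw [h1]
  exact ht2 (StructuredArrow.mk f)

end up

section sigma

variable (hφ : ∀ Y : D, HasContractibleNerve.{max u₁ u₂ u₃ v₁ v₂ v₃, max u₁ u₂ u₃ v₁ v₂ v₃}
  (StructuredArrow Y φ))

/-- chosen cones. -/
noncomputable def KK (Y : D) : Cone S Y := (exists_cone S Y (hφ Y)).some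

theorem exists_sm {Y' Y : D} (b : Y' ⟶ Y) :
    ∃ u : (KK S hφ Y').pt ⟶ (KK S hφ Y).pt, p.IsHomLift b u ∧
      ∀ {X : C} (f : Y ⟶ φ.obj X), u ≫ (KK S hφ Y).ee f = (KK S hφ Y').ee (b ≫ f) :=
  (KK S hφ Y).exists_up (hφ Y) b (fun f => (KK S hφ Y').ee (b ≫ f))
    (fun f => (KK S hφ Y').lift (b ≫ f))
    (fun f g => ((KK S hφ Y').compat (b ≫ f) g).trans
      (congrArg (fun k => (KK S hφ Y').ee k) (Category.assoc b f (φ.map g))))

/-- the extended section on morphisms. -/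
noncomputable def sm {Y' Y : D} (b : Y' ⟶ Y) : (KK S hφ Y').pt ⟶ (KK S hφ Y).pt :=
  (exists_sm S hφ b).choose

theorem sm_lift {Y' Y : D} (b : Y' ⟶ Y) : p.IsHomLift b (sm S hφ b) :=
  (exists_sm S hφ b).choose_spec.1

theorem sm_fac {Y' Y : D} (b : Y' ⟶ Y) {X : C} (f : Y ⟶ φ.obj X) :
    sm S hφ b ≫ (KK S hφ Y).ee f = (KK S hφ Y').ee (b ≫ f) :=
  (exists_sm S hφ b).choose_spec.2 f

/-- the extended section. -/
noncomputable def sigma : D ⥤ F where
  obj Y := (KK S hφ Y).pt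
  map b := sm S hφ b
  map_id Y := by
    refine (KK S hφ Y).up_unique (hφ Y).1 (sm_lift S hφ (𝟙 Y))
      (IsHomLift.id (KK S hφ Y).hpt) (fun f => ?_)
    exact (sm_fac S hφ (𝟙 Y) f).trans
      ((congrArg (fun k => (KK S hφ Y).ee k) (Category.id_comp f)).trans
        (Category.id_comp _).symm)
  map_comp {Y'' Y' Y} b' b := by
    refine (KK S hφ Y).up_unique (hφ Y).1 (sm_lift S hφ (b' ≫ b))
      (lift_comp p (sm_lift S hφ b') (sm_lift S hφ b)) (fun f => ?_)
    exact (sm_fac S hφ (b' ≫ b) f).trans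
      ((congrArg (fun k => (KK S hφ Y'').ee k) (Category.assoc b' b f)).trans
        ((Category.assoc _ _ _).trans
          ((congrArg (sm S hφ b' ≫ ·) (sm_fac S hφ b f)).trans
            (sm_fac S hφ b' (b ≫ f)))).symm)

/-- the comparison with the given section. -/
noncomputable def epsApp (X : C) : (sigma S hφ).obj (φ.obj X) ⟶ S.s.obj X :=
  (KK S hφ (φ.obj X)).ee (𝟙 (φ.obj X))

theorem epsApp_lift (X : C) : p.IsHomLift (𝟙 (φ.obj X)) (epsApp S hφ X) :=
  (KK S hφ (φ.obj X)).lift (𝟙 _)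

theorem epsApp_nat {X X' : C} (g : X ⟶ X') :
    (sigma S hφ).map (φ.map g) ≫ epsApp S hφ X' = epsApp S hφ X ≫ S.s.map g :=
  (sm_fac S hφ (φ.map g) (𝟙 _)).trans
    ((congrArg (fun k => (KK S hφ (φ.obj X)).ee k)
      ((Category.comp_id (φ.map g)).trans (Category.id_comp (φ.map g)).symm)).trans
      ((KK S hφ (φ.obj X)).compat (𝟙 _) g).symm)

noncomputable def epsIso : φ ⋙ sigma S hφ ≅ S.s :=
  NatIso.ofComponents
    (fun X => @asIso _ _ _ _ (epsApp S hφ X) (isIso_of_lift_id p (epsApp_lift S hφ X)))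
    (fun g => epsApp_nat S hφ g)

theorem core_ess
    (hφ : ∀ Y : D, HasContractibleNerve.{max u₁ u₂ u₃ v₁ v₂ v₃, max u₁ u₂ u₃ v₁ v₂ v₃}
      (StructuredArrow Y φ)) :
    ∃ (σ : D ⥤ F) (_ : ∀ (Y Y' : D) (b : Y ⟶ Y'), p.IsHomLift b (σ.map b)) (ε : φ ⋙ σ ≅ S.s),
      ∀ X : C, p.IsHomLift (𝟙 (φ.obj X)) (ε.hom.app X) :=
  ⟨sigma S hφ, fun _ _ b => sm_lift S hφ b, epsIso S hφ, fun X => epsApp_lift S hφ X⟩

end sigma

omit S in
theorem core_faithful (hne : ∀ Y : D, Nonempty (StructuredArrow Y φ)) {σ σ' : D ⥤ F}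
    (hσ' : ∀ (Y Y' : D) (b : Y ⟶ Y'), p.IsHomLift b (σ'.map b)) (α β : σ ⟶ σ')
    (hα : ∀ Y, p.IsHomLift (𝟙 Y) (α.app Y)) (hβ : ∀ Y, p.IsHomLift (𝟙 Y) (β.app Y))
    (h : ∀ X : C, α.app (φ.obj X) = β.app (φ.obj X)) : α = β := by
  ext Y
  obtain ⟨a⟩ := hne Y
  refine lift_unique p (hσ' _ _ a.hom) (hα Y) (hβ Y) ?_
  rw [← α.naturality, ← β.naturality, h]

omit S in
theorem core_full (hφ : ∀ Y : D, HasContractibleNerve.{w, w} (StructuredArrow Y φ))
    {σ σ' : D ⥤ F} (hσ : ∀ (Y Y' : D) (b : Y ⟶ Y'), p.IsHomLift b (σ.map b))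
    (hσ' : ∀ (Y Y' : D) (b : Y ⟶ Y'), p.IsHomLift b (σ'.map b))
    (γ : φ ⋙ σ ⟶ φ ⋙ σ') (hγ : ∀ X : C, p.IsHomLift (𝟙 (φ.obj X)) (γ.app X)) :
    ∃ α : σ ⟶ σ', (∀ Y, p.IsHomLift (𝟙 Y) (α.app Y)) ∧
      ∀ X : C, α.app (φ.obj X) = γ.app X := by
  have step : ∀ Y : D, ∃ αY : σ.obj Y ⟶ σ'.obj Y, p.IsHomLift (𝟙 Y) αY ∧
      ∀ (X : C) (f : Y ⟶ φ.obj X), αY ≫ σ'.map f = σ.map f ≫ γ.app X := by
    intro Y
    have ex : ∀ a : StructuredArrow Y φ, ∃ χ : σ.obj Y ⟶ σ'.obj Y, p.IsHomLift (𝟙 Y) χ ∧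
        χ ≫ σ'.map a.hom = σ.map a.hom ≫ γ.app a.right := fun a =>
      exists_lift_of p (hσ' _ _ a.hom) (𝟙 Y)
        (lift_of_eq p ((Category.comp_id _).trans (Category.id_comp _).symm)
          (lift_comp p (hσ _ _ a.hom) (hγ a.right)))
    choose t ht1 ht2 using ex
    have hconst : ∀ (a a' : StructuredArrow Y φ), (a ⟶ a') → t a = t a' := by
      intro a a' h
      refine lift_unique p (hσ' _ _ a'.hom) (ht1 a) (ht1 a') ?_
      have e1 : σ'.map a'.hom = σ'.map a.hom ≫ σ'.map (φ.map h.right) := by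
        rw [← Functor.map_comp, StructuredArrow.w h]
      have e2 : σ.map a'.hom = σ.map a.hom ≫ σ.map (φ.map h.right) := by
        rw [← Functor.map_comp, StructuredArrow.w h]
      have nat : σ.map (φ.map h.right) ≫ γ.app a'.right =
          γ.app a.right ≫ σ'.map (φ.map h.right) := γ.naturality h.right
      rw [ht2 a', e1, ← Category.assoc, ht2 a, Category.assoc, ← nat, ← Category.assoc, ← e2]
    obtain ⟨a₀⟩ := (hφ Y).1
    refine ⟨t a₀, ht1 a₀, fun X f => ?_⟩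
    have h1 := const_of_hcn (hφ Y) t hconst a₀ (StructuredArrow.mk f)
    rw [h1]
    exact ht2 (StructuredArrow.mk f)
  choose α hα1 hα2 using step
  refine ⟨{ app := α, naturality := ?_ }, hα1, fun X => ?_⟩
  · intro Y Y' b
    obtain ⟨a⟩ := (hφ Y').1
    refine lift_unique p (hσ' _ _ a.hom)
      (lift_of_eq p (Category.comp_id b) (lift_comp p (hσ _ _ b) (hα1 Y')))
      (lift_of_eq p (Category.id_comp b) (lift_comp p (hα1 Y) (hσ' _ _ b))) ?_
    rw [Category.assoc, hα2 Y' _ a.hom, ← Category.assoc, ← Functor.map_comp, Category.assoc,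
      ← Functor.map_comp, hα2 Y _ (b ≫ a.hom)]
  · have h := hα2 (φ.obj X) X (𝟙 _)
    rw [CategoryTheory.Functor.map_id, CategoryTheory.Functor.map_id, Category.comp_id,
      Category.id_comp] at h
    exact h

omit S in
theorem sec_lift (σ : FibCat.selfOver D ⥤ᵇ BasedCategory.ofFunctor p) (Y Y' : D) (b : Y ⟶ Y') :
    p.IsHomLift b ((σ.toFunctor : D ⥤ F).map b) := by
  have h0 : (FibCat.selfOver D).p.IsHomLift b b := IsHomLift.map (𝟭 D) b
  exact BasedFunctor.preserves_isHomLift σ b b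

omit S in
theorem phisec_lift (s : BasedCategory.ofFunctor φ ⥤ᵇ BasedCategory.ofFunctor p) {X X' : C}
    (g : X ⟶ X') : p.IsHomLift (φ.map g) ((s.toFunctor : C ⥤ F).map g) := by
  have h0 : (BasedCategory.ofFunctor φ).p.IsHomLift (φ.map g) g := IsHomLift.map φ g
  exact BasedFunctor.preserves_isHomLift s (φ.map g) g

omit S in
variable (φ p) in
/-- restriction of sections along `φ` is an equivalence. -/
theorem main
    (hφ : ∀ Y : D, HasContractibleNerve.{max u₁ u₂ u₃ v₁ v₂ v₃, max u₁ u₂ u₃ v₁ v₂ v₃}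
      (StructuredArrow Y φ)) :
    (Stk.restr (FibCat.toSelf (BasedCategory.ofFunctor φ))
      (BasedCategory.ofFunctor p)).IsEquivalence := by
  refine { faithful := ⟨?_⟩, full := ⟨?_⟩, essSurj := ⟨?_⟩ }
  · intro σ σ' α β hαβ
    apply BasedNatTrans.homCategory.ext
    refine core_faithful (φ := φ) (p := p) (fun Y => (hφ Y).1) (σ := σ.toFunctor)
      (σ' := σ'.toFunctor) (sec_lift σ') α.toNatTrans β.toNatTrans (fun Y => α.isHomLift' Y)
      (fun Y => β.isHomLift' Y) (fun X => ?_)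
    exact congrFun (congrArg NatTrans.app (congrArg BasedNatTrans.toNatTrans hαβ)) X
  · intro σ σ' γ
    obtain ⟨α, hα, hα3⟩ := core_full (φ := φ) (p := p) hφ (σ := σ.toFunctor)
      (σ' := σ'.toFunctor) (sec_lift σ) (sec_lift σ') γ.toNatTrans (fun X => γ.isHomLift' X)
    refine ⟨{ toNatTrans := α, isHomLift' := hα }, ?_⟩
    apply BasedNatTrans.homCategory.ext
    ext X
    exact hα3 X
  · intro s
    obtain ⟨σ, hσ, ε, hε⟩ := core_ess (φ := φ) (p := p) ⟨s.toFunctor, fun g => phisec_lift s g⟩ hφ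
    have hw : σ ⋙ p = 𝟭 D := CategoryTheory.Functor.ext
      (fun Y => by
        have := hσ _ _ (𝟙 Y)
        exact IsHomLift.domain_eq p (𝟙 Y) (σ.map (𝟙 Y)))
      (fun Y Y' b => by
        have := hσ _ _ b
        exact IsHomLift.fac' p b (σ.map b))
    let σb : FibCat.selfOver D ⥤ᵇ BasedCategory.ofFunctor p := { toFunctor := σ, w := hw }
    exact ⟨σb, ⟨BasedNatIso.mkNatIso ε hε⟩⟩

end main

end Groth.Agent.H36.SecRestr
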