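import Groth.Agent.H36.SecRestr
import Mathlib.CategoryTheory.FiberedCategory.Fiber
import Mathlib.CategoryTheory.FiberedCategory.Fibered

/-!
# Comma categories of a fibred functor are simply connected when its fibres are (helper36)
-/

set_option autoImplicit false
universe w v₁ v₂ u₁ u₂
open CategoryTheory Functor

namespace Groth.Agent.H36.SecRestrFib

open W4c2modmodulilect (HasContractibleNerve)
open Groth.Agent.H36.SecRestr (const_of_hcn)

variable {C : Type u₁} [Category.{v₁} C] {D : Type u₂} [Category.{v₂} D] (f : C ⥤ D) (Y : D)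

/-- the inclusion of the fibre into the comma category. -/
def LL : f.Fiber Y ⥤ StructuredArrow Y f where
  obj x := StructuredArrow.mk (eqToHom x.2.symm : Y ⟶ f.obj x.1)
  map {x x'} k := StructuredArrow.homMk k.1 (by
    have := k.2
    show eqToHom x.2.symm ≫ f.map k.1 = eqToHom x'.2.symm
    rw [IsHomLift.fac' f (𝟙 Y) k.1]
    simp)
  map_id x := StructuredArrow.hom_ext _ _ rfl
  map_comp k k' := StructuredArrow.hom_ext _ _ rfl

variable [f.IsPreFibered]

/-- the chosen cartesian lift of an object of the comma category. -/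
noncomputable def xb (b : StructuredArrow Y f) : f.Fiber Y :=
  ⟨IsPreFibered.pullbackObj (p := f) (a := b.right) rfl b.hom,
    IsPreFibered.pullbackObj_proj rfl b.hom⟩

noncomputable def mb (b : StructuredArrow Y f) : (xb f Y b).1 ⟶ b.right :=
  IsPreFibered.pullbackMap (p := f) (a := b.right) rfl b.hom

instance mb_cart (b : StructuredArrow Y f) : f.IsCartesian b.hom (mb f Y b) :=
  IsPreFibered.pullbackMap.IsCartesian rfl b.hom

/-- the counit. -/
noncomputable def eps (b : StructuredArrow Y f) : (LL f Y).obj (xb f Y b) ⟶ b :=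
  StructuredArrow.homMk (mb f Y b) (by
    show eqToHom (xb f Y b).2.symm ≫ f.map (mb f Y b) = b.hom
    rw [IsHomLift.fac' f b.hom (mb f Y b)]
    simp)

theorem exists_kmap {b b' : StructuredArrow Y f} (h : b ⟶ b') :
    ∃ k : xb f Y b ⟶ xb f Y b', (LL f Y).map k ≫ eps f Y b' = eps f Y b ≫ h := by
  have hl : f.IsHomLift b'.hom (mb f Y b ≫ h.right) := by
    have h1 : f.IsHomLift (b.hom ≫ f.map h.right) (mb f Y b ≫ h.right) := inferInstance
    rw [StructuredArrow.w h] at h1
    exact h1
  refine ⟨⟨IsCartesian.map f b'.hom (mb f Y b') (mb f Y b ≫ h.right),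
    IsCartesian.map_isHomLift f b'.hom (mb f Y b') (mb f Y b ≫ h.right)⟩, ?_⟩
  apply StructuredArrow.hom_ext
  exact IsCartesian.fac f b'.hom (mb f Y b') (mb f Y b ≫ h.right)

theorem const_of_fiber (hA : HasContractibleNerve.{w, w} (f.Fiber Y)) {S : Sort*}
    (t : StructuredArrow Y f → S)
    (ht : ∀ b b' : StructuredArrow Y f, (b ⟶ b') → t b = t b') (b b' : StructuredArrow Y f) :
    t b = t b' := by
  have h1 : ∀ b, t ((LL f Y).obj (xb f Y b)) = t b := fun b => ht _ _ (eps f Y b)
  have h2 := const_of_hcn hA (fun x => t ((LL f Y).obj x))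
    (fun x x' k => ht _ _ ((LL f Y).map k)) (xb f Y b) (xb f Y b')
  exact (h1 b).symm.trans (h2.trans (h1 b'))

/-- the comma categories of a prefibred functor are simply connected when its fibres are. -/
theorem hcn_structuredArrow (hA : HasContractibleNerve.{w, w} (f.Fiber Y)) :
    HasContractibleNerve.{w, w} (StructuredArrow Y f) := by
  obtain ⟨x₀⟩ := hA.1
  refine ⟨⟨(LL f Y).obj x₀⟩, fun G _ => ?_⟩
  refine { faithful := ⟨?_⟩, full := ⟨?_⟩, essSurj := ⟨?_⟩ }
  · intro g g' τ τ' h
    exact congrFun (congrArg NatTrans.app h) ((LL f Y).obj x₀)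
  · intro g g' ν
    refine ⟨ν.app ((LL f Y).obj x₀), ?_⟩
    ext b
    exact const_of_fiber f Y hA (fun b => (ν.app b : g ⟶ g'))
      (fun b b' h => (Category.comp_id _).symm.trans
        ((ν.naturality h).symm.trans (Category.id_comp _)))
      ((LL f Y).obj x₀) b
  · intro T
    have hE := (hA.2 G).essSurj
    obtain ⟨g, ⟨θ⟩⟩ := @Functor.EssSurj.mem_essImage _ _ _ _ _ hE (LL f Y ⋙ T)
    have nat : ∀ (b b' : StructuredArrow Y f) (h : b ⟶ b'),
        θ.hom.app (xb f Y b') ≫ T.map (eps f Y b') =
          (θ.hom.app (xb f Y b) ≫ T.map (eps f Y b)) ≫ T.map h := by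
      intro b b' h
      obtain ⟨k, hk⟩ := exists_kmap f Y h
      have h1 : θ.hom.app (xb f Y b') = θ.hom.app (xb f Y b) ≫ T.map ((LL f Y).map k) :=
        (Category.id_comp _).symm.trans (θ.hom.naturality k)
      rw [h1, Category.assoc, Category.assoc, ← T.map_comp, ← T.map_comp, hk]
    refine ⟨g, ⟨NatIso.ofComponents
      (fun b => asIso (θ.hom.app (xb f Y b) ≫ T.map (eps f Y b))) ?_⟩⟩
    intro b b' h
    exact (Category.id_comp _).trans (nat b b' h)

end Groth.Agent.H36.SecRestrFib
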