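import Groth.Agent.H32.RepStack
import Mathlib.CategoryTheory.Sites.Over

/-!
# Stacks over a slice site and restriction of sections along a sieve (helper36)

* `isEquivalence_of_retract`: a strict retract of an equivalence of categories is an equivalence.
* `restr_ιB_equiv`: if `𝒴'` is a stack over the slice site `(C/U, J.over U)` and `R ∈ J U`, then
  restriction of sections of `𝒴'` (functors `C/U ⥤ 𝒴'` which are sections of the structure
  functor) to the sieve `R` is an equivalence.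
* `restr_faithful'`, `restr_full'`, `restr_essSurj'`: relative versions of
  `Groth.Agent.H32.RepStack.restr_*`, where the hypothesis on the fibre products `ℬ ×_𝒴 𝒳` only
  concerns sections over `ℬ` (resp. over `𝒜 ⟶ ℬ`).
-/

set_option autoImplicit false
open CategoryTheory
universe v₅ u₅ v₄ u₄ v₃ u₃ v₂ u₂ v u

namespace Groth.Agent.H36.StkOver

open FibCat Groth.Agent.H32.FibProd Groth.Agent.H32.StkFp Groth.Agent.H32.RepStack

section retract

variable {Γ₁ : Type u₂} [Category.{v₂} Γ₁] {Γ₂ : Type u₃} [Category.{v₃} Γ₂]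
  {Ξ₁ : Type u₄} [Category.{v₄} Ξ₁] {Ξ₂ : Type u₅} [Category.{v₅} Ξ₂]

/-- a (strict) retract of an equivalence of categories is an equivalence. -/
theorem isEquivalence_of_retract (Φ : Γ₁ ⥤ Γ₂) (Ψ : Ξ₁ ⥤ Ξ₂) (e : Γ₁ ⥤ Ξ₁) (t : Ξ₁ ⥤ Γ₁)
    (e' : Γ₂ ⥤ Ξ₂) (t' : Ξ₂ ⥤ Γ₂) (h1 : e ⋙ t = 𝟭 Γ₁) (h2 : e' ⋙ t' = 𝟭 Γ₂)
    (h3 : e ⋙ Ψ = Φ ⋙ e') (h4 : t ⋙ Φ = Ψ ⋙ t') [Ψ.IsEquivalence] : Φ.IsEquivalence := by
  have o1 : ∀ σ, t.obj (e.obj σ) = σ := fun σ => Functor.congr_obj h1 σ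
  have o2 : ∀ τ, t'.obj (e'.obj τ) = τ := fun τ => Functor.congr_obj h2 τ
  have o3 : ∀ σ, Ψ.obj (e.obj σ) = e'.obj (Φ.obj σ) := fun σ => Functor.congr_obj h3 σ
  have o4 : ∀ ξ, Φ.obj (t.obj ξ) = t'.obj (Ψ.obj ξ) := fun ξ => Functor.congr_obj h4 ξ
  have m1 : ∀ {σ σ' : Γ₁} (f : σ ⟶ σ'),
      t.map (e.map f) = eqToHom (o1 σ) ≫ f ≫ eqToHom (o1 σ').symm :=
    fun f => Functor.congr_hom h1 f
  have m2 : ∀ {τ τ' : Γ₂} (γ : τ ⟶ τ'),
      t'.map (e'.map γ) = eqToHom (o2 τ) ≫ γ ≫ eqToHom (o2 τ').symm :=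
    fun γ => Functor.congr_hom h2 γ
  have m3 : ∀ {σ σ' : Γ₁} (f : σ ⟶ σ'),
      Ψ.map (e.map f) = eqToHom (o3 σ) ≫ e'.map (Φ.map f) ≫ eqToHom (o3 σ').symm :=
    fun f => Functor.congr_hom h3 f
  have m4 : ∀ {ξ ξ' : Ξ₁} (α : ξ ⟶ ξ'),
      Φ.map (t.map α) = eqToHom (o4 ξ) ≫ t'.map (Ψ.map α) ≫ eqToHom (o4 ξ').symm :=
    fun α => Functor.congr_hom h4 α
  refine { faithful := ⟨fun {σ₁ σ₂} f g hfg => ?_⟩, full := ⟨fun {σ₁ σ₂} γ => ?_⟩,
           essSurj := ⟨fun τ => ?_⟩ }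
  · have a2 : Ψ.map (e.map f) = Ψ.map (e.map g) := by rw [m3, m3, hfg]
    have a3 : e.map f = e.map g := Ψ.map_injective a2
    have a4 : t.map (e.map f) = t.map (e.map g) := by rw [a3]
    rw [m1, m1] at a4
    have a5 := congrArg (fun x => eqToHom (o1 σ₁).symm ≫ x ≫ eqToHom (o1 σ₂)) a4
    simpa using a5
  · let γ' : Ψ.obj (e.obj σ₁) ⟶ Ψ.obj (e.obj σ₂) :=
      eqToHom (o3 σ₁) ≫ e'.map γ ≫ eqToHom (o3 σ₂).symm
    refine ⟨eqToHom (o1 σ₁).symm ≫ t.map (Ψ.preimage γ') ≫ eqToHom (o1 σ₂), ?_⟩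
    rw [Functor.map_comp, Functor.map_comp, m4, Functor.map_preimage]
    simp only [γ', Functor.map_comp, eqToHom_map, m2, Category.assoc, eqToHom_trans,
      eqToHom_trans_assoc, eqToHom_refl, Category.id_comp, Category.comp_id]
  · exact ⟨t.obj (Ψ.objPreimage (e'.obj τ)),
      ⟨eqToIso (o4 _) ≪≫ t'.mapIso (Ψ.objObjPreimageIso (e'.obj τ)) ≪≫ eqToIso (o2 τ)⟩⟩

end retract

section defs

variable {C : Type u} [Category.{v} C]

theorem isHomLift_comp' {B : Type u₂} [Category.{v₂} B] {P : Type u₃} [Category.{v₃} P]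
    (K : P ⥤ B) (p : B ⥤ C) {R S : C} (f : R ⟶ S) {x y : B} (γ : x ⟶ y) {a b : P} (m : a ⟶ b)
    (h1 : K.IsHomLift γ m) (h2 : p.IsHomLift f γ) : (K ⋙ p).IsHomLift f m := by
  obtain ⟨⟩ := h1
  obtain ⟨⟩ := h2
  exact IsHomLift.map (K ⋙ p) m

variable {𝒜 : BasedCategory.{v₅, u₅} C} {ℬ : BasedCategory.{v₄, u₄} C} (ι : 𝒜 ⥤ᵇ ℬ)
  {𝒳 : BasedCategory.{v₂, u₂} C} {𝒴 : BasedCategory.{v₃, u₃} C} (j : 𝒳 ⥤ᵇ 𝒴)

/-- `ℬ` as a category over itself. -/
abbrev selfB (ℬ : BasedCategory.{v₄, u₄} C) : BasedCategory.{v₄, u₄} ℬ.obj := .ofFunctor (𝟭 ℬ.obj)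

/-- `𝒜` as a category over `ℬ` via `ι`. -/
abbrev srcB : BasedCategory.{v₅, u₅} ℬ.obj := .ofFunctor ι.toFunctor

/-- `ι` as a functor over `ℬ`. -/
def ιB : srcB ι ⥤ᵇ selfB ℬ where
  toFunctor := ι.toFunctor
  w := rfl

/-- the fibre product `ℬ ×_𝒴 𝒳` as a category over `ℬ` via the first projection. -/
abbrev relCat (y : ℬ ⥤ᵇ 𝒴) : BasedCategory.{max v₄ v₂, max u₄ u₂ v₃} ℬ.obj :=
  .ofFunctor (fpFst y j).toFunctor

end defs

section translate

variable {C : Type u} [Category.{v} C]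

/-- a section of the forgetful functor `Over (𝟙 U) ⥤ Over U`. -/
def Tfun (U : C) : Over U ⥤ Over (Over.mk (𝟙 U)) where
  obj b := Over.mk (Over.homMk b.hom (by simp) : b ⟶ Over.mk (𝟙 U))
  map {b b'} f := Over.homMk f (by ext; simp)
  map_id := fun _ => Over.OverMorphism.ext rfl
  map_comp := fun _ _ => Over.OverMorphism.ext rfl

variable {U : C}

/-- the sieve on the terminal object of `Over U` corresponding to `R`. -/
def Rt (R : Sieve U) : Sieve (Over.mk (𝟙 U)) := (Sieve.overEquiv (Over.mk (𝟙 U))).symm R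

theorem mem_Rt (R : Sieve U) {Z : Over U} (f : Z ⟶ Over.mk (𝟙 U)) :
    (Rt R).arrows f ↔ R.arrows f.left := Sieve.overEquiv_symm_iff R f

/-- `Over U` as a category over itself. -/
abbrev selfO (U : C) : BasedCategory.{v, max u v} (Over U) := .ofFunctor (𝟭 (Over U))

/-- the sieve `R` as a category over `Over U`. -/
abbrev srcO (R : Sieve U) : BasedCategory.{v, max u v} (Over U) :=
  .ofFunctor (ObjectProperty.ι (fun f : Over U => R.arrows f.hom))

/-- the inclusion of the sieve as a functor over `Over U`. -/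
def ιO (R : Sieve U) : srcO R ⥤ᵇ selfO U where
  toFunctor := ObjectProperty.ι _
  w := rfl

/-- `Over (𝟙 U) ⥤ Over U` as a functor over `Over U`. -/
def Eb (U : C) : FibCat.overCat (Over.mk (𝟙 U)) ⥤ᵇ selfO U where
  toFunctor := Over.forget (Over.mk (𝟙 U))
  w := rfl

/-- its section as a functor over `Over U`. -/
def Tb (U : C) : selfO U ⥤ᵇ FibCat.overCat (Over.mk (𝟙 U)) where
  toFunctor := Tfun U
  w := rfl

/-- the sieve `Rt R` maps to `R`. -/
def E'b (R : Sieve U) : Stk.sieveCat (Rt R) ⥤ᵇ srcO R where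
  toFunctor := ObjectProperty.lift (fun f : Over U => R.arrows f.hom) ((Rt R).arrows.diagram)
    (fun b => by
      have h := (mem_Rt R b.obj.hom).mp b.property
      have e : (b.obj.hom.left : b.obj.left.left ⟶ U) = b.obj.left.hom :=
        (Category.comp_id _).symm.trans (Over.w b.obj.hom)
      show R.arrows b.obj.left.hom
      exact (congrArg (fun m => R.arrows m) e).mp h)
  w := rfl

/-- the sieve `R` maps to `Rt R`. -/
def T_Rb (R : Sieve U) : srcO R ⥤ᵇ Stk.sieveCat (Rt R) where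
  toFunctor := ObjectProperty.lift (fun f : Over (Over.mk (𝟙 U)) => (Rt R).arrows f.hom)
    (ObjectProperty.ι (fun f : Over U => R.arrows f.hom) ⋙ Tfun U)
    (fun c => (mem_Rt R _).mpr c.property)
  w := rfl

/-- if `𝒴'` is a stack over the slice site `(C/U, J.over U)` and `R ∈ J U`, then restriction of
sections of `𝒴'` over `C/U` to the sieve `R` is an equivalence. -/
theorem restr_ιO_equiv (J : GrothendieckTopology C) (R : Sieve U) (hR : R ∈ J U)
    (𝒴' : BasedCategory.{v₂, u₂} (Over U)) (hst : Stk.IsStack (J.over U) 𝒴') :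
    (Stk.restr (ιO R) 𝒴').IsEquivalence := by
  have hΨ : (Stk.restr (Stk.sieveIncl (Rt R)) 𝒴').IsEquivalence :=
    hst.2 (Rt R) (J.overEquiv_symm_mem_over (Over.mk (𝟙 U)) R hR)
  exact isEquivalence_of_retract (Stk.restr (ιO R) 𝒴') (Stk.restr (Stk.sieveIncl (Rt R)) 𝒴')
    (Stk.restr (Eb U) 𝒴') (Stk.restr (Tb U) 𝒴') (Stk.restr (E'b R) 𝒴') (Stk.restr (T_Rb R) 𝒴')
    rfl rfl rfl rfl

end translate

section rel

variable {C : Type u} [Category.{v} C]
variable {𝒜 : BasedCategory.{v₅, u₅} C} {ℬ : BasedCategory.{v₄, u₄} C} (ι : 𝒜 ⥤ᵇ ℬ)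
  {𝒳 : BasedCategory.{v₂, u₂} C} {𝒴 : BasedCategory.{v₃, u₃} C} (j : 𝒳 ⥤ᵇ 𝒴)

theorem isHomLift_fpFst_mkHom (y : ℬ ⥤ᵇ 𝒴) {z' z : (fp y j).obj} (a : z'.obj.fst ⟶ z.obj.fst)
    (b : z'.obj.snd ⟶ z.obj.snd) (w : y.map a ≫ z.obj.iso.hom = z'.obj.iso.hom ≫ j.map b) :
    (fpFst y j).toFunctor.IsHomLift a (mkHom y j a b w) :=
  IsHomLift.map (fpFst y j).toFunctor (mkHom y j a b w)

theorem restr_faithful' (h𝒴 : IsFibGrpd 𝒴.p)
    (h1 : (Stk.restr ι 𝒴).Faithful)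
    (h2 : ∀ y : ℬ ⥤ᵇ 𝒴, (Stk.restr (ιB ι) (relCat j y)).Faithful) :
    (Stk.restr ι 𝒳).Faithful := by
  refine ⟨fun {G H} α β hαβ => ?_⟩
  have hαβ' : ∀ a, α.toNatTrans.app (ι.obj a) = β.toNatTrans.app (ι.obj a) := fun a =>
    congrArg (fun δ => δ.toNatTrans.app a) hαβ
  have e0 : BasedCategory.whiskerRight α j = BasedCategory.whiskerRight β j := by
    apply (Stk.restr ι 𝒴).map_injective
    apply BasedNatTrans.homCategory.ext
    ext a
    change j.map (α.toNatTrans.app (ι.obj a)) = j.map (β.toNatTrans.app (ι.obj a))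
    rw [hαβ' a]
  have e0' : ∀ X, j.map (α.toNatTrans.app X) = j.map (β.toNatTrans.app X) := fun X =>
    congrArg (fun δ => δ.toNatTrans.app X) e0
  let G' := lift j h𝒴 G G (𝟙 _)
  let H' := lift j h𝒴 G H (BasedCategory.whiskerRight α j)
  have wα : ∀ X, (BasedFunctor.comp G j).map (𝟙 X) ≫ (H'.obj X).obj.iso.hom =
      (G'.obj X).obj.iso.hom ≫ j.map (α.toNatTrans.app X) := by
    intro X
    change (BasedFunctor.comp G j).map (𝟙 X) ≫ j.map (α.toNatTrans.app X) =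
      𝟙 _ ≫ j.map (α.toNatTrans.app X)
    rw [(BasedFunctor.comp G j).toFunctor.map_id]
    rfl
  have wβ : ∀ X, (BasedFunctor.comp G j).map (𝟙 X) ≫ (H'.obj X).obj.iso.hom =
      (G'.obj X).obj.iso.hom ≫ j.map (β.toNatTrans.app X) := by
    intro X
    change (BasedFunctor.comp G j).map (𝟙 X) ≫ j.map (α.toNatTrans.app X) =
      𝟙 _ ≫ j.map (β.toNatTrans.app X)
    rw [(BasedFunctor.comp G j).toFunctor.map_id, e0' X]
    rfl
  let G'B : selfB ℬ ⥤ᵇ relCat j (BasedFunctor.comp G j) := { toFunctor := G'.toFunctor, w := rfl }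
  let H'B : selfB ℬ ⥤ᵇ relCat j (BasedFunctor.comp G j) := { toFunctor := H'.toFunctor, w := rfl }
  let α' : G'B ⟶ H'B :=
    { app := fun X => mkHom (BasedFunctor.comp G j) j (𝟙 X) (α.toNatTrans.app X) (wα X)
      naturality := fun X X' k => fp_hom_ext _ _
        ((Category.comp_id k).trans (Category.id_comp k).symm) (α.toNatTrans.naturality k)
      isHomLift' := fun X => isHomLift_fpFst_mkHom j (BasedFunctor.comp G j)
        (z' := G'.obj X) (z := H'.obj X) (𝟙 X) (α.toNatTrans.app X) (wα X) }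
  let β' : G'B ⟶ H'B :=
    { app := fun X => mkHom (BasedFunctor.comp G j) j (𝟙 X) (β.toNatTrans.app X) (wβ X)
      naturality := fun X X' k => fp_hom_ext _ _
        ((Category.comp_id k).trans (Category.id_comp k).symm) (β.toNatTrans.naturality k)
      isHomLift' := fun X => isHomLift_fpFst_mkHom j (BasedFunctor.comp G j)
        (z' := G'.obj X) (z := H'.obj X) (𝟙 X) (β.toNatTrans.app X) (wβ X) }
  have e1 : α' = β' := by
    apply (h2 (BasedFunctor.comp G j)).map_injective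
    apply BasedNatTrans.homCategory.ext
    refine NatTrans.ext (funext fun a => ?_)
    exact fp_hom_ext _ _ rfl (hαβ' a)
  apply BasedNatTrans.homCategory.ext
  refine NatTrans.ext (funext fun X => ?_)
  exact congrArg (fun δ => (δ.toNatTrans.app X).hom.snd) e1

theorem restr_full' (h𝒴 : IsFibGrpd 𝒴.p)
    (h1 : (Stk.restr ι 𝒴).Full)
    (h2 : ∀ y : ℬ ⥤ᵇ 𝒴, (Stk.restr (ιB ι) (relCat j y)).Full) : (Stk.restr ι 𝒳).Full := by
  refine ⟨fun {G H} β => ?_⟩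
  obtain ⟨σ, hσ⟩ := h1.map_surjective
    (show (Stk.restr ι 𝒴).obj (BasedFunctor.comp G j) ⟶ (Stk.restr ι 𝒴).obj (BasedFunctor.comp H j)
      from BasedCategory.whiskerRight β j)
  have hσ' : ∀ a, σ.toNatTrans.app (ι.obj a) = j.map (β.toNatTrans.app a) := fun a =>
    congrArg (fun δ => δ.toNatTrans.app a) hσ
  let G' := lift j h𝒴 G G (𝟙 _)
  let H' := lift j h𝒴 G H σ
  have wβ : ∀ a, (BasedFunctor.comp G j).map (𝟙 (ι.obj a)) ≫ (H'.obj (ι.obj a)).obj.iso.hom =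
      (G'.obj (ι.obj a)).obj.iso.hom ≫ j.map (β.toNatTrans.app a) := by
    intro a
    change (BasedFunctor.comp G j).map (𝟙 (ι.obj a)) ≫ σ.toNatTrans.app (ι.obj a) =
      𝟙 _ ≫ j.map (β.toNatTrans.app a)
    rw [(BasedFunctor.comp G j).toFunctor.map_id, hσ' a]
    rfl
  let G'B : selfB ℬ ⥤ᵇ relCat j (BasedFunctor.comp G j) := { toFunctor := G'.toFunctor, w := rfl }
  let H'B : selfB ℬ ⥤ᵇ relCat j (BasedFunctor.comp G j) := { toFunctor := H'.toFunctor, w := rfl }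
  let β' : (Stk.restr (ιB ι) (relCat j (BasedFunctor.comp G j))).obj G'B ⟶
      (Stk.restr (ιB ι) (relCat j (BasedFunctor.comp G j))).obj H'B :=
    { app := fun a => mkHom (BasedFunctor.comp G j) j (𝟙 (ι.obj a)) (β.toNatTrans.app a) (wβ a)
      naturality := fun a a' k => fp_hom_ext _ _
        ((Category.comp_id (ι.map k)).trans (Category.id_comp (ι.map k)).symm)
        (β.toNatTrans.naturality k)
      isHomLift' := fun a => isHomLift_fpFst_mkHom j (BasedFunctor.comp G j)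
        (z' := G'.obj (ι.obj a)) (z := H'.obj (ι.obj a)) (𝟙 (ι.obj a)) (β.toNatTrans.app a) (wβ a) }
  obtain ⟨α', hα'⟩ := (h2 (BasedFunctor.comp G j)).map_surjective β'
  have hα'' : ∀ a, (α'.toNatTrans.app (ι.obj a)).hom.snd = β.toNatTrans.app a := fun a =>
    congrArg (fun δ => (δ.toNatTrans.app a).hom.snd) hα'
  refine ⟨{ app := fun X => (α'.toNatTrans.app X).hom.snd
            naturality := fun X X' k =>
              congrArg (fun m => m.hom.snd) (α'.toNatTrans.naturality k)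
            isHomLift' := fun X => by
              have hB : (fpFst (BasedFunctor.comp G j) j).toFunctor.IsHomLift (𝟙 X)
                  (α'.toNatTrans.app X) := α'.isHomLift' X
              have hC : (fp (BasedFunctor.comp G j) j).p.IsHomLift (𝟙 (ℬ.p.obj X))
                  (α'.toNatTrans.app X) :=
                isHomLift_comp' _ ℬ.p (𝟙 (ℬ.p.obj X)) (𝟙 X) _ hB (IsHomLift.id rfl)
              exact fp_isHomLift_snd' _ _ (𝟙 (ℬ.p.obj X)) (α'.toNatTrans.app X) }, ?_⟩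
  apply BasedNatTrans.homCategory.ext
  refine NatTrans.ext (funext fun a => ?_)
  exact hα'' a

theorem restr_essSurj' (h𝒳 : IsFibGrpd 𝒳.p)
    (h1 : (Stk.restr ι 𝒴).EssSurj)
    (h2 : ∀ y : ℬ ⥤ᵇ 𝒴, (Stk.restr (ιB ι) (relCat j y)).EssSurj) : (Stk.restr ι 𝒳).EssSurj := by
  refine ⟨fun D => ?_⟩
  obtain ⟨y, ⟨θ⟩⟩ := h1.mem_essImage (BasedFunctor.comp D j)
  let D' : 𝒜 ⥤ᵇ fp y j := fpLift (F := y) (G := j) ι D θ
  let D'B : srcB ι ⥤ᵇ relCat j y := { toFunctor := D'.toFunctor, w := rfl }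
  obtain ⟨G'B, ⟨ε⟩⟩ := (h2 y).mem_essImage D'B
  let K : ℬ.obj ⥤ (fp y j).obj := G'B.toFunctor
  have e1 : (fpSnd y j).toFunctor ⋙ 𝒳.p = (fpFst y j).toFunctor ⋙ ℬ.p := (fpSnd y j).w
  have e2 : K ⋙ (fpFst y j).toFunctor = 𝟭 ℬ.obj := G'B.w
  have hw : (K ⋙ (fpSnd y j).toFunctor) ⋙ 𝒳.p = ℬ.p :=
    (congrArg (fun Q => K ⋙ Q) e1).trans (congrArg (fun Q => Q ⋙ ℬ.p) e2)
  let G : ℬ ⥤ᵇ 𝒳 := { toFunctor := K ⋙ (fpSnd y j).toFunctor, w := hw }
  let ε' : (Stk.restr ι 𝒳).obj G ⟶ D :=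
    { app := fun a => (ε.hom.toNatTrans.app a).hom.snd
      naturality := fun a a' k =>
        congrArg (fun m => m.hom.snd) (ε.hom.toNatTrans.naturality k)
      isHomLift' := fun a => by
        have hB : (fpFst y j).toFunctor.IsHomLift (𝟙 (ι.obj a)) (ε.hom.toNatTrans.app a) :=
          ε.hom.isHomLift' a
        have hC : (fp y j).p.IsHomLift (𝟙 (ℬ.p.obj (ι.obj a))) (ε.hom.toNatTrans.app a) :=
          isHomLift_comp' _ ℬ.p (𝟙 (ℬ.p.obj (ι.obj a))) (𝟙 (ι.obj a)) _ hB (IsHomLift.id rfl)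
        have hD : (fp y j).p.IsHomLift (𝟙 (𝒜.p.obj a)) (ε.hom.toNatTrans.app a) :=
          isHomLift_id_of_eq (fp y j).p (ι.w_obj a) _ hC
        exact fp_isHomLift_snd' _ _ (𝟙 (𝒜.p.obj a)) (ε.hom.toNatTrans.app a) }
  have := isIso_natTrans h𝒳 ε'
  exact ⟨G, ⟨asIso ε'⟩⟩

end rel

end Groth.Agent.H36.StkOver
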