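import Groth.Agent.H56.PerfDual
import Groth.Agent.S6515
import Groth.Agent.H31.KFlat

/-!
# Homology of `Tot(K ⊗ -)` along a mapping cone (helper36, piece (P2') for helper31's S6498 squad)
-/

set_option autoImplicit false
universe u
open CategoryTheory CategoryTheory.Limits AlgebraicGeometry HomologicalComplex
  CategoryTheory.Pretriangulated
attribute [local instance] HasDerivedCategory.standard

namespace Groth.Agent.H36.TotCone

/-- (P2') -/
theorem nonempty_homology_tot_cone_iso {Z : Scheme.{u}} (K A B : CochainComplex Z.Modules ℤ)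
    (f : A ⟶ B) (i j : ℤ) (hij : j + 1 = i)
    (hj : IsZero (((DCoh.tensorCx.obj K).obj (CochainComplex.mappingCone f)).homology j))
    (hi : IsZero (((DCoh.tensorCx.obj K).obj (CochainComplex.mappingCone f)).homology i)) :
    Nonempty (((DCoh.tensorCx.obj K).obj (A⟦(1 : ℤ)⟧)).homology j ≅
      ((DCoh.tensorCx.obj K).obj B).homology i) := by
  have hS : ((CochainComplex.mappingCone.triangleRotateShortComplex f).map
      ((DCoh.tensorBi (X := Z)).map₂CochainComplex.obj K)).ShortExact :=
    Groth.Agent.H31.KFlat.shortExact_map_obj_of_split (DCoh.tensorBi (X := Z)) K _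
      (fun n => ⟨CochainComplex.mappingCone.triangleRotateShortComplexSplitting f n⟩)
  exact ⟨hS.δIso j i hij hj hi⟩

end Groth.Agent.H36.TotCone
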